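import Mathlib
import Groth.Prelude.Def_BlowUp2
import Groth.Agent.LinType.Basic

/-!
# The exceptional divisor on a chart of the blow-up along a quasi-regular sequence

For `r : Fin n → A` quasi-regular generating `I` and a chart index `j`, the ring
`A[I/rⱼ] / rⱼ` is the polynomial ring over `A/I` in the `rᵢ/rⱼ`, `i ≠ j`.
-/

universe u

open MvPolynomial

namespace Groth.Agent.CIntLib

variable {A : Type u} [CommRing A] {n : ℕ}

/-- `x ↦ x/a` on `I`. -/
noncomputable def fracOf (I : Ideal A) (a x : A) (hx : x ∈ I) : BlowUp.affineAlgebra A I a :=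
  ⟨IsLocalization.mk' (Localization.Away a) x ⟨a, Submonoid.mem_powers a⟩,
    Algebra.subset_adjoin ⟨x, hx, rfl⟩⟩

variable (r : Fin n → A) (j : Fin n)

/-- The fractions `rᵢ/rⱼ` in the affine blow-up algebra. -/
noncomputable def ratio (i : Fin n) :
    BlowUp.affineAlgebra A (Ideal.span (Set.range r)) (r j) :=
  fracOf _ (r j) (r i) (Ideal.subset_span ⟨i, rfl⟩)

theorem ratio_self : ratio r j j = 1 :=
  Subtype.ext (IsLocalization.mk'_self _ (Submonoid.mem_powers _))

theorem algebraMap_mul_ratio (i : Fin n) :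
    algebraMap A _ (r j) * ratio r j i = algebraMap A _ (r i) :=
  Subtype.ext (IsLocalization.mk'_spec' (Localization.Away (r j)) (r i)
    ⟨r j, Submonoid.mem_powers _⟩)

/-- The substitution `Xᵢ ↦ rᵢ/rⱼ`, `i ≠ j`. -/
noncomputable def ratioHom : MvPolynomial {i : Fin n // i ≠ j} A →ₐ[A]
    BlowUp.affineAlgebra A (Ideal.span (Set.range r)) (r j) :=
  aeval fun i => ratio r j i.1

theorem ratio_mem_range (i : Fin n) : ratio r j i ∈ (ratioHom r j).range := by
  by_cases h : i = j
  · subst h; rw [ratio_self]; exact one_mem _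
  · exact ⟨X ⟨i, h⟩, aeval_X _ _⟩

theorem ratioHom_surjective : Function.Surjective (ratioHom r j) := by
  rintro ⟨q, hq⟩
  suffices q ∈ (ratioHom r j).range.map (BlowUp.affineAlgebra A _ (r j)).val by
    obtain ⟨b, ⟨P, rfl⟩, hb⟩ := this
    exact ⟨P, Subtype.ext hb⟩
  refine (Algebra.adjoin_le fun y hy => ?_) (hq : q ∈ Algebra.adjoin A _)
  obtain ⟨x, hx, rfl⟩ := hy
  obtain ⟨c, rfl⟩ := (Ideal.mem_span_range_iff_exists_fun).mp hx
  refine ⟨∑ i, c i • ratio r j i, sum_mem fun i _ => Subalgebra.smul_mem _ (ratio_mem_range r j i) _, ?_⟩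
  rw [map_sum]
  refine (?_ : _ = _)
  rw [eq_comm, IsLocalization.mk'_eq_iff_eq_mul, map_sum, Finset.sum_mul]
  refine Finset.sum_congr rfl fun i _ => ?_
  change _ = (c i • (ratio r j i).1) * _
  rw [Algebra.smul_def, mul_assoc, map_mul]
  congr 1
  exact (IsLocalization.mk'_spec (Localization.Away (r j)) (r i) ⟨r j, Submonoid.mem_powers _⟩).symm

theorem aeval_const_mul {σ : Type*} {S : Type*} [CommRing S] [Algebra A S] {d : ℕ}
    {P : MvPolynomial σ A} (hP : P.IsHomogeneous d) (s : S) (t : σ → S) :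
    aeval (fun i => s * t i) P = s ^ d * aeval t P := by
  conv_lhs => rw [P.as_sum]
  conv_rhs => rw [P.as_sum]
  rw [map_sum, map_sum, Finset.mul_sum]
  refine Finset.sum_congr rfl fun e he => ?_
  rw [aeval_monomial, aeval_monomial, Finsupp.prod, Finsupp.prod]
  simp only [mul_pow, Finset.prod_mul_distrib, Finset.prod_pow_eq_pow_sum]
  have : ∑ i ∈ e.support, e i = d := by
    have h1 := hP (MvPolynomial.mem_support_iff.mp he)
    simpa [Finsupp.weight_apply, Finsupp.sum] using h1
  rw [this]
  ring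

/-- Homogenisation: `P(rᵢ/rⱼ)·rⱼ^d = F(r)`. -/
theorem exists_homogenisation (P : MvPolynomial {i : Fin n // i ≠ j} A) {d : ℕ}
    (hd : P.totalDegree ≤ d) :
    ∃ F : MvPolynomial (Fin n) A, F.IsHomogeneous d ∧
      aeval (fun i => if h : i = j then 1 else X ⟨i, h⟩ : Fin n → MvPolynomial {i : Fin n // i ≠ j} A) F = P ∧
      algebraMap A (Localization.Away (r j)) (eval r F) =
        algebraMap A _ (r j) ^ d * (ratioHom r j P).1 := by
  let K : ℕ → MvPolynomial (Fin n) A := fun k =>
    rename Subtype.val (homogeneousComponent k P) * X j ^ (d - k)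
  have hsum : ∑ k ∈ Finset.range (d + 1), homogeneousComponent k P = P := by
    conv_rhs => rw [← sum_homogeneousComponent P]
    refine (Finset.sum_subset (Finset.range_mono (by omega)) fun k _ hk => ?_).symm
    rw [Finset.mem_range, not_lt] at hk
    exact homogeneousComponent_eq_zero k P (by omega)
  refine ⟨∑ k ∈ Finset.range (d + 1), K k, IsHomogeneous.sum _ _ _ fun k hk => ?_, ?_, ?_⟩
  · rw [Finset.mem_range] at hk
    convert (homogeneousComponent_isHomogeneous k P).rename_isHomogeneous.mul
      (isHomogeneous_X_pow (R := A) j (d - k)) using 1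
    omega
  · conv_rhs => rw [← hsum]
    rw [map_sum]
    refine Finset.sum_congr rfl fun k _ => ?_
    rw [map_mul, map_pow, aeval_X, dif_pos rfl, one_pow, mul_one, aeval_rename]
    conv_rhs => rw [← aeval_X_left_apply (homogeneousComponent k P)]
    congr 2
    funext i
    simp only [Function.comp_apply, dif_neg i.2]
  · rw [show (ratioHom r j P).1 = (BlowUp.affineAlgebra A _ (r j)).val
        (∑ k ∈ Finset.range (d + 1), ratioHom r j (homogeneousComponent k P)) by
      rw [← map_sum, hsum]; rfl]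
    rw [map_sum (eval r), map_sum (algebraMap A (Localization.Away (r j))),
      map_sum (BlowUp.affineAlgebra A (Ideal.span (Set.range r)) (r j)).val, Finset.mul_sum]
    refine Finset.sum_congr rfl fun k hk => ?_
    rw [Finset.mem_range] at hk
    simp only [K, map_mul, map_pow, eval_X, eval_rename]
    have h1 : algebraMap A (Localization.Away (r j))
          (eval (r ∘ Subtype.val) (homogeneousComponent k P)) =
        aeval (fun i : {i : Fin n // i ≠ j} => algebraMap A (Localization.Away (r j)) (r i.1))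
          (homogeneousComponent k P) := by
      rw [aeval_def, eval₂_comp]
      rfl
    rw [h1, show (fun i : {i : Fin n // i ≠ j} => algebraMap A (Localization.Away (r j)) (r i.1)) =
        fun i => algebraMap A (Localization.Away (r j)) (r j) * (ratio r j i.1).1 from
      funext fun i => (congrArg Subtype.val (algebraMap_mul_ratio r j i.1)).symm,
      aeval_const_mul (homogeneousComponent_isHomogeneous k P)]
    rw [show (BlowUp.affineAlgebra A _ (r j)).val (ratioHom r j (homogeneousComponent k P)) =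
        aeval (fun i : {i : Fin n // i ≠ j} => (ratio r j i.1).1) (homogeneousComponent k P) from
      (congrFun (congrArg DFunLike.coe (MvPolynomial.comp_aeval (fun i : {i : Fin n // i ≠ j} =>
        ratio r j i.1) (BlowUp.affineAlgebra A _ (r j)).val)) _)]
    rw [mul_comm, ← mul_assoc, ← pow_add, Nat.sub_add_cancel (by omega)]

/-- A polynomial whose value at the `rᵢ/rⱼ` is divisible by `rⱼ` has coefficients in `I`. -/
theorem mem_map_C_of_ratioHom_mem
    (hr : ∀ (d : ℕ) (P : MvPolynomial (Fin n) A), P.IsHomogeneous d →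
      eval r P ∈ Ideal.span (Set.range r) ^ (d + 1) →
        ∀ e, P.coeff e ∈ Ideal.span (Set.range r))
    {P : MvPolynomial {i : Fin n // i ≠ j} A}
    (hP : ratioHom r j P ∈ Ideal.span {algebraMap A _ (r j)}) :
    P ∈ Ideal.map C (Ideal.span (Set.range r)) := by
  set I := Ideal.span (Set.range r)
  obtain ⟨q, hq⟩ := Ideal.mem_span_singleton'.mp hP
  obtain ⟨Q, rfl⟩ := ratioHom_surjective r j q
  set d := max P.totalDegree Q.totalDegree
  obtain ⟨F, hFh, hFP, hF⟩ := exists_homogenisation r j P (le_max_left P.totalDegree Q.totalDegree)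
  obtain ⟨G, hGh, -, hG⟩ := exists_homogenisation r j Q (le_max_right P.totalDegree Q.totalDegree)
  have h1 : algebraMap A (Localization.Away (r j)) (eval r F) =
      algebraMap A _ (r j * eval r G) := by
    rw [map_mul, hF, hG, ← hq]
    show _ * ((ratioHom r j Q).1 * algebraMap A (Localization.Away (r j)) (r j)) = _
    ring
  obtain ⟨⟨_, N, rfl⟩, hN⟩ :=
    IsLocalization.exists_of_eq (M := Submonoid.powers (r j)) h1
  have hrj : r j ∈ I := Ideal.subset_span ⟨j, rfl⟩
  have hG' : eval r G ∈ I ^ d := by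
    rw [G.as_sum, map_sum]
    refine sum_mem fun e he => ?_
    rw [eval_monomial]
    refine Ideal.mul_mem_left _ _ ?_
    have hdeg : e.degree = d := by
      rw [Finsupp.degree_eq_weight_one]; exact hGh (MvPolynomial.mem_support_iff.mp he)
    rw [Finsupp.degree_apply] at hdeg
    rw [← hdeg, Finsupp.prod, ← Finset.prod_pow_eq_pow_sum]
    exact Ideal.prod_mem_prod fun i _ =>
      Ideal.pow_mem_pow (show r i ∈ I from Ideal.subset_span (Set.mem_range_self i)) _
  have hmem : eval r (X j ^ N * F) ∈ I ^ (N + d + 1) := by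
    rw [map_mul, map_pow, eval_X, show r j ^ N * eval r F = r j ^ N * (r j * eval r G) from hN,
      ← mul_assoc, ← pow_succ, show N + d + 1 = N + 1 + d by omega, pow_add I]
    exact Ideal.mul_mem_mul (Ideal.pow_mem_pow hrj _) hG'
  have hXF : X j ^ N * F ∈ Ideal.map C I :=
    mem_map_C_iff.mpr (hr _ _ ((isHomogeneous_X_pow j N).mul hFh) hmem)
  let π : MvPolynomial (Fin n) A →ₐ[A] MvPolynomial {i : Fin n // i ≠ j} A :=
    aeval fun i => if h : i = j then 1 else X ⟨i, h⟩
  have hle : Ideal.map C I ≤ (Ideal.map C I).comap π := by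
    rw [Ideal.map_le_iff_le_comap]
    intro c hc
    simpa [π] using Ideal.mem_map_of_mem C hc
  have h2 : π (X j ^ N * F) ∈ Ideal.map C I := hle hXF
  rwa [map_mul, map_pow, show π (X j) = 1 by simp [π], one_pow, one_mul, hFP] at h2

/-- The ring map `A/I → A[I/rⱼ]/I·A[I/rⱼ]`. -/
noncomputable def excMap : (A ⧸ Ideal.span (Set.range r)) →+*
    (BlowUp.affineAlgebra A (Ideal.span (Set.range r)) (r j) ⧸
      (Ideal.span (Set.range r)).map
        (algebraMap A (BlowUp.affineAlgebra A (Ideal.span (Set.range r)) (r j)))) :=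
  Ideal.quotientMap _ (algebraMap A (BlowUp.affineAlgebra A (Ideal.span (Set.range r)) (r j)))
    Ideal.le_comap_map

theorem excMap_comp : (excMap r j).comp (Ideal.Quotient.mk _) =
    (Ideal.Quotient.mk _).comp (algebraMap A _) :=
  RingHom.ext fun _ => rfl

/-- The exceptional ring of a chart is smooth over `A/I`. -/
theorem excMap_smooth
    (hr : ∀ (d : ℕ) (P : MvPolynomial (Fin n) A), P.IsHomogeneous d →
      eval r P ∈ Ideal.span (Set.range r) ^ (d + 1) →
        ∀ e, P.coeff e ∈ Ideal.span (Set.range r)) :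
    RingHom.Smooth (R := A ⧸ Ideal.span (Set.range r))
      (S := BlowUp.affineAlgebra A (Ideal.span (Set.range r)) (r j) ⧸
        (Ideal.span (Set.range r)).map
          (algebraMap A (BlowUp.affineAlgebra A (Ideal.span (Set.range r)) (r j)))) (excMap r j) := by
  set I := Ideal.span (Set.range r)
  set B := BlowUp.affineAlgebra A I (r j)
  set J : Ideal B := I.map (algebraMap A B)
  have hJ : J = Ideal.span {algebraMap A B (r j)} := by
    refine le_antisymm ?_ ((Ideal.span_singleton_le_iff_mem _).mpr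
      (Ideal.mem_map_of_mem _ (Ideal.subset_span ⟨j, rfl⟩)))
    rw [Ideal.map_le_iff_le_comap, Ideal.span_le]
    rintro _ ⟨i, rfl⟩
    exact Ideal.mem_span_singleton'.mpr ⟨ratio r j i, (mul_comm _ _).trans (algebraMap_mul_ratio r j i)⟩
  let ψ : A ⧸ I →+* B ⧸ J := excMap r j
  have hψ : ψ = algebraMap (A ⧸ I) (B ⧸ J) := Ideal.Quotient.ringHom_ext (RingHom.ext fun _ => rfl)
  suffices Algebra.Smooth (A ⧸ I) (B ⧸ J) by
    show RingHom.Smooth (R := A ⧸ I) (S := B ⧸ J) ψ
    rw [hψ]
    exact RingHom.smooth_algebraMap.mpr this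
  let Φ : MvPolynomial {i : Fin n // i ≠ j} (A ⧸ I) →ₐ[A ⧸ I] B ⧸ J :=
    aeval fun i => Ideal.Quotient.mk J (ratio r j i.1)
  have hΦ : ∀ P : MvPolynomial {i : Fin n // i ≠ j} A,
      Φ (MvPolynomial.map (Ideal.Quotient.mk I) P) = Ideal.Quotient.mk J (ratioHom r j P) := by
    intro P
    have : Φ.toRingHom.comp (MvPolynomial.map (Ideal.Quotient.mk I)) =
        (Ideal.Quotient.mk J).comp (ratioHom r j).toRingHom := by
      refine MvPolynomial.ringHom_ext (fun c => ?_) fun i => ?_
      · simp [Φ, ratioHom]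
        rfl
      · simp [Φ, ratioHom]
    exact congrArg (fun f => f P) this
  have hbij : Function.Bijective Φ := by
    refine ⟨(injective_iff_map_eq_zero _).mpr fun z hz => ?_, fun z => ?_⟩
    · obtain ⟨P, rfl⟩ := MvPolynomial.map_surjective _ Ideal.Quotient.mk_surjective z
      rw [hΦ, Ideal.Quotient.eq_zero_iff_mem, hJ] at hz
      have := mem_map_C_of_ratioHom_mem r j hr hz
      refine MvPolynomial.ext _ _ fun e => ?_
      rw [coeff_map, coeff_zero, Ideal.Quotient.eq_zero_iff_mem]
      exact mem_map_C_iff.mp this e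
    · obtain ⟨b, rfl⟩ := Ideal.Quotient.mk_surjective z
      obtain ⟨P, rfl⟩ := ratioHom_surjective r j b
      exact ⟨_, hΦ P⟩
  have : Algebra.Smooth (A ⧸ I) (MvPolynomial {i : Fin n // i ≠ j} (A ⧸ I)) :=
    ⟨inferInstance, inferInstance⟩
  exact Algebra.Smooth.of_equiv (AlgEquiv.ofBijective Φ hbij)

end Groth.Agent.CIntLib
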