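import Groth.Prelude.Def_Mor2
import Groth.Agent.BlowUpLib.Glue
import Groth.Agent.FComplLib.Spf
import Groth.Agent.CIntLib.BlowExcAlg
import Mathlib

/-!
# The exceptional divisor of the blow-up along a regular immersion is smooth over the centre
-/

universe u

open CategoryTheory CategoryTheory.Limits AlgebraicGeometry

namespace Groth.Agent.CIntLib

/-- A closed subscheme cut out on an open piece is an open piece of the closed subscheme. -/
theorem exists_lift_openImmersion {Z S T W : Scheme.{u}} (iX : W ⟶ T) [IsClosedImmersion iX]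
    (k : T ⟶ S) [IsOpenImmersion k] (i : Z ⟶ S) [IsClosedImmersion i] (h : i.ker.comap k = iX.ker) :
    ∃ l : W ⟶ Z, IsOpenImmersion l ∧ l ≫ i = iX ≫ k ∧
      ∀ z, i z ∈ Set.range k → z ∈ Set.range l := by
  have hker : (pullback.fst k i).ker = iX.ker := by
    rw [Scheme.IdealSheafData.ker_fst_of_isClosedImmersion, h]
  let e := IsClosedImmersion.lift (pullback.fst k i) iX hker.le
  have : IsIso e := IsClosedImmersion.isIso_lift _ _ hker
  have he : e ≫ pullback.fst k i = iX := IsClosedImmersion.lift_fac _ _ _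
  refine ⟨e ≫ pullback.snd k i, inferInstance, ?_, fun z hz => ?_⟩
  · rw [Category.assoc, ← pullback.condition, ← Category.assoc, he]
  · obtain ⟨p, hp⟩ : z ∈ Set.range (pullback.snd k i) := by
      rw [Scheme.Pullback.range_snd]; exact hz
    exact ⟨inv e p, by rw [← Scheme.Hom.comp_apply, IsIso.inv_hom_id_assoc, hp]⟩

theorem ker_specMap_mk {R : Type u} [CommRing R] (J : Ideal R) :
    (Spec.map (CommRingCat.ofHom (Ideal.Quotient.mk J))).ker = BlowUpLib.centre J := by
  refine Scheme.IdealSheafData.ext_of_isAffine ?_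
  rw [FComplLib.ker_specMap_ideal _ Ideal.Quotient.mk_surjective, BlowUpLib.centre_top,
    Ideal.mk_ker]

theorem centre_comap_specMap {A B : Type u} [CommRing A] [CommRing B] (φ : A →+* B) (I : Ideal A) :
    (BlowUpLib.centre I).comap (Spec.map (CommRingCat.ofHom φ)) = BlowUpLib.centre (I.map φ) := by
  refine Scheme.IdealSheafData.ext_of_isAffine ?_
  rw [ModPairLib.comap_ideal_affine, BlowUpLib.centre_top, BlowUpLib.centre_top, Ideal.map_map,
    ← CommRingCat.hom_comp, ← Scheme.ΓSpecIso_inv_naturality, CommRingCat.hom_comp, ← Ideal.map_map,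
    CommRingCat.hom_ofHom]

theorem span_gen_le {A : Type u} [CommRing A] {n : ℕ} (r : Fin n → A) :
    Ideal.span (Set.range (BlowUpLib.gen (Ideal.span (Set.range r)))) ≤
      Ideal.span (Set.range fun j => BlowUpLib.gen (Ideal.span (Set.range r))
        ⟨r j, Ideal.subset_span ⟨j, rfl⟩⟩) := by
  rw [Ideal.span_le]
  rintro _ ⟨⟨x, hx⟩, rfl⟩
  obtain ⟨c, hc⟩ := Ideal.mem_span_range_iff_exists_fun.mp hx
  have : BlowUpLib.gen (Ideal.span (Set.range r)) ⟨x, hx⟩ = ∑ j,
      algebraMap A _ (c j) * BlowUpLib.gen (Ideal.span (Set.range r))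
        ⟨r j, Ideal.subset_span ⟨j, rfl⟩⟩ := by
    refine Subtype.ext ?_
    simp only [AddSubmonoidClass.coe_finsetSum, Subalgebra.coe_mul]
    show Polynomial.monomial 1 x = ∑ j, Polynomial.C (c j) * Polynomial.monomial 1 (r j)
    simp only [Polynomial.C_mul_monomial, ← map_sum, hc]
  rw [this]
  exact sum_mem fun j _ => Ideal.mul_mem_left _ _ (Ideal.subset_span ⟨j, rfl⟩)

/-- The charts of a blow-up over an affine piece, one for each generator. -/
theorem exists_chart_of_blowUp {X X' : Scheme.{u}} {b : X' ⟶ X} {C : X.IdealSheafData}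
    (hb : BlowUp.IsBlowUp b C) {A : Type u} [CommRing A] {n : ℕ} (r : Fin n → A)
    (q : Spec (CommRingCat.of A) ⟶ X) [IsOpenImmersion q]
    (hC : C.comap q = BlowUpLib.centre (Ideal.span (Set.range r))) (x' : X')
    (hx : b x' ∈ Set.range q) :
    ∃ (j : Fin n)
      (k : Spec (CommRingCat.of (BlowUp.affineAlgebra A (Ideal.span (Set.range r)) (r j))) ⟶ X'),
      IsOpenImmersion k ∧ x' ∈ Set.range k ∧
      k ≫ b = Spec.map (CommRingCat.ofHom (algebraMap A _)) ≫ q := by
  set I := Ideal.span (Set.range r)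
  have hP : IsPullback (pullback.snd b q) (pullback.fst b q) q b :=
    (IsPullback.of_hasPullback b q).flip
  have hb' := BlowUpLib.isBlowUp_of_isPullback hP hb
  rw [hC] at hb'
  obtain ⟨σ, hσ⟩ := BlowUpLib.exists_iso (BlowUpLib.isBlowUp_local I) hb'
  obtain ⟨p, hp⟩ : x' ∈ Set.range (pullback.fst b q) := by
    rw [Scheme.Pullback.range_fst]; exact hx
  obtain ⟨j, hj⟩ := TopologicalSpace.Opens.mem_iSup.mp
    ((Proj.iSup_basicOpen_eq_top (BlowUpLib.deg I) _
      ((BlowUpLib.irrelevant_le_span_gen I).trans (span_gen_le r))).ge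
        (Set.mem_univ (σ.inv p)))
  rw [← BlowUpLib.opensRange_chart] at hj
  obtain ⟨z, hz⟩ := hj
  refine ⟨j, BlowUpLib.chart I ⟨r j, Ideal.subset_span ⟨j, rfl⟩⟩ ≫ σ.hom ≫ pullback.fst b q,
    inferInstance, ⟨z, ?_⟩, ?_⟩
  · rw [Scheme.Hom.comp_apply, hz, ← Scheme.Hom.comp_apply, σ.inv_hom_id_assoc]
    exact hp
  · rw [Category.assoc, Category.assoc, pullback.condition, reassoc_of% hσ,
      BlowUpLib.chart_toBase_assoc]

/-- The exceptional ideal on a chart. -/
theorem ker_exceptional_comap {X X' : Scheme.{u}} {b : X' ⟶ X} {C : X.IdealSheafData}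
    {A B : Type u} [CommRing A] [CommRing B] (φ : A →+* B) (I : Ideal A)
    (q : Spec (CommRingCat.of A) ⟶ X) (hC : C.comap q = BlowUpLib.centre I)
    (k : Spec (CommRingCat.of B) ⟶ X') (hkb : k ≫ b = Spec.map (CommRingCat.ofHom φ) ≫ q) :
    (BlowUp.exceptional b C).subschemeι.ker.comap k =
      (Spec.map (CommRingCat.ofHom (Ideal.Quotient.mk (I.map φ)))).ker := by
  rw [Scheme.IdealSheafData.ker_subschemeι, ker_specMap_mk, BlowUp.exceptional,
    ← Scheme.IdealSheafData.comap_comp, hkb, Scheme.IdealSheafData.comap_comp, hC,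
    centre_comap_specMap]

set_option backward.isDefEq.respectTransparency.types false in
/-- Near a point over a piece where the centre is generated by a quasi-regular sequence, the
exceptional divisor is smooth over the centre. -/
theorem exists_smooth_chart {X X' Y : Scheme.{u}} (i : Y ⟶ X) [IsClosedImmersion i]
    {b : X' ⟶ X} (hb : BlowUp.IsBlowUp b i.ker) (g : (BlowUp.exceptional b i.ker).subscheme ⟶ Y)
    (hg : g ≫ i = (BlowUp.exceptional b i.ker).subschemeι ≫ b)
    {A : Type u} [CommRing A] {n : ℕ} (r : Fin n → A)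
    (hr : ∀ (d : ℕ) (P : MvPolynomial (Fin n) A), P.IsHomogeneous d →
      MvPolynomial.eval r P ∈ Ideal.span (Set.range r) ^ (d + 1) →
        ∀ e, P.coeff e ∈ Ideal.span (Set.range r))
    (q : Spec (CommRingCat.of A) ⟶ X) [IsOpenImmersion q]
    (hC : i.ker.comap q = BlowUpLib.centre (Ideal.span (Set.range r)))
    (e : (BlowUp.exceptional b i.ker).subscheme) (he : i (g e) ∈ Set.range q) :
    ∃ (S : Scheme.{u}) (l : S ⟶ (BlowUp.exceptional b i.ker).subscheme),
      IsOpenImmersion l ∧ e ∈ Set.range l ∧ Smooth (l ≫ g) := by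
  set I := Ideal.span (Set.range r)
  have hbe : b ((BlowUp.exceptional b i.ker).subschemeι e) = i (g e) := by
    rw [← Scheme.Hom.comp_apply, ← hg, Scheme.Hom.comp_apply]
  obtain ⟨j, k, hk, hxk, hkb⟩ := exists_chart_of_blowUp hb r q hC ((BlowUp.exceptional b i.ker).subschemeι e) (hbe ▸ he)
  let B := BlowUp.affineAlgebra A I (r j)
  let J : Ideal B := I.map (algebraMap A B)
  let iX : Spec (CommRingCat.of (B ⧸ J)) ⟶ Spec (CommRingCat.of B) :=
    Spec.map (CommRingCat.ofHom (Ideal.Quotient.mk J))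
  have : IsClosedImmersion iX :=
    IsClosedImmersion.spec_of_surjective _ Ideal.Quotient.mk_surjective
  let iA : Spec (CommRingCat.of (A ⧸ I)) ⟶ Spec (CommRingCat.of A) :=
    Spec.map (CommRingCat.ofHom (Ideal.Quotient.mk I))
  have : IsClosedImmersion iA :=
    IsClosedImmersion.spec_of_surjective _ Ideal.Quotient.mk_surjective
  have hX := ker_exceptional_comap (C := i.ker) (algebraMap A B) I q hC k hkb
  obtain ⟨l, hl, hlι, hlr⟩ := exists_lift_openImmersion iX k (BlowUp.exceptional b i.ker).subschemeι hX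
  obtain ⟨m, hm, hmi, -⟩ := exists_lift_openImmersion iA q i (hC.trans (ker_specMap_mk I).symm)
  refine ⟨_, l, hl, hlr e hxk, ?_⟩
  have key : l ≫ g = Spec.map (CommRingCat.ofHom (R := A ⧸ I) (S := B ⧸ J) (excMap r j)) ≫ m := by
    rw [← cancel_mono i, Category.assoc, Category.assoc, hg, hmi, reassoc_of% hlι, hkb]
    simp only [iX, iA, ← Spec.map_comp_assoc, ← CommRingCat.ofHom_comp]
    rw [excMap_comp]
  rw [key]
  have : Smooth (Spec.map (CommRingCat.ofHom (R := A ⧸ I) (S := B ⧸ J) (excMap r j))) :=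
    (HasRingHomProperty.Spec_iff (P := @Smooth)).mpr (by
      rw [CommRingCat.hom_ofHom]; exact excMap_smooth r j hr)
  infer_instance

set_option backward.isDefEq.respectTransparency.types false in
/-- The exceptional divisor of a blow-up along a regular closed immersion is smooth over the centre. -/
theorem smooth_exceptional {X X' Y : Scheme.{u}} (i : Y ⟶ X)
    (hi : Mor2.IsRegularClosedImmersion i)
    {b : X' ⟶ X} (hb : BlowUp.IsBlowUp b i.ker) (g : (BlowUp.exceptional b i.ker).subscheme ⟶ Y)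
    (hg : g ≫ i = (BlowUp.exceptional b i.ker).subschemeι ≫ b) : Smooth g := by
  have := hi.1
  have hloc : ∀ e : (BlowUp.exceptional b i.ker).subscheme,
      ∃ (S : Scheme.{u}) (l : S ⟶ (BlowUp.exceptional b i.ker).subscheme),
        IsOpenImmersion l ∧ e ∈ Set.range l ∧ Smooth (l ≫ g) := by
    intro e
    obtain ⟨U, hU, hyU, rs, hreg, hI⟩ := hi.2 (g e)
    have hw : RingTheory.Sequence.IsWeaklyRegular Γ(X, U) (List.ofFn rs.get) := by
      rw [List.ofFn_get]; exact hreg.toIsWeaklyRegular
    have hspan : Ideal.span (Set.range rs.get) = i.ker.ideal ⟨U, hU⟩ := by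
      rw [hI, Ideal.ofList]
      congr 1
      ext z
      simp [List.mem_iff_get]
    refine exists_smooth_chart i hb g hg rs.get
      (fun d P hP h => LinType.quasiRegular _ hw hP h) hU.fromSpec ?_ e ?_
    · rw [hspan]
      exact BlowUpLib.comap_fromSpec i.ker ⟨U, hU⟩
    · rw [hU.range_fromSpec]
      exact hyU
  choose S l hl hmem hsm using hloc
  refine IsZariskiLocalAtSource.of_iSup_eq_top (P := @Smooth) (fun e => (l e).opensRange)
    (top_le_iff.mp fun e _ => TopologicalSpace.Opens.mem_iSup.mpr ⟨e, hmem e⟩) fun e => ?_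
  rw [← Scheme.Hom.isoOpensRange_inv_comp, Category.assoc,
    MorphismProperty.cancel_left_of_respectsIso @Smooth]
  exact hsm e

end Groth.Agent.CIntLib
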