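import Mathlib
import Groth.Prelude.Def_BlowUp2
import Groth.Agent.RegLoc6.Basic

/-!
# Stalks of closed subschemes, and regularity along an effective Cartier divisor
-/

universe u

open CategoryTheory AlgebraicGeometry

namespace Groth.Agent.CIntLib

variable {Z X : Scheme.{u}}

/-- The kernel of the stalk map of a closed immersion is generated by the germs of its ideal. -/
theorem ker_stalkMap_eq_map_germ (i : Z ⟶ X) [IsClosedImmersion i] (z : Z) (U : X.affineOpens)
    (hzU : i z ∈ U.1) :
    RingHom.ker (i.stalkMap z).hom = (i.ker.ideal U).map (X.presheaf.germ U.1 (i z) hzU).hom := by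
  have hV : IsAffineOpen (i ⁻¹ᵁ U.1) := U.2.preimage i
  have hs : Function.Surjective (i.app U.1).hom := i.app_surjective U.1 U.2
  let φ : Γ(X, U.1) →+* Γ(Z, i ⁻¹ᵁ U.1) := (i.app U.1).hom
  letI : Algebra Γ(X, U.1) (X.presheaf.stalk (i z)) := (X.presheaf.germ U.1 (i z) hzU).hom.toAlgebra
  letI : Algebra Γ(Z, i ⁻¹ᵁ U.1) (Z.presheaf.stalk z) :=
    (Z.presheaf.germ (i ⁻¹ᵁ U.1) z hzU).hom.toAlgebra
  haveI hX : IsLocalization.AtPrime (X.presheaf.stalk (i z)) (U.2.primeIdealOf ⟨i z, hzU⟩).asIdeal :=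
    U.2.isLocalization_stalk ⟨i z, hzU⟩
  haveI hZ : IsLocalization.AtPrime (Z.presheaf.stalk z) (hV.primeIdealOf ⟨z, hzU⟩).asIdeal :=
    hV.isLocalization_stalk ⟨z, hzU⟩
  have hcomap : (U.2.primeIdealOf ⟨i z, hzU⟩).asIdeal =
      (hV.primeIdealOf ⟨z, hzU⟩).asIdeal.comap φ := by
    have h1 := IsAffineOpen.comap_primeIdealOf_appLE (f := i) U.1 U.2 (i ⁻¹ᵁ U.1) hV le_rfl (x := z) hzU
    have h2 := congrArg PrimeSpectrum.asIdeal h1
    rw [← Scheme.Hom.app_eq_appLE] at h2
    exact h2.symm
  have hf : ∀ a : Γ(X, U.1), (i.stalkMap z).hom (algebraMap _ _ a) = algebraMap _ _ (φ a) := fun a =>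
    Scheme.Hom.germ_stalkMap_apply i U.1 z hzU a
  have hM : Submonoid.map φ (U.2.primeIdealOf ⟨i z, hzU⟩).asIdeal.primeCompl =
      (hV.primeIdealOf ⟨z, hzU⟩).asIdeal.primeCompl := by
    ext b
    constructor
    · rintro ⟨a, ha, rfl⟩ hb
      exact ha (by rw [hcomap]; exact hb)
    · intro hb
      obtain ⟨a, rfl⟩ := hs b
      exact ⟨a, fun h => hb (by rw [hcomap] at h; exact h), rfl⟩
  have hfm : (i.stalkMap z).hom = IsLocalization.map (Z.presheaf.stalk z) φ
      (show (U.2.primeIdealOf ⟨i z, hzU⟩).asIdeal.primeCompl ≤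
        (hV.primeIdealOf ⟨z, hzU⟩).asIdeal.primeCompl.comap φ from
        Submonoid.map_le_iff_le_comap.1 hM.le) := by
    refine IsLocalization.ringHom_ext (U.2.primeIdealOf ⟨i z, hzU⟩).asIdeal.primeCompl
      (RingHom.ext fun a => ?_)
    rw [RingHom.comp_apply, RingHom.comp_apply, hf, IsLocalization.map_eq]
  rw [hfm, Scheme.Hom.ker_apply]
  exact IsLocalization.ker_map (Z.presheaf.stalk z) φ hM

/-- The local ring of a closed subscheme as a quotient. -/
noncomputable def stalkQuotEquiv (i : Z ⟶ X) [IsClosedImmersion i] (z : Z) :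
    X.presheaf.stalk (i z) ⧸ RingHom.ker (i.stalkMap z).hom ≃+* Z.presheaf.stalk z :=
  RingHom.quotientKerEquivOfSurjective (i.stalkMap_surjective z)

/-- At a point of an effective Cartier divisor the ideal is generated by a regular element of the
maximal ideal of the local ring. -/
theorem exists_generator_of_isEffCartier {C : X.IdealSheafData} (hC : BlowUp.IsEffCartierIdeal C)
    (e : C.subscheme) :
    ∃ f : X.presheaf.stalk (C.subschemeι e),
      f ∈ IsLocalRing.maximalIdeal (X.presheaf.stalk (C.subschemeι e)) ∧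
      f ∈ nonZeroDivisors (X.presheaf.stalk (C.subschemeι e)) ∧
      RingHom.ker (C.subschemeι.stalkMap e).hom = Ideal.span {f} := by
  obtain ⟨U, hU, f, hf, hI⟩ := hC (C.subschemeι e)
  letI := (X.presheaf.germ U.1 (C.subschemeι e) hU).hom.toAlgebra
  haveI : IsLocalization.AtPrime (X.presheaf.stalk (C.subschemeι e))
      (U.2.primeIdealOf ⟨C.subschemeι e, hU⟩).asIdeal := U.2.isLocalization_stalk ⟨_, hU⟩
  have hker : RingHom.ker (C.subschemeι.stalkMap e).hom =
      Ideal.span {(X.presheaf.germ U.1 (C.subschemeι e) hU).hom f} := by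
    rw [ker_stalkMap_eq_map_germ C.subschemeι e U hU, Scheme.IdealSheafData.ker_subschemeι, hI,
      Ideal.map_span, Set.image_singleton]
  refine ⟨_, ?_, ?_, hker⟩
  · refine IsLocalRing.le_maximalIdeal (RingHom.ker_ne_top (C.subschemeι.stalkMap e).hom) ?_
    rw [hker]
    exact Ideal.mem_span_singleton_self _
  · exact IsLocalization.map_nonZeroDivisors_le
      (U.2.primeIdealOf ⟨C.subschemeι e, hU⟩).asIdeal.primeCompl _
      (Submonoid.mem_map_of_mem _ hf)

/-- Where an effective Cartier divisor is regular, so is the ambient scheme. -/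
theorem isRegularLocalRing_of_isEffCartier [IsLocallyNoetherian X] {C : X.IdealSheafData}
    (hC : BlowUp.IsEffCartierIdeal C) (e : C.subscheme)
    [IsRegularLocalRing (C.subscheme.presheaf.stalk e)] :
    IsRegularLocalRing (X.presheaf.stalk (C.subschemeι e)) := by
  obtain ⟨f, hfm, hf, hker⟩ := exists_generator_of_isEffCartier hC e
  have : IsRegularLocalRing (X.presheaf.stalk (C.subschemeι e) ⧸ Ideal.span {f}) :=
    IsRegularLocalRing.of_ringEquiv
      ((Ideal.quotEquivOfEq hker.symm).trans (stalkQuotEquiv C.subschemeι e)).symm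
  exact RegLoc6.of_quotient hfm fun a b h => (mul_cancel_left_mem_nonZeroDivisors hf).mp h

end Groth.Agent.CIntLib
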