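import Groth.Prelude.Def_Mor2
import Groth.Agent.KRegLib.Closed
import Groth.Agent.CIntLib.ClosedStalk
import Groth.Agent.RegLoc6.Seq

/-!
# A regular closed subscheme of a regular scheme is regularly immersed
-/

universe u

open CategoryTheory AlgebraicGeometry

namespace Groth.Agent.CIntLib

/-- A closed immersion of a regular scheme into a regular scheme is a regular immersion. -/
theorem isRegularClosedImmersion_of_regular {Z X : Scheme.{u}} (i : Z ⟶ X) [IsClosedImmersion i]
    [IsLocallyNoetherian X] (hX : ∀ x : X, IsRegularLocalRing (X.presheaf.stalk x))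
    (hZ : ∀ z : Z, IsRegularLocalRing (Z.presheaf.stalk z)) : Mor2.IsRegularClosedImmersion i := by
  refine ⟨inferInstance, fun z => ?_⟩
  obtain ⟨D, hD, hzD, -⟩ := exists_isAffineOpen_mem_and_subset (U := ⊤) (x := i z) trivial
  have : IsNoetherianRing Γ(X, D) := IsLocallyNoetherian.component_noetherian ⟨D, hD⟩
  have := hX (i z)
  have := hZ z
  let I := i.ker.ideal ⟨D, hD⟩
  letI := (X.presheaf.germ D (i z) hzD).hom.toAlgebra
  let p := (hD.primeIdealOf ⟨i z, hzD⟩).asIdeal
  have : IsLocalization.AtPrime (X.presheaf.stalk (i z)) p := hD.isLocalization_stalk ⟨i z, hzD⟩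
  let e : X.presheaf.stalk (i z) ≃ₐ[Γ(X, D)] Localization.AtPrime p :=
    IsLocalization.algEquiv p.primeCompl _ _
  have hker := ker_stalkMap_eq_map_germ i z ⟨D, hD⟩ hzD
  obtain ⟨rs, hmem, hreg, hrs⟩ := RegLoc6.exists_list_of_quotient _ (X.presheaf.stalk (i z))
    (RingHom.ker (i.stalkMap z).hom) le_rfl
    (IsRegularLocalRing.of_ringEquiv (stalkQuotEquiv i z).symm)
  have hIp : I ≤ p := fun a ha => by
    by_contra hap
    refine RingHom.ker_ne_top (i.stalkMap z).hom (Ideal.eq_top_of_isUnit_mem _ ?_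
      (IsLocalization.map_units (X.presheaf.stalk (i z)) (⟨a, hap⟩ : p.primeCompl)))
    rw [hker]
    exact Ideal.mem_map_of_mem _ ha
  obtain ⟨g, hg, ls, hls, hlsI⟩ := KRegLib.exists_away_isRegular_of_atPrime I p hIp
    (rs.map e).get (by
      rw [List.ofFn_get]
      exact (AddEquiv.isWeaklyRegular_congr (e := e.toRingEquiv.toAddEquiv) (as := rs)
        (bs := rs.map e) (List.forall₂_map_right_iff.2 (List.forall₂_same.2 fun x _ y =>
          map_mul e x y))).1 hreg) (by
      have h1 : Ideal.span (Set.range (rs.map e).get) = Ideal.ofList (rs.map e) := by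
        rw [Ideal.ofList]; congr 1; ext w; simp [List.mem_iff_get]
      rw [h1, show Ideal.ofList (rs.map e) = (Ideal.ofList rs).map (e : _ →+* Localization.AtPrime p) from
        (Ideal.map_ofList _ _).symm, hrs, hker, Ideal.map_map]
      exact congrArg (fun f => Ideal.map f I) (RingHom.ext fun a => e.commutes a))
  letI : Algebra Γ(X, D) Γ(X, X.basicOpen g) :=
    (X.presheaf.map (homOfLE (X.basicOpen_le g)).op).hom.toAlgebra
  have : IsLocalization.Away g Γ(X, X.basicOpen g) := hD.isLocalization_basicOpen g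
  let e' : Localization.Away g ≃ₐ[Γ(X, D)] Γ(X, X.basicOpen g) :=
    IsLocalization.algEquiv (Submonoid.powers g) _ _
  have hzg : i z ∈ X.basicOpen g := by
    rw [← hD.fromSpec_image_basicOpen g]
    exact ⟨hD.primeIdealOf ⟨i z, hzD⟩, hg, hD.fromSpec_primeIdealOf _⟩
  refine ⟨X.basicOpen g, hD.basicOpen g, hzg, ls.map e', ?_, ?_⟩
  · refine (AddEquiv.isRegular_congr (e := e'.toRingEquiv.toAddEquiv) (as := ls) (bs := ls.map e') ?_).1 hls
    exact List.forall₂_map_right_iff.2 (List.forall₂_same.2 fun x _ y => map_mul e' x y)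
  · rw [← i.ker.map_ideal (U := ⟨X.basicOpen g, hD.basicOpen g⟩) (V := ⟨D, hD⟩) (X.basicOpen_le g),
      show Ideal.ofList (ls.map e') = (Ideal.ofList ls).map (e' : _ →+* Γ(X, X.basicOpen g)) from
        (Ideal.map_ofList _ _).symm, hlsI, Ideal.map_map]
    exact congrArg (fun f => Ideal.map f I) (RingHom.ext fun a => (e'.commutes a).symm)

end Groth.Agent.CIntLib
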