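import Groth.Agent.CIntLib.BirLattice
import Groth.Agent.Div57.Ref.ExtGen
import Groth.Agent.DRHyp.Omega
import Groth.Agent.Synt29.OmegaMaps
import Groth.Agent.Synt29.DRGen
import Groth.Agent.DRHyp.Wedge

/-!
# Transport of exterior powers of differentials along a map of function fields
-/

set_option autoImplicit false
set_option linter.style.haveILetI false
set_option backward.isDefEq.respectTransparency false
set_option backward.isDefEq.respectTransparency.types false

universe u

open CategoryTheory CategoryTheory.Limits AlgebraicGeometry TopologicalSpace Opposite exteriorPower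

namespace Groth.Agent.CIntLib

open Groth.Agent Div57.Ref Synt29.OmegaStalk

variable {k : Type u} [Field k]

/-- The base map of a scheme over a field, on local rings, is surjective. -/
theorem surjective_base_stalk (s : Spec (CommRingCat.of k)) :
    Function.Surjective ((Scheme.ΓSpecIso (CommRingCat.of k)).inv ≫
      (Spec (CommRingCat.of k)).presheaf.germ ⊤ s trivial).hom := by
  intro z
  obtain ⟨V, hV, t, rfl⟩ := (Spec (CommRingCat.of k)).presheaf.exists_germ_eq (x := s) z
  obtain rfl : V = ⊤ := top_unique fun y _ => (Subsingleton.elim s y) ▸ hV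
  refine ⟨(Scheme.ΓSpecIso (CommRingCat.of k)).hom t, ?_⟩
  exact congrArg ((Spec (CommRingCat.of k)).presheaf.germ ⊤ s hV)
    ((Scheme.ΓSpecIso (CommRingCat.of k)).hom_inv_id_apply t)

variable {X : Scheme.{u}} [IsIntegral X] (p : X ⟶ Spec (CommRingCat.of k))

/-- Constants make the function field an algebra; not an instance. -/
@[reducible] noncomputable def kK : Algebra k (X.presheaf.stalk (genericPoint X)) :=
  (cst p (genericPoint X)).toAlgebra

theorem exists_delta [QuasiSeparated p] :
    letI := kK p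
    ∃ δ : Ω[X.presheaf.stalk (genericPoint X)⁄k] ≃ₗ[X.presheaf.stalk (genericPoint X)]
        (Omega.sheaf p).presheaf.stalk (genericPoint X),
      ∀ (U : X.Opens) (hη : genericPoint X ∈ U) (s : Γ(X, U)),
        δ (KaehlerDifferential.D k _ (X.presheaf.germ U _ hη s)) =
          (Omega.sheaf p).presheaf.germ U _ hη ((OmegaSh.dOmega p).app U s) := by
  letI := kK p
  let η := genericPoint X
  let K := X.presheaf.stalk η
  let R := (Spec (CommRingCat.of k)).presheaf.stalk (p η)
  letI : Algebra R K := (p.stalkMap η).hom.toAlgebra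
  letI : Algebra k R := ((Scheme.ΓSpecIso (CommRingCat.of k)).inv ≫
      (Spec (CommRingCat.of k)).presheaf.germ ⊤ (p η) trivial).hom.toAlgebra
  haveI : IsScalarTower k R K := IsScalarTower.of_algebraMap_eq fun c =>
    (Scheme.Hom.germ_stalkMap_apply p ⊤ η trivial _).symm
  have hR : Function.Surjective (algebraMap k R) := surjective_base_stalk (p η)
  let Dr : Derivation R K (Ω[K⁄k]) :=
    Derivation.mk'
      { toFun := KaehlerDifferential.D k K
        map_add' := map_add _
        map_smul' := fun r x => by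
          obtain ⟨c, rfl⟩ := hR r
          simp only [RingHom.id_apply, algebraMap_smul, Derivation.map_smul] }
      fun x y => (KaehlerDifferential.D k K).leibniz x y
  let m : Ω[K⁄k] →ₗ[K] Ω[K⁄R] := KaehlerDifferential.map k R K K
  have hm : Function.Bijective m := by
    refine ⟨Function.LeftInverse.injective (g := Dr.liftKaehlerDifferential) fun z => ?_,
      KaehlerDifferential.map_surjective k R K⟩
    induction (KaehlerDifferential.span_range_derivation k K).ge (Submodule.mem_top : z ∈ ⊤) using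
      Submodule.span_induction with
    | mem y hy =>
      obtain ⟨b, rfl⟩ := hy
      rw [KaehlerDifferential.map_D, Derivation.liftKaehlerDifferential_comp_D]
      rfl
    | zero => rw [map_zero, map_zero]
    | add y y' _ _ h h' => rw [map_add, map_add, h, h']
    | smul r y _ h => rw [map_smul, map_smul, h]
  obtain ⟨i, hi⟩ := exists_iso_of_eq (OmegaUniv.isUniversal_dOmega p) η (p.stalkMap η) rfl
  let δ : Ω[K⁄k] ≃ₗ[K] (Omega.sheaf p).presheaf.stalk η :=
    LinearEquiv.ofBijective (i.hom.hom ∘ₗ m) ((ConcreteCategory.bijective_of_isIso i.hom).comp hm)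
  refine ⟨δ, fun U hη s => ?_⟩
  show i.hom (m (KaehlerDifferential.D k K _)) = _
  rw [show m (KaehlerDifferential.D k K (X.presheaf.germ U η hη s)) =
    KaehlerDifferential.D R K (X.presheaf.germ U η hη s) from KaehlerDifferential.map_D k R K K _]
  exact (hi _).trans (stalkD_germ _ U hη s)

set_option maxHeartbeats 1000000 in
/-- The generic stalk of an exterior power of the differentials, as forms of the function field. -/
theorem exists_ev [QuasiSeparated p] {q : ℕ} {L : X.Modules}
    (hL : ExtPow.IsExtPow q (Omega.sheaf p) L) :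
    letI := kK p
    ∃ ev : ↥(⋀[X.presheaf.stalk (genericPoint X)]^q (Ω[X.presheaf.stalk (genericPoint X)⁄k]))
        ≃ₗ[X.presheaf.stalk (genericPoint X)] L.presheaf.stalk (genericPoint X),
      (∀ (x : X) (b : Fin q → X.presheaf.stalk x),
        ev (ιMulti _ q fun i => KaehlerDifferential.D k _ (toK x (b i))) ∈ Latt L x) ∧
      ∀ (x : X) (v : L.presheaf.stalk (genericPoint X)), v ∈ Latt L x →
        v ∈ AddSubgroup.closure {w | ∃ (a : X.presheaf.stalk x) (b : Fin q → X.presheaf.stalk x),
          w = toK x a • ev (ιMulti _ q fun i => KaehlerDifferential.D k _ (toK x (b i)))} := by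
  letI := kK p
  let η := genericPoint X
  let K := X.presheaf.stalk η
  have hF : Coh.IsQCoh (Omega.sheaf p) :=
    Synt29.OmegaStalk.isQCoh_of_isUniversal (OmegaUniv.isUniversal_dOmega p)
  have hLq := DRHyp.isQCoh_of_isExtPow hF q hL
  obtain ⟨φ, hφ⟩ := hL
  obtain ⟨Om, hspan, -, hOm⟩ := exists_ext_map hF φ hφ hLq
  let lft := alternatingMapLinearEquiv Om
  have hsurj : Function.Surjective lft := by
    rw [← LinearMap.range_eq_top, eq_top_iff, ← hspan, Submodule.span_le]
    rintro _ ⟨v, rfl⟩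
    exact ⟨ιMulti K q v, alternatingMapLinearEquiv_apply_ιMulti Om v⟩
  have hinj : Function.Injective lft := by
    obtain ⟨_, ⟨U, hU, rfl⟩, hηU, -⟩ := X.isBasis_affineOpens.exists_subset_of_mem_open
      (Set.mem_univ η) isOpen_univ
    let S := (hU.primeIdealOf ⟨_, hηU⟩).asIdeal.primeCompl
    letI := QCoh.stalkAlg (X := X) hηU
    letI := QCoh.stalkModule (Omega.sheaf p) hηU
    haveI := QCoh.isScalarTower_stalk (Omega.sheaf p) hηU
    haveI := QCoh.isLocalization_stalk' hU hηU
    haveI := QCoh.isLocalizedModule_germLin hF hU hηU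
    obtain ⟨ψ, hψ, hψι⟩ := DRHyp.exists_isLocalizedModule_extPow (B' := K)
      S (QCoh.germLin (Omega.sheaf p) hηU) q
    let eU : Γ(L, U) ≃ₗ[Γ(X, U)] ↥(⋀[Γ(X, U)]^q Γ(Omega.sheaf p, U)) := φ ⟨U, hU⟩
    have hψl : ∀ w, lft (ψ w) = L.presheaf.germ U η hηU (eU.symm w) := fun w => by
      induction w using DRHyp.Wedge.induct with
      | h0 => simp only [map_zero]
      | hadd x y hx hy => simp only [map_add, hx, hy]
      | hgen a v =>
        rw [map_smul ψ, map_smul eU.symm, QCoh.germ_smul', hψι, ← algebraMap_smul K a (ιMulti K q _),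
          map_smul lft, alternatingMapLinearEquiv_apply_ιMulti]
        exact congrArg (X.presheaf.germ U η hηU a • ·) (hOm ⟨U, hU⟩ hηU v).symm
    refine (injective_iff_map_eq_zero _).2 fun z hz => ?_
    obtain ⟨⟨w, s⟩, hs⟩ := IsLocalizedModule.surj S ψ z
    have hsz : lft (ψ w) = 0 := by
      rw [← hs]
      show lft ((s : Γ(X, U)) • z) = 0
      rw [← algebraMap_smul K (s : Γ(X, U)) z, map_smul, hz, smul_zero]
    rw [hψl] at hsz
    obtain ⟨t, ht0, ht⟩ := exists_smul_eq hLq hU hηU (a := eU.symm w) (b := 0) (hsz.trans (map_zero _).symm)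
    rw [smul_zero, ← map_smul, LinearEquiv.map_eq_zero_iff] at ht
    have h1 : algebraMap Γ(X, U) K t • ψ w = 0 := by
      rw [algebraMap_smul, ← map_smul, ht, map_zero]
    letI := fieldGen (X := X)
    have hsu : IsUnit (algebraMap Γ(X, U) K (s : Γ(X, U))) := IsLocalization.map_units K s
    have h2 : ψ w = 0 := (smul_eq_zero.1 h1).resolve_left ht0
    rw [← hs] at h2
    have h3 : algebraMap Γ(X, U) K (s : Γ(X, U)) • z = 0 := by rw [algebraMap_smul]; exact h2
    exact hsu.smul_left_cancel.1 (h3.trans (smul_zero _).symm)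
  obtain ⟨δ, hδ⟩ := exists_delta p
  let ev := (DRHyp.extMapEquiv q δ).trans (LinearEquiv.ofBijective lft ⟨hinj, hsurj⟩)
  have hev : ∀ (W : X.affineOpens) (hη : η ∈ W.1) (b : Fin q → Γ(X, W.1)),
      ev (ιMulti K q fun i => KaehlerDifferential.D k K (X.presheaf.germ W.1 η hη (b i))) =
        L.presheaf.germ W.1 η hη
          ((φ W).symm (ιMulti _ q fun i => (OmegaSh.dOmega p).app W.1 (b i))) := fun W hη b => by
    rw [hOm W hη]
    show lft (DRHyp.extMapEquiv q δ _) = _
    rw [DRHyp.extMapEquiv_ιMulti, alternatingMapLinearEquiv_apply_ιMulti]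
    exact congrArg Om (funext fun i => hδ W.1 hη (b i))
  refine ⟨ev, fun x b => ?_, fun x v hv => ?_⟩
  · choose Wi hWi ti hti using fun i => X.presheaf.exists_germ_eq (x := x) (b i)
    obtain ⟨_, ⟨W, hW, rfl⟩, hxW, hle⟩ := X.isBasis_affineOpens.exists_subset_of_mem_open
      (show x ∈ Finset.univ.inf Wi from Finset.inf_induction (p := fun V : X.Opens => x ∈ V)
        (show x ∈ (⊤ : X.Opens) from trivial) (fun _ ha _ hb => ⟨ha, hb⟩) fun i _ => hWi i)
      (Finset.univ.inf Wi).2
    have hle' : ∀ i, W ≤ Wi i := fun i =>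
      (show W ≤ Finset.univ.inf Wi from hle).trans (Finset.inf_le (Finset.mem_univ i))
    have hb : ∀ i, toK x (b i) =
        X.presheaf.germ W η (gp_mem hxW) (X.presheaf.map (homOfLE (hle' i)).op (ti i)) := fun i => by
      rw [← hti i, toK_germ]
      exact (X.presheaf.germ_res_apply (homOfLE (hle' i)) η (gp_mem hxW) (ti i)).symm
    simp only [hb]
    rw [hev ⟨W, hW⟩ (gp_mem hxW)]
    exact germ_mem_latt hxW _
  · obtain ⟨u, rfl⟩ := hv
    obtain ⟨W₀, hxW₀, m₀, rfl⟩ := TopCat.Presheaf.exists_germ_eq L.presheaf u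
    obtain ⟨_, ⟨W, hW, rfl⟩, hxW, hle⟩ := X.isBasis_affineOpens.exists_subset_of_mem_open hxW₀ W₀.2
    rw [spec_germ]
    rw [← L.presheaf.germ_res_apply (homOfLE hle) η (gp_mem hxW) m₀]
    suffices H : ∀ m : Γ(L, W), L.presheaf.germ W η (gp_mem hxW) m ∈
        AddSubgroup.closure {w | ∃ (a : X.presheaf.stalk x) (b : Fin q → X.presheaf.stalk x),
          w = toK x a • ev (ιMulti _ q fun i => KaehlerDifferential.D k _ (toK x (b i)))} from H _
    intro m
    letI := DRHyp.kAlg p W
    set C := AddSubgroup.closure {w | ∃ (a : X.presheaf.stalk x) (b : Fin q → X.presheaf.stalk x),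
      w = toK x a • ev (ιMulti _ q fun i => KaehlerDifferential.D k _ (toK x (b i)))} with hC
    let G : ↥(⋀[Γ(X, W)]^q (Ω[Γ(X, W)⁄k])) →+ L.presheaf.stalk η :=
      (L.presheaf.germ W η (gp_mem hxW)).hom.comp ((φ ⟨W, hW⟩).symm.toAddMonoidHom.comp
        (DRHyp.extMapEquiv q (DRHyp.omegaEquiv p hW)).toAddMonoidHom)
    obtain ⟨z, hz⟩ := ((φ ⟨W, hW⟩).symm.surjective.comp
      (DRHyp.extMapEquiv q (DRHyp.omegaEquiv p hW)).surjective) m
    suffices H : G z ∈ C by rw [← hz]; exact H
    clear hz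
    induction z using Synt29.DRGen.gen_induction (KaehlerDifferential.D k Γ(X, W))
      (KaehlerDifferential.span_range_derivation k Γ(X, W)) with
    | hzero => rw [map_zero G]; exact C.zero_mem
    | hadd y z hy hz => rw [map_add G]; exact C.add_mem hy hz
    | hgenP a b =>
      refine AddSubgroup.subset_closure ⟨X.presheaf.germ W x hxW a, fun i => X.presheaf.germ W x hxW (b i), ?_⟩
      show L.presheaf.germ W η (gp_mem hxW) ((φ ⟨W, hW⟩).symm (DRHyp.extMapEquiv q (DRHyp.omegaEquiv p hW) _)) = _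
      rw [DeRham.gen, map_smul, map_smul, DRHyp.extMapEquiv_ιMulti]
      simp only [toK_germ]
      rw [hev ⟨W, hW⟩ (gp_mem hxW)]
      refine (QCoh.germ_smul' _ _ _ _).trans (congrArg (X.presheaf.germ W η (gp_mem hxW) a • ·) ?_)
      exact congrArg (fun w => L.presheaf.germ W η (gp_mem hxW) ((φ ⟨W, hW⟩).symm (ιMulti _ q w)))
        (funext fun i => DRHyp.toOmega_D p W (b i))

/-- The map of forms along a map of function fields over `k`. -/
theorem exists_semi_forms {K K' : Type u} [CommRing K] [CommRing K'] [Algebra k K] [Algebra k K'] (σ : K' →+* K)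
    (hσ : ∀ c, σ (algebraMap k K' c) = algebraMap k K c) (q : ℕ) :
    ∃ Θ : ↥(⋀[K']^q (Ω[K'⁄k])) →+ ↥(⋀[K]^q (Ω[K⁄k])), (∀ a z, Θ (a • z) = σ a • Θ z) ∧
      ∀ b : Fin q → K', Θ (ιMulti K' q fun i => KaehlerDifferential.D k K' (b i)) =
        ιMulti K q fun i => KaehlerDifferential.D k K (σ (b i)) := by
  letI : Algebra K' K := σ.toAlgebra
  haveI : IsScalarTower k K' K := IsScalarTower.of_algebraMap_eq fun c => (hσ c).symm
  let f := KaehlerDifferential.map k k K' K
  have hf : ∀ (a : K') z, f (a • z) = σ a • f z := fun a z => by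
    rw [map_smul, ← algebraMap_smul K a (f z)]
    rfl
  refine ⟨DRHyp.Wedge.semi σ f.toAddMonoidHom hf q, fun a z => DRHyp.Wedge.semi_smul _ _ _ a z, fun b => ?_⟩
  rw [DRHyp.Wedge.semi_ιMulti]
  exact congrArg _ (funext fun i => KaehlerDifferential.map_D k k K' K (b i))

theorem leftInverse_forms {K K' : Type u} [CommRing K] [CommRing K'] [Algebra k K] [Algebra k K']
    {σ : K' →+* K} {τ : K →+* K'} (hτ : ∀ a, τ (σ a) = a) {q : ℕ}
    {Θ : ↥(⋀[K']^q (Ω[K'⁄k])) →+ ↥(⋀[K]^q (Ω[K⁄k]))} {Θ' : ↥(⋀[K]^q (Ω[K⁄k])) →+ ↥(⋀[K']^q (Ω[K'⁄k]))}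
    (h1 : ∀ a z, Θ (a • z) = σ a • Θ z)
    (h2 : ∀ b : Fin q → K', Θ (ιMulti K' q fun i => KaehlerDifferential.D k K' (b i)) =
      ιMulti K q fun i => KaehlerDifferential.D k K (σ (b i)))
    (h1' : ∀ a z, Θ' (a • z) = τ a • Θ' z)
    (h2' : ∀ b : Fin q → K, Θ' (ιMulti K q fun i => KaehlerDifferential.D k K (b i)) =
      ιMulti K' q fun i => KaehlerDifferential.D k K' (τ (b i))) :
    Function.LeftInverse Θ' Θ := by
  intro z
  induction z using Synt29.DRGen.gen_induction (KaehlerDifferential.D k K')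
      (KaehlerDifferential.span_range_derivation k K') with
  | hzero => simp only [map_zero]
  | hadd y z hy hz => simp only [map_add, hy, hz]
  | hgenP a b => simp only [DeRham.gen, h1, h2, h1', h2', hτ]

/-- Lattices of forms map to lattices of forms. -/
theorem map_latt_forms {X' : Scheme.{u}} [IsIntegral X']
    [Algebra k (X.presheaf.stalk (genericPoint X))] [Algebra k (X'.presheaf.stalk (genericPoint X'))]
    (σ : X'.presheaf.stalk (genericPoint X') →+* X.presheaf.stalk (genericPoint X)) {q : ℕ}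
    {L : X.Modules} {L' : X'.Modules}
    (ev : ↥(⋀[X.presheaf.stalk (genericPoint X)]^q (Ω[X.presheaf.stalk (genericPoint X)⁄k]))
        ≃ₗ[X.presheaf.stalk (genericPoint X)] L.presheaf.stalk (genericPoint X))
    (ev' : ↥(⋀[X'.presheaf.stalk (genericPoint X')]^q (Ω[X'.presheaf.stalk (genericPoint X')⁄k]))
        ≃ₗ[X'.presheaf.stalk (genericPoint X')] L'.presheaf.stalk (genericPoint X'))
    (hev : ∀ (x : X) (b : Fin q → X.presheaf.stalk x),
      ev (ιMulti _ q fun i => KaehlerDifferential.D k _ (toK x (b i))) ∈ Latt L x)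
    (hev' : ∀ (x : X') (v : L'.presheaf.stalk (genericPoint X')), v ∈ Latt L' x →
        v ∈ AddSubgroup.closure {w | ∃ (a : X'.presheaf.stalk x) (b : Fin q → X'.presheaf.stalk x),
          w = toK x a • ev' (ιMulti _ q fun i => KaehlerDifferential.D k _ (toK x (b i)))})
    (Θ : ↥(⋀[X'.presheaf.stalk (genericPoint X')]^q (Ω[X'.presheaf.stalk (genericPoint X')⁄k])) →+
      ↥(⋀[X.presheaf.stalk (genericPoint X)]^q (Ω[X.presheaf.stalk (genericPoint X)⁄k])))
    (hΘ : ∀ a z, Θ (a • z) = σ a • Θ z)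
    (hΘD : ∀ b : Fin q → X'.presheaf.stalk (genericPoint X'),
      Θ (ιMulti _ q fun i => KaehlerDifferential.D k _ (b i)) =
        ιMulti _ q fun i => KaehlerDifferential.D k _ (σ (b i)))
    (x' : X') (x : X) (hd : Dominates σ x' x) (v : L'.presheaf.stalk (genericPoint X')) (hv : v ∈ Latt L' x') :
    ev (Θ (ev'.symm v)) ∈ Latt L x := by
  have := hev' x' v hv
  clear hv
  induction this using AddSubgroup.closure_induction with
  | mem w hw =>
    obtain ⟨a, b, rfl⟩ := hw
    rw [map_smul, LinearEquiv.symm_apply_apply, hΘ, hΘD, map_smul]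
    obtain ⟨c, hc⟩ := hd a
    choose c' hc' using fun i => hd (b i)
    simp only [← hc, ← hc']
    exact smul_mem_latt c (hev x c')
  | zero => simp only [map_zero]; exact zero_mem_latt L x
  | add y z _ _ hy hz => simp only [map_add]; exact add_mem_latt hy hz
  | neg y _ hy =>
    obtain ⟨w, hw⟩ := hy
    exact ⟨-w, by rw [map_neg, hw]; simp only [map_neg]⟩

/-- Exterior powers of differentials transport along an isomorphism of function fields over `k`. -/
theorem exists_transport_extPow {X' : Scheme.{u}} [IsIntegral X'] (p' : X' ⟶ Spec (CommRingCat.of k))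
    [QuasiSeparated p] [QuasiSeparated p']
    (σ : X'.presheaf.stalk (genericPoint X') →+* X.presheaf.stalk (genericPoint X))
    (τ : X.presheaf.stalk (genericPoint X) →+* X'.presheaf.stalk (genericPoint X'))
    (hσ : ∀ c, σ (cst p' _ c) = cst p _ c) (hτ : ∀ a, τ (σ a) = a)
    {q : ℕ} {L : X.Modules} (hL : ExtPow.IsExtPow q (Omega.sheaf p) L)
    {L' : X'.Modules} (hL' : ExtPow.IsExtPow q (Omega.sheaf p') L')
    (hστ : ∀ a, σ (τ a) = a) :
    ∃ (T : Transport σ L' L) (T' : Transport τ L L'),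
      Function.LeftInverse T'.map T.map ∧ Function.LeftInverse T.map T'.map := by
  letI := kK p
  letI := kK p'
  have hτk : ∀ c, τ (cst p _ c) = cst p' _ c := fun c => (congrArg τ (hσ c)).symm.trans (hτ _)
  obtain ⟨ev, hev, hev₂⟩ := exists_ev p hL
  obtain ⟨ev', hev₁', hev'⟩ := exists_ev p' hL'
  obtain ⟨Θ, hΘ, hΘD⟩ := exists_semi_forms (k := k) σ hσ q
  obtain ⟨Θ', hΘ', hΘD'⟩ := exists_semi_forms (k := k) τ hτk q
  have hl := leftInverse_forms hτ hΘ hΘD hΘ' hΘD'
  have hr := leftInverse_forms hστ hΘ' hΘD' hΘ hΘD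
  refine ⟨{
      map := ev.toAddMonoidHom.comp (Θ.comp ev'.symm.toAddMonoidHom)
      injective := ev.injective.comp (hl.injective.comp ev'.symm.injective)
      map_smul := fun a v => ?_
      map_latt := fun x' x hd v hv => map_latt_forms σ ev ev' hev hev' Θ hΘ hΘD x' x hd v hv },
    { map := ev'.toAddMonoidHom.comp (Θ'.comp ev.symm.toAddMonoidHom)
      injective := ev'.injective.comp (hr.injective.comp ev.symm.injective)
      map_smul := fun a v => ?_
      map_latt := fun x x' hd v hv => map_latt_forms τ ev' ev hev₁' hev₂ Θ' hΘ' hΘD' x x' hd v hv },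
    fun v => ?_, fun v => ?_⟩
  · show ev (Θ (ev'.symm (a • v))) = σ a • ev (Θ (ev'.symm v))
    rw [map_smul, hΘ, map_smul]
  · show ev' (Θ' (ev.symm (a • v))) = τ a • ev' (Θ' (ev.symm v))
    rw [map_smul, hΘ', map_smul]
  · show ev' (Θ' (ev.symm (ev (Θ (ev'.symm v))))) = v
    rw [LinearEquiv.symm_apply_apply, hl, LinearEquiv.apply_symm_apply]
  · show ev (Θ (ev'.symm (ev' (Θ' (ev.symm v))))) = v
    rw [LinearEquiv.symm_apply_apply, hr, LinearEquiv.apply_symm_apply]

end Groth.Agent.CIntLib
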