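import Groth.Agent.CIntLib.BirLattice
import Groth.Agent.Div57.Ref.OD
import Groth.Agent.H23.RatSecTensor

/-!
# Transport of tensor powers along a map of function fields
-/

set_option autoImplicit false
set_option linter.style.haveILetI false
set_option backward.isDefEq.respectTransparency false
set_option backward.isDefEq.respectTransparency.types false

universe u

open CategoryTheory CategoryTheory.Limits AlgebraicGeometry TopologicalSpace Opposite
open scoped TensorProduct

namespace Groth.Agent.CIntLib

open Groth.Agent Div57.Ref H23.RatSecTensor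

variable {X X' : Scheme.{u}} [IsIntegral X] [IsIntegral X']

/-- The stalk of a tensor product is generated by pure tensors. -/
theorem tm_induction {L N : X.Modules} (x : X) {P : (CohB1.tensorMod L N).presheaf.stalk x → Prop}
    (h0 : P 0) (hadd : ∀ a b, P a → P b → P (a + b)) (htm : ∀ a b, P (tm x a b))
    (z : (CohB1.tensorMod L N).presheaf.stalk x) : P z := by
  obtain ⟨w, rfl⟩ := (KFlatLib.stalkTensorIso x L N).toLinearEquiv.surjective z
  induction w using TensorProduct.induction_on with
  | zero => rw [map_zero]; exact h0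
  | tmul a b => exact htm a b
  | add a b ha hb => rw [map_add]; exact hadd _ _ ha hb

theorem exists_transport_tensor
    {σ : X'.presheaf.stalk (genericPoint X') →+* X.presheaf.stalk (genericPoint X)}
    {τ : X.presheaf.stalk (genericPoint X) →+* X'.presheaf.stalk (genericPoint X')}
    {P' Q' : X'.Modules} {P Q : X.Modules}
    (hτ : ∀ a, τ (σ a) = a) (hστ : ∀ a, σ (τ a) = a)
    (T : Transport σ P' P) (S : Transport σ Q' Q) (T' : Transport τ P P') (S' : Transport τ Q Q')
    (hT : Function.LeftInverse T'.map T.map) (hS : Function.LeftInverse S'.map S.map)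
    (hT' : Function.LeftInverse T.map T'.map) (hS' : Function.LeftInverse S.map S'.map) :
    ∃ (R : Transport σ (CohB1.tensorMod P' Q') (CohB1.tensorMod P Q))
      (R' : Transport τ (CohB1.tensorMod P Q) (CohB1.tensorMod P' Q')),
      Function.LeftInverse R'.map R.map ∧ Function.LeftInverse R.map R'.map := by
  have build : ∀ {Y Y' : Scheme.{u}} [IsIntegral Y] [IsIntegral Y']
      {ρ : Y'.presheaf.stalk (genericPoint Y') →+* Y.presheaf.stalk (genericPoint Y)}
      {A' B' : Y'.Modules} {A B : Y.Modules} (U : Transport ρ A' A) (V : Transport ρ B' B),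
      ∃ f : (CohB1.tensorMod A' B').presheaf.stalk (genericPoint Y') →+
          (CohB1.tensorMod A B).presheaf.stalk (genericPoint Y),
        (∀ a v, f (a • v) = ρ a • f v) ∧
        (∀ a b, f (tm (genericPoint Y') a b) = tm (genericPoint Y) (U.map a) (V.map b)) ∧
        ∀ (x' : Y') (x : Y), Dominates ρ x' x → ∀ v ∈ Latt (CohB1.tensorMod A' B') x',
          f v ∈ Latt (CohB1.tensorMod A B) x := by
    intro Y Y' _ _ ρ A' B' A B U V
    let fU : ((DerSch.stalkFunctor Y' (genericPoint Y')).obj A' : Type u) →ₛₗ[ρ]
        ((DerSch.stalkFunctor Y (genericPoint Y)).obj A : Type u) :=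
      { toFun := U.map, map_add' := map_add U.map, map_smul' := U.map_smul }
    let fV : ((DerSch.stalkFunctor Y' (genericPoint Y')).obj B' : Type u) →ₛₗ[ρ]
        ((DerSch.stalkFunctor Y (genericPoint Y)).obj B : Type u) :=
      { toFun := V.map, map_add' := map_add V.map, map_smul' := V.map_smul }
    let i' := (KFlatLib.stalkTensorIso (genericPoint Y') A' B').toLinearEquiv
    let i := (KFlatLib.stalkTensorIso (genericPoint Y) A B).toLinearEquiv
    let f : (CohB1.tensorMod A' B').presheaf.stalk (genericPoint Y') →+
        (CohB1.tensorMod A B).presheaf.stalk (genericPoint Y) :=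
      i.toAddMonoidHom.comp ((TensorProduct.map fU fV).toAddMonoidHom.comp i'.symm.toAddMonoidHom)
    have hf : ∀ a b, f (tm (genericPoint Y') a b) = tm (genericPoint Y) (U.map a) (V.map b) := fun a b => by
      show i (TensorProduct.map fU fV (i'.symm (i' _))) = _
      rw [LinearEquiv.symm_apply_apply]
      erw [TensorProduct.map_tmul]
      rfl
    refine ⟨f, fun a v => ?_, hf, fun x' x hd v hv => ?_⟩
    · show i (TensorProduct.map fU fV (i'.symm (a • v))) = ρ a • i (TensorProduct.map fU fV (i'.symm v))
      erw [map_smul i'.symm, (TensorProduct.map fU fV).map_smulₛₗ, map_smul i]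
    · obtain ⟨z, rfl⟩ := hv
      induction z using tm_induction x' with
      | h0 => rw [map_zero, map_zero]; exact zero_mem_latt _ x
      | hadd a b ha hb => rw [map_add, map_add]; exact add_mem_latt ha hb
      | htm a b =>
        rw [show spec (CohB1.tensorMod A' B') x' (tm x' a b) = tm (genericPoint Y') (spec A' x' a) (spec B' x' b) from
          (tm_stalkSpecializes (gp_specializes x') a b).symm, hf]
        obtain ⟨a₁, ha₁⟩ := U.map_latt x' x hd _ ⟨a, rfl⟩
        obtain ⟨b₁, hb₁⟩ := V.map_latt x' x hd _ ⟨b, rfl⟩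
        rw [← ha₁, ← hb₁]
        exact ⟨tm x a₁ b₁, (tm_stalkSpecializes (gp_specializes x) a₁ b₁).symm⟩
  obtain ⟨f, hf₁, hf₂, hf₃⟩ := build T S
  obtain ⟨g, hg₁, hg₂, hg₃⟩ := build T' S'
  have hl : Function.LeftInverse g f := fun z => by
    induction z using tm_induction (genericPoint X') with
    | h0 => rw [map_zero, map_zero]
    | hadd a b ha hb => rw [map_add, map_add, ha, hb]
    | htm a b => rw [hf₂, hg₂, hT, hS]
  have hr : Function.LeftInverse f g := fun z => by
    induction z using tm_induction (genericPoint X) with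
    | h0 => rw [map_zero, map_zero]
    | hadd a b ha hb => rw [map_add, map_add, ha, hb]
    | htm a b => rw [hg₂, hf₂, hT', hS']
  exact ⟨⟨f, hl.injective, hf₁, hf₃⟩, ⟨g, hr.injective, hg₁, hg₃⟩, hl, hr⟩

/-- The structure module transports along any map of function fields. -/
theorem exists_transport_unit
    {σ : X'.presheaf.stalk (genericPoint X') →+* X.presheaf.stalk (genericPoint X)}
    {τ : X.presheaf.stalk (genericPoint X) →+* X'.presheaf.stalk (genericPoint X')}
    (hτ : ∀ a, τ (σ a) = a) (hστ : ∀ a, σ (τ a) = a) :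
    ∃ (T : Transport σ (Coh.structureModule X') (Coh.structureModule X))
      (T' : Transport τ (Coh.structureModule X) (Coh.structureModule X')),
      Function.LeftInverse T'.map T.map ∧ Function.LeftInverse T.map T'.map := by
  have hspec : ∀ {Y : Scheme.{u}} [IsIntegral Y] (x : Y) (a : Y.presheaf.stalk x),
      spec (Coh.structureModule Y) x (RefX.unitStalk x a) = RefX.unitStalk (genericPoint Y) (toK x a) := by
    intro Y _ x a
    obtain ⟨U, hU, r, rfl⟩ := Y.presheaf.exists_germ_eq (x := x) a
    rw [unitStalk_germ, spec_germ, toK_germ, unitStalk_germ]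
  have build : ∀ {Y Y' : Scheme.{u}} [IsIntegral Y] [IsIntegral Y']
      (ρ : Y'.presheaf.stalk (genericPoint Y') →+* Y.presheaf.stalk (genericPoint Y)),
      Function.Injective ρ →
      ∃ T : Transport ρ (Coh.structureModule Y') (Coh.structureModule Y),
        ∀ a, T.map (RefX.unitStalk _ a) = RefX.unitStalk _ (ρ a) := by
    intro Y Y' _ _ ρ hρ
    refine ⟨{
      map := (RefX.unitStalk (genericPoint Y)).toAddMonoidHom.comp
        (ρ.toAddMonoidHom.comp (RefX.unitStalk (genericPoint Y')).symm.toAddMonoidHom)
      injective := (RefX.unitStalk (genericPoint Y)).injective.comp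
        (hρ.comp (RefX.unitStalk (genericPoint Y')).symm.injective)
      map_smul := fun a v => ?_
      map_latt := fun x' x hd v hv => ?_ }, fun a => ?_⟩
    · show RefX.unitStalk _ (ρ ((RefX.unitStalk _).symm (a • v))) = ρ a • RefX.unitStalk _ (ρ _)
      rw [map_smul, smul_eq_mul, map_mul, ← smul_eq_mul (ρ a), map_smul]
      rfl
    · obtain ⟨z, rfl⟩ := hv
      obtain ⟨a, rfl⟩ := (RefX.unitStalk x').surjective z
      show RefX.unitStalk _ (ρ ((RefX.unitStalk _).symm _)) ∈ _
      rw [hspec, LinearEquiv.symm_apply_apply]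
      obtain ⟨c, hc⟩ := hd a
      rw [← hc, ← hspec]
      exact ⟨_, rfl⟩
    · show RefX.unitStalk _ (ρ ((RefX.unitStalk _).symm _)) = _
      rw [LinearEquiv.symm_apply_apply]
  obtain ⟨T, hT⟩ := build σ (Function.LeftInverse.injective hτ)
  obtain ⟨T', hT'⟩ := build τ (Function.LeftInverse.injective hστ)
  refine ⟨T, T', fun v => ?_, fun v => ?_⟩
  · obtain ⟨a, rfl⟩ := (RefX.unitStalk (genericPoint X')).surjective v
    rw [hT, hT', hτ]
  · obtain ⟨a, rfl⟩ := (RefX.unitStalk (genericPoint X)).surjective v
    rw [hT', hT, hστ]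

/-- Tensor powers transport. -/
theorem exists_transport_tensorPow
    {σ : X'.presheaf.stalk (genericPoint X') →+* X.presheaf.stalk (genericPoint X)}
    {τ : X.presheaf.stalk (genericPoint X) →+* X'.presheaf.stalk (genericPoint X')}
    {P' : X'.Modules} {P : X.Modules}
    (hτ : ∀ a, τ (σ a) = a) (hστ : ∀ a, σ (τ a) = a)
    (T : Transport σ P' P) (T' : Transport τ P P')
    (hT : Function.LeftInverse T'.map T.map) (hT' : Function.LeftInverse T.map T'.map) (m : ℕ) :
    ∃ (R : Transport σ (CohB1.tensorPow P' m) (CohB1.tensorPow P m))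
      (R' : Transport τ (CohB1.tensorPow P m) (CohB1.tensorPow P' m)),
      Function.LeftInverse R'.map R.map ∧ Function.LeftInverse R.map R'.map := by
  induction m with
  | zero => exact exists_transport_unit hτ hστ
  | succ m ih =>
    obtain ⟨R, R', hR, hR'⟩ := ih
    exact exists_transport_tensor hτ hστ R T R' T' hR hT hR' hT'

end Groth.Agent.CIntLib
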