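import Groth.Agent.CIntLib.BirExtModel
import Groth.Agent.CIntLib.BirTensor
import Groth.Agent.HodgeLef45.Smooth
import Groth.Agent.HodgeLef45.ExtIso
import Groth.Agent.LocDual54.LocFreeKill
import Groth.Agent.KFlatLib.Perfect.Tensor
import Groth.Agent.RegLoc6.Normal
import Groth.Agent.RegLoc6.Basic
import Groth.Agent.SmoothReg.Scheme

/-!
# Birational invariance of spaces of forms on smooth proper varieties
-/

set_option autoImplicit false
set_option linter.style.haveILetI false
set_option backward.isDefEq.respectTransparency.types false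

universe u

open CategoryTheory CategoryTheory.Limits AlgebraicGeometry TopologicalSpace

namespace Groth.Agent.CIntLib

open Groth.Agent Div57.Ref

variable {k : Type u} [Field k]

theorem isFinLocFree_of_isExtPow_omega {X : Scheme.{u}} (p : X ⟶ Spec (CommRingCat.of k))
    [QuasiSeparated p] [Smooth p] {q : ℕ} {L : X.Modules} (hL : ExtPow.IsExtPow q (Omega.sheaf p) L) :
    FlatMod.IsFinLocFree L := by
  obtain ⟨e⟩ := HodgeLef45.iso_of_isExtPow (DRHyp.ExtSheaf.isExtPow_mod (DRHyp.Hyp.isQCoh_omega p) q) hL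
  intro x
  obtain ⟨U, n, hx, ⟨g⟩⟩ := HodgeLef45.isFinLocFree_OmX p q x
  exact ⟨U, n, hx, ⟨(Scheme.Modules.restrictFunctor U.ι).mapIso e.symm ≪≫ g⟩⟩

theorem isFinLocFree_tensorPow' {X : Scheme.{u}} {L : X.Modules} (hL : FlatMod.IsFinLocFree L) :
    ∀ m, FlatMod.IsFinLocFree (CohB1.tensorPow L m)
  | 0 => LocDual54.isFinLocFree_unit X
  | m + 1 => KFlatLib.isFinLocFree_tensor (isFinLocFree_tensorPow' hL m) hL

theorem coh_reflexive {X : Scheme.{u}} [IsIntegral X] [IsLocallyNoetherian X] {L : X.Modules}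
    (hL : FlatMod.IsFinLocFree L) : Coh.IsCoh L ∧ RefHull.IsReflexive L := by
  have hc : Coh.IsCoh L := QCoh.isCoh_iff_isFP.2 (QCoh.isFP_of_isFinLocFree hL)
  exact ⟨hc, (RefX.isReflexive_iff hc).2 fun x =>
    reflexiveAt_of_free hc (QCoh.free_stalk_of_isFinLocFree hL x)⟩

theorem smooth_of_regular [IsAlgClosed k] {X : Scheme.{u}} (p : X ⟶ Spec (CommRingCat.of k))
    [LocallyOfFiniteType p] (hreg : ∀ x : X, IsRegularLocalRing (X.presheaf.stalk x)) : Smooth p := by
  haveI : LocallyOfFinitePresentation p :=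
    LocallyOfFinitePresentation.iff_locallyOfFiniteType.2 inferInstance
  rw [← Scheme.Hom.smoothLocus_eq_top_iff]
  exact top_unique fun x _ => (SmoothReg.mem_smoothLocus_iff_isRegularLocalRing p x).2 (hreg x)

section

variable [IsAlgClosed k]
  {X X' : Scheme.{u}} [X.Over (Spec (CommRingCat.of k))] [X'.Over (Spec (CommRingCat.of k))] [IsIntegral X]
  [IsIntegral X'] [IsProper (X ↘ (Spec (CommRingCat.of k)))] [IsProper (X' ↘ (Spec (CommRingCat.of k)))]

/-- **Birational invariance of plurigenera and of the spaces of forms**, for all tensor powers of all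
exterior powers of the differentials. -/
theorem finrank_tensorPow_extPow_eq
    (hreg : ∀ x : ↥X, IsRegularLocalRing ↑(X.presheaf.stalk x))
    (hreg' : ∀ x : ↥X', IsRegularLocalRing ↑(X'.presheaf.stalk x))
    (U : X.Opens) (U' : X'.Opens) (hU : (U : Set ↥X).Nonempty) (e : (U : Scheme.{u}) ≅ (U' : Scheme.{u}))
    (he : e.hom ≫ U'.ι ≫ (X' ↘ (Spec (CommRingCat.of k))) = U.ι ≫ (X ↘ (Spec (CommRingCat.of k))))
    (q : ℕ) (L : X.Modules) (hL : ExtPow.IsExtPow q (Omega.sheaf (X ↘ (Spec (CommRingCat.of k)))) L)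
    (L' : X'.Modules) (hL' : ExtPow.IsExtPow q (Omega.sheaf (X' ↘ (Spec (CommRingCat.of k)))) L') :
    Module.finrank k (Coh.HH X L 0) = Module.finrank k (Coh.HH X' L' 0) ∧
      ∀ m, Module.finrank k (Coh.HH X (CohB1.tensorPow L m) 0) =
        Module.finrank k (Coh.HH X' (CohB1.tensorPow L' m) 0) := by
  obtain ⟨σ, hσb, hσ⟩ := exists_fieldMap (X ↘ (Spec (CommRingCat.of k))) (X' ↘ (Spec (CommRingCat.of k)))
    U U' hU e he
  let s := RingEquiv.ofBijective σ hσb
  have hτ : ∀ a, (s.symm : _ →+* _) (σ a) = a := s.symm_apply_apply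
  have hστ : ∀ a, σ ((s.symm : _ →+* _) a) = a := s.apply_symm_apply
  haveI := smooth_of_regular (X ↘ (Spec (CommRingCat.of k))) hreg
  haveI := smooth_of_regular (X' ↘ (Spec (CommRingCat.of k))) hreg'
  haveI : IsLocallyNoetherian X := LocallyOfFiniteType.isLocallyNoetherian (X ↘ Spec (CommRingCat.of k))
  haveI : IsLocallyNoetherian X' := LocallyOfFiniteType.isLocallyNoetherian (X' ↘ Spec (CommRingCat.of k))
  have hN : Pi1.IsNormalScheme X := fun x => haveI := hreg x
    ⟨RegLoc6.isDomain_of_isRegularLocalRing _, RegLoc6.isIntegrallyClosed_of_isRegularLocalRing _⟩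
  have hN' : Pi1.IsNormalScheme X' := fun x => haveI := hreg' x
    ⟨RegLoc6.isDomain_of_isRegularLocalRing _, RegLoc6.isIntegrallyClosed_of_isRegularLocalRing _⟩
  have hf := isFinLocFree_of_isExtPow_omega _ hL
  have hf' := isFinLocFree_of_isExtPow_omega _ hL'
  obtain ⟨T, T', hT, hT'⟩ := exists_transport_extPow (X ↘ (Spec (CommRingCat.of k)))
    (X' ↘ (Spec (CommRingCat.of k))) σ s.symm hσ hτ hL hL' hστ
  refine ⟨finrank_eq_of_transport X X' hN hN' hσ hτ (coh_reflexive hf).1 (coh_reflexive hf).2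
    (coh_reflexive hf').1 (coh_reflexive hf').2 T T', fun m => ?_⟩
  obtain ⟨R, R', -, -⟩ := exists_transport_tensorPow hτ hστ T T' hT hT' m
  exact finrank_eq_of_transport X X' hN hN' hσ hτ (coh_reflexive (isFinLocFree_tensorPow' hf m)).1
    (coh_reflexive (isFinLocFree_tensorPow' hf m)).2 (coh_reflexive (isFinLocFree_tensorPow' hf' m)).1
    (coh_reflexive (isFinLocFree_tensorPow' hf' m)).2 R R'

end

end Groth.Agent.CIntLib
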