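import Groth.Agent.Div57.Ref.Extend
import Groth.Agent.CDiv6.Normal
import Groth.Agent.GeomRedFlat5.Bridge
import Mathlib.AlgebraicGeometry.ValuativeCriterion

/-!
# Birational invariance of global sections via lattices in generic stalks
-/

set_option autoImplicit false
set_option linter.style.haveILetI false
set_option backward.isDefEq.respectTransparency false
set_option backward.isDefEq.respectTransparency.types false

universe u

open CategoryTheory CategoryTheory.Limits AlgebraicGeometry TopologicalSpace Opposite IsLocalRing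

namespace Groth.Agent.CIntLib

open Groth.Agent Div57.Ref

variable {k : Type u} [Field k]

/-- Constants as global functions. -/
noncomputable def gcst {X : Scheme.{u}} (p : X ⟶ Spec (CommRingCat.of k)) : k →+* Γ(X, ⊤) :=
  Coh.toGlobal p

/-- Constants in a local ring. -/
noncomputable def cst {X : Scheme.{u}} (p : X ⟶ Spec (CommRingCat.of k)) (x : X) :
    k →+* X.presheaf.stalk x :=
  ((Scheme.ΓSpecIso (CommRingCat.of k)).inv ≫ p.appTop ≫ X.presheaf.germ ⊤ x trivial).hom

theorem fromSpecStalk_comp {X : Scheme.{u}} (p : X ⟶ Spec (CommRingCat.of k)) (x : X) :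
    X.fromSpecStalk x ≫ p = Spec.map (CommRingCat.ofHom (cst p x)) :=
  GeomRedFlat5.fromSpecStalk_comp_eq p x

theorem toK_cst {X : Scheme.{u}} [IsIntegral X] (p : X ⟶ Spec (CommRingCat.of k)) (x : X) (c : k) :
    toK x (cst p x c) = cst p (genericPoint X) c :=
  toK_germ (X := X) (U := ⊤) (x := x) trivial _

variable {X X' : Scheme.{u}} [IsIntegral X] [IsIntegral X']

/-- `σ` carries the local ring at `x'` into the local ring at `x`. -/
def Dominates (σ : X'.presheaf.stalk (genericPoint X') →+* X.presheaf.stalk (genericPoint X))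
    (x' : X') (x : X) : Prop :=
  ∀ a : X'.presheaf.stalk x', σ (toK x' a) ∈ Set.range (toK x)

/-- A semilinear comparison of generic stalks respecting lattices at points of codimension one. -/
structure Transport (σ : X'.presheaf.stalk (genericPoint X') →+* X.presheaf.stalk (genericPoint X))
    (P' : X'.Modules) (P : X.Modules) where
  /-- The map. -/
  map : P'.presheaf.stalk (genericPoint X') →+ P.presheaf.stalk (genericPoint X)
  injective : Function.Injective map
  map_smul : ∀ a v, map (a • v) = σ a • map v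
  map_latt : ∀ (x' : X') (x : X), Dominates σ x' x → ∀ v ∈ Latt P' x', map v ∈ Latt P x

/-- A birational map over `k`, as a map of function fields. -/
theorem exists_fieldMap (p : X ⟶ Spec (CommRingCat.of k)) (p' : X' ⟶ Spec (CommRingCat.of k))
    (U : X.Opens) (U' : X'.Opens) (hU : (U : Set X).Nonempty) (e : (U : Scheme.{u}) ≅ (U' : Scheme.{u}))
    (he : e.hom ≫ U'.ι ≫ p' = U.ι ≫ p) :
    ∃ σ : X'.presheaf.stalk (genericPoint X') →+* X.presheaf.stalk (genericPoint X),
      Function.Bijective σ ∧ ∀ c, σ (cst p' _ c) = cst p _ c := by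
  haveI : Nonempty U := hU.to_subtype
  haveI : IrreducibleSpace U.toScheme :=
    have : PreirreducibleSpace U.toScheme :=
      Subtype.preirreducibleSpace ((PreirreducibleSpace.isPreirreducible_univ).open_subset U.2 (Set.subset_univ _))
    { toPreirreducibleSpace := this, toNonempty := ‹_› }
  let φ : U.toScheme ⟶ X' := e.hom ≫ U'.ι
  haveI : IsOpenImmersion φ := inferInstance
  let ξ := genericPoint U.toScheme
  have hξ : U.ι ξ = genericPoint X := genericPoint_eq_of_isOpenImmersion U.ι
  have hξ' : φ ξ = genericPoint X' := genericPoint_eq_of_isOpenImmersion φ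
  let τ : X'.presheaf.stalk (genericPoint X') ⟶ X.presheaf.stalk (genericPoint X) :=
    X'.presheaf.stalkSpecializes (specializes_of_eq hξ') ≫ φ.stalkMap ξ ≫ inv (U.ι.stalkMap ξ) ≫
      X.presheaf.stalkSpecializes (specializes_of_eq hξ.symm)
  haveI h1 : IsIso (X'.presheaf.stalkSpecializes (specializes_of_eq hξ')) :=
    (X'.presheaf.stalkCongr (Inseparable.of_eq hξ'.symm)).isIso_hom
  haveI h2 : IsIso (X.presheaf.stalkSpecializes (specializes_of_eq hξ.symm)) :=
    (X.presheaf.stalkCongr (Inseparable.of_eq hξ)).isIso_hom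
  haveI : IsIso τ := inferInstance
  refine ⟨τ.hom, ConcreteCategory.bijective_of_isIso τ, ?_⟩
  have h : Spec.map τ ≫ X'.fromSpecStalk (genericPoint X') ≫ p' =
      X.fromSpecStalk (genericPoint X) ≫ p := by
    have h3 : Spec.map τ ≫ X'.fromSpecStalk (genericPoint X') =
        Spec.map (inv (U.ι.stalkMap ξ) ≫ X.presheaf.stalkSpecializes (specializes_of_eq hξ.symm)) ≫
          U.toScheme.fromSpecStalk ξ ≫ φ := by
      simp only [τ, Spec.map_comp, Category.assoc, Scheme.SpecMap_stalkSpecializes_fromSpecStalk,
        Scheme.SpecMap_stalkMap_fromSpecStalk]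
    have h4 : X.fromSpecStalk (genericPoint X) =
        Spec.map (inv (U.ι.stalkMap ξ) ≫ X.presheaf.stalkSpecializes (specializes_of_eq hξ.symm)) ≫
          U.toScheme.fromSpecStalk ξ ≫ U.ι := by
      rw [← Scheme.SpecMap_stalkMap_fromSpecStalk, ← Spec.map_comp_assoc, IsIso.hom_inv_id_assoc,
        Scheme.SpecMap_stalkSpecializes_fromSpecStalk]
    rw [← Category.assoc, h3, h4]
    simp only [Category.assoc, φ, he]
  rw [fromSpecStalk_comp, fromSpecStalk_comp, ← Spec.map_comp] at h
  intro c
  exact congr($(Spec.map_injective h) c)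

section Center

variable (p : X ⟶ Spec (CommRingCat.of k)) (p' : X' ⟶ Spec (CommRingCat.of k)) [IsProper p']
  (σ : X'.presheaf.stalk (genericPoint X') →+* X.presheaf.stalk (genericPoint X))
  (hσ : ∀ c, σ (cst p' _ c) = cst p _ c)

include hσ in
/-- A valuation ring of the function field has a centre on a proper model. -/
theorem exists_center (y : X) [ValuationRing (X.presheaf.stalk y)] : ∃ x' : X', Dominates σ x' y := by
  letI : Algebra (X.presheaf.stalk y) (X.presheaf.stalk (genericPoint X)) := (toK y).toAlgebra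
  haveI : IsFractionRing (X.presheaf.stalk y) (X.presheaf.stalk (genericPoint X)) :=
    inferInstanceAs (IsFractionRing (X.presheaf.stalk y) X.functionField)
  letI : Field (X.presheaf.stalk (genericPoint X)) := inferInstanceAs (Field X.functionField)
  let sq : ValuativeCommSq p' :=
    { R := X.presheaf.stalk y
      K := X.presheaf.stalk (genericPoint X)
      i₁ := Spec.map (CommRingCat.ofHom σ) ≫ X'.fromSpecStalk (genericPoint X')
      i₂ := X.fromSpecStalk y ≫ p
      commSq := ⟨by
        rw [Category.assoc, fromSpecStalk_comp, fromSpecStalk_comp, ← Spec.map_comp, ← Spec.map_comp]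
        congr 1
        ext c
        exact (hσ c).trans (toK_cst p y c).symm⟩ }
  have hex : ValuativeCriterion.Existence p' := by
    have : UniversallyClosed p' := inferInstance
    rw [UniversallyClosed.eq_valuativeCriterion] at this
    exact this.1
  obtain ⟨l, hl₁, -⟩ := (hex sq).exists_lift
  refine ⟨l (closedPoint (X.presheaf.stalk y)), ?_⟩
  set x' := l (closedPoint (X.presheaf.stalk y))
  let c := Scheme.stalkClosedPointTo l
  have hcancel : X'.presheaf.stalkSpecializes (gp_specializes x') ≫ CommRingCat.ofHom σ =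
      c ≫ CommRingCat.ofHom (toK y) := by
    apply Spec.map_injective
    rw [← cancel_mono (X'.fromSpecStalk x'), Spec.map_comp, Spec.map_comp, Category.assoc, Category.assoc,
      Scheme.SpecMap_stalkSpecializes_fromSpecStalk, Scheme.Spec_stalkClosedPointTo_fromSpecStalk]
    exact hl₁.symm
  intro a
  exact ⟨c a, (congr($hcancel a)).symm⟩

end Center

section Main

variable [IsLocallyNoetherian X] (hX : Pi1.IsNormalScheme X)
  (p : X ⟶ Spec (CommRingCat.of k)) (p' : X' ⟶ Spec (CommRingCat.of k)) [IsProper p']
  {σ : X'.presheaf.stalk (genericPoint X') →+* X.presheaf.stalk (genericPoint X)}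
  (hσ : ∀ c, σ (cst p' _ c) = cst p _ c)
  {P' : X'.Modules} {P : X.Modules} (hP : Coh.IsCoh P) (hPr : RefHull.IsReflexive P)
  (hP' : Inj P') (T : Transport σ P' P)

include hX hσ hP hPr hP' T in
/-- Global sections transport injectively, linearly over the constants. -/
theorem exists_injective_sections :
    ∃ F : Γ(P', ⊤) →+ Γ(P, ⊤), Function.Injective F ∧
      ∀ (c : k) (s : Γ(P', ⊤)), F (gcst p' c • s) = gcst p c • F s := by
  have hinj := inj_of_isReflexive hP hPr
  let v : Γ(P', ⊤) → P.presheaf.stalk (genericPoint X) := fun s =>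
    T.map (P'.presheaf.germ ⊤ (genericPoint X') trivial s)
  have hv : ∀ s, ∀ x : X, v s ∈ Latt P x := fun s x => by
    refine (mem_latt_iff_depth_one hP hPr _).2 fun y _ hd => ?_
    haveI := CDiv6.isDVR_of_coheight_one hX (CDiv6.coheight_eq_one_of_depth hX hd)
    obtain ⟨x', hx'⟩ := exists_center p p' σ hσ y
    exact T.map_latt x' y hx' _ (germ_mem_latt (U := ⊤) (x := x') trivial s)
  choose F hF using fun s => hinj.exists_section (U := ⊤) trivial (v s) fun x _ => hv s x
  have hadd : ∀ s t, F (s + t) = F s + F t := fun s t => hinj.sect_ext (U := ⊤) trivial (by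
    rw [hF, map_add, hF, hF]
    exact (congrArg T.map (map_add _ s t)).trans (map_add T.map _ _))
  refine ⟨AddMonoidHom.mk' F hadd, fun s t h => ?_, fun c s => hinj.sect_ext (U := ⊤) trivial ?_⟩
  · refine hP'.sect_ext (U := ⊤) trivial (T.injective ?_)
    have h1 := congrArg (P.presheaf.germ ⊤ (genericPoint X) trivial) h
    exact (hF s).symm.trans (h1.trans (hF t))
  · show P.presheaf.germ ⊤ _ trivial (F _) = _
    rw [hF]
    show T.map (P'.presheaf.germ ⊤ _ trivial (gcst p' c • s)) = _
    erw [QCoh.germ_smul', QCoh.germ_smul']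
    rw [T.map_smul]
    exact congrArg₂ (· • ·) (hσ c) (hF s).symm

include hσ in
omit [IsProper p'] [IsLocallyNoetherian X] in
theorem cst_symm (τ : X.presheaf.stalk (genericPoint X) →+* X'.presheaf.stalk (genericPoint X'))
    (hτ : ∀ a, τ (σ a) = a) (c : k) : τ (cst p _ c) = cst p' _ c := by
  rw [← hσ, hτ]

end Main

/-- Global sections as cohomology in degree zero, linearly over the constants. -/
theorem exists_hh0 (X : Scheme.{u}) [X.Over (Spec (CommRingCat.of k))] (M : X.Modules) :
    ∃ e : Coh.HH X M 0 ≃+ Γ(M, ⊤), ∀ (c : k) (x : Coh.HH X M 0),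
      e (c • x) = gcst (X ↘ Spec (CommRingCat.of k)) c • e x := by
  let e : Coh.HH X M 0 ≃+ Γ(M, ⊤) := Sheaf.H.equiv₀ (Coh.toAb M) isTerminalTop
  refine ⟨e, fun c x => ?_⟩
  set r := Coh.toGlobal (X ↘ Spec (CommRingCat.of k)) c
  refine ((Sheaf.H.equiv₀_naturality isTerminalTop (Coh.smulAb M r) x).symm).trans ?_
  show (show Γ(X, ⊤) from Coh.resTop X (Opposite.op ⊤) r) • e x = (show Γ(X, ⊤) from r) • e x
  congr 1
  show (X.presheaf.map (homOfLE le_top).op).hom r = r
  rw [show (homOfLE le_top).op = 𝟙 (Opposite.op (⊤ : X.Opens)) from rfl, X.presheaf.map_id]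
  rfl

/-- **Birational invariance**: the dimensions of spaces of global sections agree when the generic
stalks transport both ways. -/
theorem finrank_eq_of_transport (X X' : Scheme.{u}) [IsIntegral X] [IsIntegral X']
    [X.Over (Spec (CommRingCat.of k))] [X'.Over (Spec (CommRingCat.of k))]
    [IsProper (X ↘ Spec (CommRingCat.of k))] [IsProper (X' ↘ Spec (CommRingCat.of k))]
    (hX : Pi1.IsNormalScheme X) (hX' : Pi1.IsNormalScheme X')
    {σ : X'.presheaf.stalk (genericPoint X') →+* X.presheaf.stalk (genericPoint X)}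
    {τ : X.presheaf.stalk (genericPoint X) →+* X'.presheaf.stalk (genericPoint X')}
    (hσ : ∀ c, σ (cst (X' ↘ Spec (CommRingCat.of k)) _ c) = cst (X ↘ Spec (CommRingCat.of k)) _ c)
    (hτ : ∀ a, τ (σ a) = a)
    {P : X.Modules} {P' : X'.Modules} (hP : Coh.IsCoh P) (hPr : RefHull.IsReflexive P)
    (hP' : Coh.IsCoh P') (hPr' : RefHull.IsReflexive P')
    (T : Transport σ P' P) (T' : Transport τ P P') :
    Module.finrank k (Coh.HH X P 0) = Module.finrank k (Coh.HH X' P' 0) := by
  haveI : IsLocallyNoetherian X := LocallyOfFiniteType.isLocallyNoetherian (X ↘ Spec (CommRingCat.of k))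
  haveI : IsLocallyNoetherian X' := LocallyOfFiniteType.isLocallyNoetherian (X' ↘ Spec (CommRingCat.of k))
  obtain ⟨e, he⟩ := exists_hh0 (k := k) X P
  obtain ⟨e', he'⟩ := exists_hh0 (k := k) X' P'
  obtain ⟨F, hF, hFl⟩ := exists_injective_sections hX (X ↘ Spec (CommRingCat.of k))
    (X' ↘ Spec (CommRingCat.of k)) hσ hP hPr (inj_of_isReflexive hP' hPr') T
  obtain ⟨G, hG, hGl⟩ := exists_injective_sections hX' (X' ↘ Spec (CommRingCat.of k))
    (X ↘ Spec (CommRingCat.of k)) (cst_symm (σ := σ) (X ↘ Spec (CommRingCat.of k)) (X' ↘ Spec (CommRingCat.of k)) hσ τ hτ)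
    hP' hPr' (inj_of_isReflexive hP hPr) T'
  let f : Coh.HH X' P' 0 →ₗ[k] Coh.HH X P 0 :=
    { toFun := fun x => e.symm (F (e' x))
      map_add' := fun x y => by simp only [map_add]
      map_smul' := fun c x => e.injective (by
        rw [AddEquiv.apply_symm_apply, he', hFl, RingHom.id_apply, he, AddEquiv.apply_symm_apply]) }
  let g : Coh.HH X P 0 →ₗ[k] Coh.HH X' P' 0 :=
    { toFun := fun x => e'.symm (G (e x))
      map_add' := fun x y => by simp only [map_add]
      map_smul' := fun c x => e'.injective (by
        rw [AddEquiv.apply_symm_apply, he, hGl, RingHom.id_apply, he', AddEquiv.apply_symm_apply]) }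
  have hf : Function.Injective f := e.symm.injective.comp (hF.comp e'.injective)
  have hg : Function.Injective g := e'.symm.injective.comp (hG.comp e.injective)
  exact congrArg Cardinal.toNat
    (le_antisymm (LinearMap.rank_le_of_injective g hg) (LinearMap.rank_le_of_injective f hf))

end Groth.Agent.CIntLib
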