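import Mathlib
import Groth.Prelude.Def_BlowUp2
import Groth.Agent.W4Lib.Flat
import Groth.Agent.NFlat6.Pieces
import Groth.Prelude.Def_EGA4b

/-!
# Flatness of the exceptional ring of a chart from flatness of the thickenings
-/

universe u

open Module

namespace Groth.Agent.CIntLib

/-- The kernel of a surjection between flat modules is flat. -/
theorem flat_ker_of_surjective {R F M : Type u} [CommRing R] [AddCommGroup F] [Module R F]
    [Module.Flat R F] [AddCommGroup M] [Module R M] [Module.Flat R M] (f : F →ₗ[R] M)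
    (hf : Function.Surjective f) : Module.Flat R (LinearMap.ker f) := by
  rw [Module.Flat.iff_lTensor_preserves_injective_linearMap]
  intro N P _ _ _ _ g hg
  have h2 := W4Lib.lTensor_injective_of_flat_quotient
    (Submodule.injective_subtype (LinearMap.ker f)) (LinearMap.exact_subtype_ker_map f) hf N
  rw [LinearMap.lTensor_inj_iff_rTensor_inj] at h2
  have h3 : Function.Injective (g.lTensor F ∘ₗ (LinearMap.ker f).subtype.rTensor N) :=
    (Module.Flat.lTensor_preserves_injective_linearMap (M := F) g hg).comp h2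
  rw [LinearMap.lTensor_comp_rTensor, ← LinearMap.rTensor_comp_lTensor] at h3
  exact Function.Injective.of_comp (by exact h3)

variable {R A : Type u} [CommRing R] [CommRing A] [Algebra R A] (I : Ideal A)

/-- Relations in the graded pieces `Iᵐ/Iᵐ⁺¹` are trivial when the thickenings are flat. -/
theorem trivial_relation_mod (h : ∀ n : ℕ, Module.Flat R (A ⧸ I ^ (n + 1))) (m : ℕ) {l : ℕ}
    (f : Fin l → R) (x : Fin l → A) (hx : ∀ i, x i ∈ I ^ m) (hsum : ∑ i, f i • x i ∈ I ^ (m + 1)) :
    ∃ (k : ℕ) (c : Fin l → Fin k → R) (y : Fin k → A), (∀ j, y j ∈ I ^ m) ∧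
      (∀ i, x i - ∑ j, c i j • y j ∈ I ^ (m + 1)) ∧ ∀ j, ∑ i, f i * c i j = 0 := by
  have hflat : Module.Flat R (A ⧸ I ^ m) := by
    cases m with
    | zero =>
      have : Subsingleton (A ⧸ I ^ 0) := by
        rw [Ideal.Quotient.subsingleton_iff, pow_zero, Ideal.one_eq_top]
      infer_instance
    | succ m => exact h m
  have := h m
  have hle : I ^ (m + 1) ≤ I ^ m := Ideal.pow_le_pow_right (Nat.le_succ m)
  let q : (A ⧸ I ^ (m + 1)) →ₗ[R] A ⧸ I ^ m := (Ideal.Quotient.factorₐ R hle).toLinearMap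
  have hq : Function.Surjective q := Ideal.Quotient.factor_surjective hle
  have := flat_ker_of_surjective q hq
  let z : Fin l → LinearMap.ker q := fun i => ⟨Ideal.Quotient.mk _ (x i), by
    show q (Ideal.Quotient.mk _ (x i)) = 0
    exact (Ideal.Quotient.eq_zero_iff_mem).mpr (hx i)⟩
  have hz : ∑ i, f i • z i = 0 := Subtype.ext (by
    rw [Submodule.coe_sum]
    simp only [Submodule.coe_smul, Submodule.coe_zero, z]
    rw [← Ideal.Quotient.eq_zero_iff_mem.mpr hsum, map_sum]
    rfl)
  obtain ⟨k, c, y, hy, hc⟩ := Module.Flat.isTrivialRelation_of_sum_smul_eq_zero hz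
  choose w hw using fun j => Ideal.Quotient.mk_surjective (y j).1
  refine ⟨k, c, w, fun j => ?_, fun i => ?_, hc⟩
  · have h1 : q (y j).1 = 0 := (y j).2
    rw [← hw j] at h1
    exact Ideal.Quotient.eq_zero_iff_mem.mp h1
  · rw [← Ideal.Quotient.eq_zero_iff_mem, map_sub, sub_eq_zero, map_sum]
    refine (congrArg Subtype.val (hy i)).trans ?_
    rw [Submodule.coe_sum]
    refine Finset.sum_congr rfl fun j _ => ?_
    rw [Submodule.coe_smul, ← hw j]
    rfl

/-- `x/a^m` in the affine blow-up algebra. -/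
theorem mk'_pow_mem {a : A} {m : ℕ} {x : A} (hx : x ∈ I ^ m) :
    IsLocalization.mk' (Localization.Away a) x (⟨a ^ m, m, rfl⟩ : Submonoid.powers a) ∈
      BlowUp.affineAlgebra A I a := by
  induction m generalizing x with
  | zero =>
    have : IsLocalization.mk' (Localization.Away a) x (⟨a ^ 0, 0, rfl⟩ : Submonoid.powers a) =
        algebraMap A _ x := by
      rw [IsLocalization.mk'_eq_iff_eq_mul]; simp
    rw [this]
    exact Subalgebra.algebraMap_mem _ _
  | succ m ih =>
    rw [pow_succ] at hx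
    refine Submodule.smul_induction_on' hx (fun r hr s hs => ?_) fun p hp q hq hp' hq' => ?_
    · have : IsLocalization.mk' (Localization.Away a) (r • s)
          (⟨a ^ (m + 1), m + 1, rfl⟩ : Submonoid.powers a) =
          IsLocalization.mk' (Localization.Away a) r (⟨a ^ m, m, rfl⟩ : Submonoid.powers a) *
            IsLocalization.mk' (Localization.Away a) s
              (⟨a, Submonoid.mem_powers a⟩ : Submonoid.powers a) := by
        rw [smul_eq_mul, ← IsLocalization.mk'_mul]
        exact congrArg (IsLocalization.mk' _ (r * s)) (Subtype.ext (pow_succ a m))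
      rw [this]
      exact mul_mem (ih hr) (Algebra.subset_adjoin ⟨s, hs, rfl⟩)
    · have : IsLocalization.mk' (Localization.Away a) (p + q)
          (⟨a ^ (m + 1), m + 1, rfl⟩ : Submonoid.powers a) =
          IsLocalization.mk' (Localization.Away a) p
              (⟨a ^ (m + 1), m + 1, rfl⟩ : Submonoid.powers a) +
            IsLocalization.mk' (Localization.Away a) q
              (⟨a ^ (m + 1), m + 1, rfl⟩ : Submonoid.powers a) := by
        rw [IsLocalization.mk'_eq_iff_eq_mul, add_mul, IsLocalization.mk'_spec,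
          IsLocalization.mk'_spec, map_add]
      rw [this]
      exact add_mem hp' hq'

variable {I} {a : A}

/-- `x ↦ x/a^m` on `I^m`. -/
noncomputable def powFrac (m : ℕ) (x : A) (hx : x ∈ I ^ m) : BlowUp.affineAlgebra A I a :=
  ⟨_, mk'_pow_mem I (a := a) hx⟩

theorem powFrac_mul (m : ℕ) (x : A) (hx : x ∈ I ^ m) :
    powFrac (a := a) m x hx * algebraMap A _ (a ^ m) = algebraMap A _ x :=
  Subtype.ext (IsLocalization.mk'_spec (Localization.Away a) x _)

theorem mul_pow_cancel {p q : BlowUp.affineAlgebra A I a} (m : ℕ)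
    (h : p * algebraMap A _ (a ^ m) = q * algebraMap A _ (a ^ m)) : p = q :=
  Subtype.ext ((IsLocalization.map_units (Localization.Away a)
    (⟨a ^ m, m, rfl⟩ : Submonoid.powers a)).mul_left_inj.mp (congrArg Subtype.val h))

theorem powFrac_shift (ha : a ∈ I) (m k : ℕ) (x : A) (hx : x ∈ I ^ m) :
    powFrac (a := a) m x hx = powFrac (m + k) (x * a ^ k)
      (pow_add I m k ▸ Ideal.mul_mem_mul hx (Ideal.pow_mem_pow ha k)) := by
  refine mul_pow_cancel (m + k) ?_
  rw [powFrac_mul, pow_add, map_mul, ← mul_assoc, powFrac_mul, map_mul]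

/-- Every element of `A[I/a]` is some `x/a^m` with `x ∈ I^m`, and then for all larger `m`. -/
theorem exists_powFrac (ha : a ∈ I) (z : BlowUp.affineAlgebra A I a) :
    ∃ m, ∀ n, m ≤ n → ∃ (x : A) (hx : x ∈ I ^ n), z = powFrac n x hx := by
  suffices ∃ (m : ℕ) (x : A) (hx : x ∈ I ^ m), z = powFrac m x hx by
    obtain ⟨m, x, hx, rfl⟩ := this
    refine ⟨m, fun n hn => ?_⟩
    obtain ⟨k, rfl⟩ := Nat.exists_eq_add_of_le hn
    exact ⟨_, _, powFrac_shift ha m k x hx⟩
  obtain ⟨q, hq⟩ := z
  change q ∈ Algebra.adjoin _ _ at hq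
  induction hq using Algebra.adjoin_induction with
  | mem q hq =>
    obtain ⟨x, hx, rfl⟩ := hq
    refine ⟨1, x, by rwa [pow_one], Subtype.ext ?_⟩
    exact congrArg (IsLocalization.mk' (Localization.Away a) x) (Subtype.ext (pow_one a).symm)
  | algebraMap r =>
    refine ⟨0, r, by simp, Subtype.ext ?_⟩
    rw [powFrac]
    rw [eq_comm, IsLocalization.mk'_eq_iff_eq_mul]
    simp
  | add p q hp hq ihp ihq =>
    obtain ⟨m, x, hx, hxe⟩ := ihp
    obtain ⟨n, y, hy, hye⟩ := ihq
    refine ⟨m + n, x * a ^ n + y * a ^ m, add_mem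
      (pow_add I m n ▸ Ideal.mul_mem_mul hx (Ideal.pow_mem_pow ha n))
      (add_comm n m ▸ pow_add I n m ▸ Ideal.mul_mem_mul hy (Ideal.pow_mem_pow ha m)), ?_⟩
    refine mul_pow_cancel (m + n) ?_
    rw [powFrac_mul, show (⟨p + q, add_mem hp hq⟩ : BlowUp.affineAlgebra A I a) =
      ⟨p, hp⟩ + ⟨q, hq⟩ from rfl, hxe, hye, map_add, map_mul, map_mul, ← powFrac_mul (a := a) m x hx,
      ← powFrac_mul (a := a) n y hy, pow_add, map_mul]
    ring
  | mul p q hp hq ihp ihq =>
    obtain ⟨m, x, hx, hxe⟩ := ihp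
    obtain ⟨n, y, hy, hye⟩ := ihq
    refine ⟨m + n, x * y, pow_add I m n ▸ Ideal.mul_mem_mul hx hy, mul_pow_cancel (m + n) ?_⟩
    rw [powFrac_mul, show (⟨p * q, mul_mem hp hq⟩ : BlowUp.affineAlgebra A I a) =
      ⟨p, hp⟩ * ⟨q, hq⟩ from rfl, hxe, hye, map_mul, ← powFrac_mul (a := a) m x hx,
      ← powFrac_mul (a := a) n y hy, pow_add, map_mul]
    ring

theorem map_eq_span (ha : a ∈ I) :
    I.map (algebraMap A (BlowUp.affineAlgebra A I a)) = Ideal.span {algebraMap A _ a} := by
  refine le_antisymm ?_ ((Ideal.span_singleton_le_iff_mem _).mpr (Ideal.mem_map_of_mem _ ha))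
  rw [Ideal.map_le_iff_le_comap]
  intro x hx
  refine Ideal.mem_span_singleton'.mpr ⟨powFrac 1 x (by rwa [pow_one]), ?_⟩
  have h1 : x ∈ I ^ 1 := by rwa [pow_one]
  exact (congrArg (fun b => powFrac 1 x h1 * algebraMap A (BlowUp.affineAlgebra A I a) b)
    (pow_one a).symm).trans (powFrac_mul (a := a) 1 x h1)

theorem powFrac_mem_of_mem_succ (ha : a ∈ I) (m : ℕ) (x : A) (hx : x ∈ I ^ m)
    (hx' : x ∈ I ^ (m + 1)) :
    powFrac (a := a) m x hx ∈ I.map (algebraMap A (BlowUp.affineAlgebra A I a)) := by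
  rw [map_eq_span ha]
  refine Ideal.mem_span_singleton'.mpr ⟨powFrac (m + 1) x hx', mul_pow_cancel m ?_⟩
  rw [powFrac_mul, mul_assoc, ← map_mul, ← pow_succ', powFrac_mul]

/-- Trivial relations in the graded pieces give trivial relations in the exceptional ring of a chart
(coefficients in `A`). -/
theorem exists_trivial_of_rel (ha : a ∈ I) {l : ℕ} (f : Fin l → A)
    (Q : ∀ k, (Fin l → Fin k → A) → Prop)
    (hrel : ∀ (m : ℕ) (x : Fin l → A), (∀ i, x i ∈ I ^ m) → ∑ i, f i • x i ∈ I ^ (m + 1) →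
      ∃ (k : ℕ) (c : Fin l → Fin k → A) (y : Fin k → A), (∀ j, y j ∈ I ^ m) ∧
        (∀ i, x i - ∑ j, c i j • y j ∈ I ^ (m + 1)) ∧ Q k c)
    (b : Fin l → BlowUp.affineAlgebra A I a)
    (hb0 : ∑ i, f i • b i ∈ I.map (algebraMap A (BlowUp.affineAlgebra A I a))) :
    ∃ (k : ℕ) (c : Fin l → Fin k → A) (y : Fin k → BlowUp.affineAlgebra A I a),
      (∀ i, b i - ∑ j, c i j • y j ∈ I.map (algebraMap A (BlowUp.affineAlgebra A I a))) ∧ Q k c := by
  let B := BlowUp.affineAlgebra A I a
  let J : Ideal (BlowUp.affineAlgebra A I a) := I.map (algebraMap A (BlowUp.affineAlgebra A I a))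
  choose M hM using fun i => exists_powFrac ha (b i)
  set N := ∑ i, M i
  choose x hx hxe using fun i => hM i N (Finset.single_le_sum (fun j _ => Nat.zero_le (M j))
    (Finset.mem_univ i))
  have hsum : ∑ i, f i • b i ∈ J := hb0
  simp only [J, B, map_eq_span ha] at hsum
  obtain ⟨w, hw⟩ := Ideal.mem_span_singleton'.mp hsum
  obtain ⟨M', hM'⟩ := exists_powFrac ha w
  set P := N + M'
  obtain ⟨v, hv, rfl⟩ := hM' P (Nat.le_add_left _ _)
  have hs : ∀ i, algebraMap A B (x i * a ^ M') = b i * algebraMap A B (a ^ P) := fun i => by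
    rw [hxe i, map_mul, ← powFrac_mul (a := a) N (x i) (hx i), show P = N + M' from rfl, pow_add,
      map_mul]
    ring
  have h1 : algebraMap A B (∑ i, f i • (x i * a ^ M')) = algebraMap A B (v * a) := by
    rw [map_sum, map_mul, ← powFrac_mul (a := a) P v hv]
    have : ∑ i, f i • (b i * algebraMap A B (a ^ P)) =
        powFrac P v hv * algebraMap A B a * algebraMap A B (a ^ P) := by
      rw [hw, Finset.sum_mul]
      exact Finset.sum_congr rfl fun i _ => (smul_mul_assoc _ _ _).symm
    rw [show powFrac P v hv * algebraMap A B (a ^ P) * algebraMap A B a =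
      powFrac P v hv * algebraMap A B a * algebraMap A B (a ^ P) from mul_right_comm _ _ _, ← this]
    refine Finset.sum_congr rfl fun i _ => ?_
    rw [← hs i]
    exact (IsScalarTower.toAlgHom A A B).toLinearMap.map_smul (f i) _
  obtain ⟨⟨_, k, rfl⟩, hk⟩ :=
    IsLocalization.exists_of_eq (M := Submonoid.powers a) (congrArg Subtype.val h1 :
      algebraMap A (Localization.Away a) _ = algebraMap A (Localization.Away a) _)
  have hx' : ∀ i, x i * a ^ M' * a ^ k ∈ I ^ (P + k) := fun i => by
    rw [show P + k = N + M' + k from rfl, pow_add, pow_add]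
    exact Ideal.mul_mem_mul (Ideal.mul_mem_mul (hx i) (Ideal.pow_mem_pow ha _))
      (Ideal.pow_mem_pow ha _)
  have hs' : ∑ i, f i • (x i * a ^ M' * a ^ k) ∈ I ^ (P + k + 1) := by
    simp only [← smul_mul_assoc, ← Finset.sum_mul] at hk ⊢
    rw [mul_comm, hk, show a ^ k * (v * a) = v * a ^ (k + 1) by ring, add_assoc, pow_add]
    exact Ideal.mul_mem_mul hv (Ideal.pow_mem_pow ha _)
  obtain ⟨r, c, y, hy, hxy, hc⟩ := hrel (P + k) _ hx' hs'
  refine ⟨r, c, fun j => powFrac (P + k) (y j) (hy j), fun i => ?_, hc⟩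
  have hmem : ∑ j, c i j • y j ∈ I ^ (P + k) :=
    sum_mem fun j _ => Submodule.smul_of_tower_mem _ _ (hy j)
  have hbi : b i = powFrac (P + k) (x i * a ^ M' * a ^ k) (hx' i) := by
    refine mul_pow_cancel (P + k) ?_
    rw [powFrac_mul, pow_add, map_mul, map_mul, ← mul_assoc, hs i]
  have hdiff := powFrac_mem_of_mem_succ ha (P + k) _
    (sub_mem (hx' i) hmem) (hxy i)
  have hsub : powFrac (a := a) (P + k) (x i * a ^ M' * a ^ k - ∑ j, c i j • y j)
      (sub_mem (hx' i) hmem) = b i - ∑ j, c i j • powFrac (P + k) (y j) (hy j) := by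
    refine mul_pow_cancel (P + k) ?_
    rw [powFrac_mul, sub_mul, Finset.sum_mul, map_sub, map_sum, hbi, powFrac_mul]
    congr 1
    refine Finset.sum_congr rfl fun j _ => ?_
    rw [smul_mul_assoc, powFrac_mul]
    exact (IsScalarTower.toAlgHom A A B).toLinearMap.map_smul _ _
  rwa [hsub] at hdiff

/-- If all thickenings are flat over `R` then so is the exceptional ring of each chart. -/
theorem flat_affineAlgebra_quotient (ha : a ∈ I) (h : ∀ n : ℕ, Module.Flat R (A ⧸ I ^ (n + 1))) :
    Module.Flat R (BlowUp.affineAlgebra A I a ⧸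
      I.map (algebraMap A (BlowUp.affineAlgebra A I a))) := by
  refine Module.Flat.of_forall_isTrivialRelation fun {l f z} hz => ?_
  choose b hb using fun i => Ideal.Quotient.mk_surjective (z i)
  have hb0 : ∑ i, algebraMap R A (f i) • b i ∈
      I.map (algebraMap A (BlowUp.affineAlgebra A I a)) := by
    rw [← Ideal.Quotient.eq_zero_iff_mem, map_sum, ← hz]
    refine Finset.sum_congr rfl fun i _ => ?_
    rw [algebraMap_smul, ← hb]
    rfl
  obtain ⟨k, c, y, hy, c', hc', hc⟩ := exists_trivial_of_rel ha (fun i => algebraMap R A (f i))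
    (fun k c => ∃ c' : Fin l → Fin k → R, (∀ i j, c i j = algebraMap R A (c' i j)) ∧
      ∀ j, ∑ i, f i * c' i j = 0)
    (fun m x hx hs => by
      simp only [algebraMap_smul] at hs
      obtain ⟨k, c, y, hy, hxy, hc⟩ := trivial_relation_mod I h m f x hx hs
      exact ⟨k, fun i j => algebraMap R A (c i j), y, hy,
        fun i => by simpa only [algebraMap_smul] using hxy i, c, fun _ _ => rfl, hc⟩) b hb0
  refine ⟨k, c', fun j => Ideal.Quotient.mk _ (y j), fun i => ?_, hc⟩
  have h1 := hy i
  rw [← Ideal.Quotient.eq_zero_iff_mem, map_sub, sub_eq_zero, hb, map_sum] at h1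
  rw [h1]
  refine Finset.sum_congr rfl fun j _ => ?_
  rw [hc', algebraMap_smul]
  rfl

set_option synthInstance.maxHeartbeats 100000 in
/-- Normal flatness gives flatness of the exceptional ring of each chart over the centre. -/
theorem flat_exceptional_ring_of_normallyFlat (ha : a ∈ I)
    [Algebra (A ⧸ I) (BlowUp.affineAlgebra A I a ⧸
      I.map (algebraMap A (BlowUp.affineAlgebra A I a)))]
    (hθ : ∀ x : A, algebraMap (A ⧸ I) (BlowUp.affineAlgebra A I a ⧸
      I.map (algebraMap A (BlowUp.affineAlgebra A I a))) (Ideal.Quotient.mk I x) =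
        Ideal.Quotient.mk _ (algebraMap A _ x))
    (h : EGA4.IsNormallyFlat I A) :
    Module.Flat (A ⧸ I) (BlowUp.affineAlgebra A I a ⧸
      I.map (algebraMap A (BlowUp.affineAlgebra A I a))) := by
  refine Module.Flat.of_forall_isTrivialRelation fun {l f z} hz => ?_
  choose b hb using fun i => Ideal.Quotient.mk_surjective (z i)
  choose f' hf' using fun i => Ideal.Quotient.mk_surjective (f i)
  have hsmul : ∀ (x : A) (y : BlowUp.affineAlgebra A I a),
      (Ideal.Quotient.mk I x) • (Ideal.Quotient.mk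
        (I.map (algebraMap A (BlowUp.affineAlgebra A I a))) y) = Ideal.Quotient.mk _ (x • y) := by
    intro x y
    rw [Algebra.smul_def, hθ, Algebra.smul_def, map_mul]
  have hb0 : ∑ i, f' i • b i ∈ I.map (algebraMap A (BlowUp.affineAlgebra A I a)) := by
    rw [← Ideal.Quotient.eq_zero_iff_mem, map_sum, ← hz]
    refine Finset.sum_congr rfl fun i _ => ?_
    rw [← hsmul, hf', hb]
  obtain ⟨k, c, y, hy, hc⟩ := exists_trivial_of_rel ha f'
    (fun k c => ∀ j, ∑ i, f' i * c i j ∈ I) (fun m x hx hs => by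
      have := h m
      let ζ : Fin l → NFlat6.Pc I A m := fun i =>
        Submodule.Quotient.mk ⟨x i, by simpa [NFlat6.Pw] using hx i⟩
      have hζ : ∑ i, Ideal.Quotient.mk I (f' i) • ζ i = 0 := by
        have h2 : ∑ i, Ideal.Quotient.mk I (f' i) • ζ i = Submodule.Quotient.mk
            (∑ i, f' i • (⟨x i, by simpa [NFlat6.Pw] using hx i⟩ : ↥(NFlat6.Pw I A m))) := by
          rw [← Submodule.mkQ_apply, map_sum]
          exact Finset.sum_congr rfl fun i _ => rfl
        rw [h2, NFlat6.pc_mk_eq_zero, Submodule.coe_sum]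
        simpa [NFlat6.Pw] using hs
      obtain ⟨k, c, y, hy, hc⟩ := Module.Flat.isTrivialRelation_of_sum_smul_eq_zero hζ
      choose c' hc' using fun i j => Ideal.Quotient.mk_surjective (c i j)
      choose w hw using fun j => Submodule.Quotient.mk_surjective _ (y j)
      refine ⟨k, c', fun j => (w j).1, fun j => by simpa [NFlat6.Pw] using (w j).2, fun i => ?_,
        fun j => ?_⟩
      · have h2 : (Submodule.Quotient.mk ((⟨x i, by simpa [NFlat6.Pw] using hx i⟩ :
            ↥(NFlat6.Pw I A m)) - ∑ j, c' i j • w j) : NFlat6.Pc I A m) = 0 := by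
          rw [Submodule.Quotient.mk_sub, sub_eq_zero, ← Submodule.mkQ_apply _ (∑ j, c' i j • w j),
            map_sum]
          refine (hy i).trans (Finset.sum_congr rfl fun j _ => ?_)
          rw [← hc', ← hw]
          rfl
        rw [NFlat6.pc_mk_eq_zero, AddSubgroupClass.coe_sub, Submodule.coe_sum] at h2
        simpa [NFlat6.Pw] using h2
      · rw [← Ideal.Quotient.eq_zero_iff_mem, map_sum, ← hc j]
        exact Finset.sum_congr rfl fun i _ => by rw [map_mul, hc']) b hb0
  refine ⟨k, fun i j => Ideal.Quotient.mk I (c i j), fun j => Ideal.Quotient.mk _ (y j), fun i => ?_,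
    fun j => ?_⟩
  · have h1 := hy i
    rw [← Ideal.Quotient.eq_zero_iff_mem, map_sub, sub_eq_zero, hb, map_sum] at h1
    rw [h1]
    exact Finset.sum_congr rfl fun j _ => (hsmul _ _).symm
  · have := Ideal.Quotient.eq_zero_iff_mem.mpr (hc j)
    rw [map_sum] at this
    rw [← this]
    exact Finset.sum_congr rfl fun i _ => by rw [map_mul, hf']

end Groth.Agent.CIntLib
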