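import Groth.Prelude.Def_CInt
import Groth.Agent.CIntLib.BlowExc
import Groth.Agent.CIntLib.BlowFlatAlg
import Groth.Agent.FlatX.RelCartier

/-!
# Blow-ups along centres with flat thickenings
-/

universe u

open CategoryTheory CategoryTheory.Limits AlgebraicGeometry

namespace Groth.Agent.CIntLib

variable {X X' S : Scheme.{u}}

/-- Charts of a blow-up over an affine piece, one for each element of the centre. -/
theorem exists_chart_of_blowUp' {b : X' ⟶ X} {C : X.IdealSheafData} (hb : BlowUp.IsBlowUp b C)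
    {A : Type u} [CommRing A] (I : Ideal A)
    (q : Spec (CommRingCat.of A) ⟶ X) [IsOpenImmersion q]
    (hC : C.comap q = BlowUpLib.centre I) (x' : X') (hx : b x' ∈ Set.range q) :
    ∃ (a : I) (k : Spec (CommRingCat.of (BlowUp.affineAlgebra A I (a : A))) ⟶ X'),
      IsOpenImmersion k ∧ x' ∈ Set.range k ∧
      k ≫ b = Spec.map (CommRingCat.ofHom (algebraMap A _)) ≫ q := by
  have hP : IsPullback (pullback.snd b q) (pullback.fst b q) q b :=
    (IsPullback.of_hasPullback b q).flip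
  have hb' := BlowUpLib.isBlowUp_of_isPullback hP hb
  rw [hC] at hb'
  obtain ⟨σ, hσ⟩ := BlowUpLib.exists_iso (BlowUpLib.isBlowUp_local I) hb'
  obtain ⟨p, hp⟩ : x' ∈ Set.range (pullback.fst b q) := by
    rw [Scheme.Pullback.range_fst]; exact hx
  obtain ⟨a, z, hz⟩ := BlowUpLib.chart_covers I (σ.inv p)
  refine ⟨a, BlowUpLib.chart I a ≫ σ.hom ≫ pullback.fst b q, inferInstance, ⟨z, ?_⟩, ?_⟩
  · rw [Scheme.Hom.comp_apply, hz, ← Scheme.Hom.comp_apply, σ.inv_hom_id_assoc]
    exact hp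
  · rw [Category.assoc, Category.assoc, pullback.condition, reassoc_of% hσ,
      BlowUpLib.chart_toBase_assoc]

set_option backward.isDefEq.respectTransparency.types false in
theorem flat_specMap_mk {R B : Type u} [CommRing R] [CommRing B] [Algebra R B] (J : Ideal B)
    (h : Module.Flat R (B ⧸ J)) :
    Flat (Spec.map (CommRingCat.ofHom (Ideal.Quotient.mk J)) ≫
      Spec.map (CommRingCat.ofHom (algebraMap R B))) := by
  rw [← Spec.map_comp, ← CommRingCat.ofHom_comp]
  exact (HasRingHomProperty.Spec_iff (P := @Flat)).mpr (by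
    rw [CommRingCat.hom_ofHom]; exact RingHom.flat_algebraMap_iff.mpr h)

set_option backward.isDefEq.respectTransparency.types false in
/-- If all the thickenings of the centre are flat, so is the exceptional divisor. -/
theorem flat_exceptional (g : X ⟶ S) (𝓘 : X.IdealSheafData)
    (hflat : ∀ n : ℕ, Flat ((𝓘 ^ (n + 1)).subschemeι ≫ g)) {b : X' ⟶ X}
    (hb : BlowUp.IsBlowUp b 𝓘) : Flat ((BlowUp.exceptional b 𝓘).subschemeι ≫ b ≫ g) := by
  have hloc : ∀ e : (BlowUp.exceptional b 𝓘).subscheme,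
      ∃ (T : Scheme.{u}) (l : T ⟶ (BlowUp.exceptional b 𝓘).subscheme),
        IsOpenImmersion l ∧ e ∈ Set.range l ∧
          Flat (l ≫ (BlowUp.exceptional b 𝓘).subschemeι ≫ b ≫ g) := by
    intro e
    set x := b ((BlowUp.exceptional b 𝓘).subschemeι e)
    obtain ⟨W, hxW⟩ : ∃ W : S.affineOpens, g x ∈ W.1 := by
      obtain ⟨W, hW, hxW, -⟩ := exists_isAffineOpen_mem_and_subset (X := S) (x := g x) (U := ⊤) trivial
      exact ⟨⟨W, hW⟩, hxW⟩
    obtain ⟨U, hU, hxU, hUle⟩ := exists_isAffineOpen_mem_and_subset (X := X) (x := x)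
      (U := g ⁻¹ᵁ W.1) hxW
    obtain ⟨a, k, hk, hxk, hkb⟩ := exists_chart_of_blowUp' hb (𝓘.ideal ⟨U, hU⟩) hU.fromSpec
      (BlowUpLib.comap_fromSpec 𝓘 ⟨U, hU⟩) ((BlowUp.exceptional b 𝓘).subschemeι e)
      (by rw [hU.range_fromSpec]; exact hxU)
    let J := (𝓘.ideal ⟨U, hU⟩).map (algebraMap Γ(X, U)
      (BlowUp.affineAlgebra Γ(X, U) (𝓘.ideal ⟨U, hU⟩) (a : Γ(X, U))))
    let iX := Spec.map (CommRingCat.ofHom (R := BlowUp.affineAlgebra Γ(X, U) (𝓘.ideal ⟨U, hU⟩) (a : Γ(X, U)))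
      (S := BlowUp.affineAlgebra Γ(X, U) (𝓘.ideal ⟨U, hU⟩) (a : Γ(X, U)) ⧸ J) (Ideal.Quotient.mk J))
    have : IsClosedImmersion iX :=
      IsClosedImmersion.spec_of_surjective _ Ideal.Quotient.mk_surjective
    obtain ⟨l, hl, hlι, hlr⟩ := exists_lift_openImmersion iX k (BlowUp.exceptional b 𝓘).subschemeι
      (ker_exceptional_comap (C := 𝓘) _ _ hU.fromSpec (BlowUpLib.comap_fromSpec 𝓘 ⟨U, hU⟩) k hkb)
    refine ⟨_, l, hl, hlr e hxk, ?_⟩
    letI := (g.appLE W.1 U hUle).hom.toAlgebra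
    have hth : ∀ n : ℕ, Module.Flat Γ(S, W.1) (Γ(X, U) ⧸ (𝓘.ideal ⟨U, hU⟩) ^ (n + 1)) := fun n => by
      have := FlatX.flat_congr (g.appLE W.1 U hUle).hom
        (show (𝓘 ^ (n + 1)).ideal ⟨U, hU⟩ = (𝓘.ideal ⟨U, hU⟩) ^ (n + 1) by
          rw [Scheme.IdealSheafData.ideal_pow, Pi.pow_apply])
        (FlatX.flat_quotApp g _ (hflat n) W ⟨U, hU⟩ hUle)
      exact RingHom.flat_algebraMap_iff.mp this
    have hB := flat_affineAlgebra_quotient (R := Γ(S, W.1)) a.2 hth
    have key : l ≫ (BlowUp.exceptional b 𝓘).subschemeι ≫ b ≫ g =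
        (iX ≫ Spec.map (CommRingCat.ofHom (algebraMap Γ(S, W.1)
          (BlowUp.affineAlgebra Γ(X, U) (𝓘.ideal ⟨U, hU⟩) (a : Γ(X, U)))))) ≫ W.2.fromSpec := by
      rw [reassoc_of% hlι, reassoc_of% hkb, ← IsAffineOpen.SpecMap_appLE_fromSpec g W.2 hU hUle,
        Category.assoc]
      refine congrArg (iX ≫ ·) ?_
      dsimp only
      rw [← Spec.map_comp_assoc]
      refine congrArg (fun t => Spec.map t ≫ W.2.fromSpec) (CommRingCat.hom_ext ?_)
      exact (IsScalarTower.algebraMap_eq _ _ _).symm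
    rw [key]
    have := flat_specMap_mk J hB
    show Flat ((iX ≫ _) ≫ W.2.fromSpec)
    infer_instance
  choose T l hl hmem hflatl using hloc
  refine IsZariskiLocalAtSource.of_iSup_eq_top (P := @Flat) (fun e => (l e).opensRange)
    (top_le_iff.mp fun e _ => TopologicalSpace.Opens.mem_iSup.mpr ⟨e, hmem e⟩) fun e => ?_
  rw [← Scheme.Hom.isoOpensRange_inv_comp, Category.assoc,
    MorphismProperty.cancel_left_of_respectsIso @Flat]
  exact hflatl e

/-- If the pulled back centre is still Cartier, base change of a blow-up is the blow-up. -/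
theorem isBlowUp_baseChangeOver (g : X ⟶ S) (𝓘 : X.IdealSheafData) {b : X' ⟶ X}
    (hb : BlowUp.IsBlowUp b 𝓘) {S₁ : Scheme.{u}} (s : S₁ ⟶ S)
    (hC : BlowUp.IsEffCartierIdeal ((BlowUp.exceptional b 𝓘).comap (pullback.fst (b ≫ g) s))) :
    BlowUp.IsBlowUp (CInt.baseChangeOver b g s) (𝓘.comap (pullback.fst g s)) := by
  have h1 : CInt.baseChangeOver b g s ≫ pullback.fst g s = pullback.fst (b ≫ g) s ≫ b :=
    pullback.lift_fst _ _ _
  have h2 : CInt.baseChangeOver b g s ≫ pullback.snd g s = pullback.snd (b ≫ g) s :=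
    (pullback.lift_snd _ _ _).trans (Category.comp_id _)
  refine ⟨?_, fun Z h hh => ?_⟩
  · rw [← Scheme.IdealSheafData.comap_comp, h1, Scheme.IdealSheafData.comap_comp]
    exact hC
  rw [← Scheme.IdealSheafData.comap_comp] at hh
  obtain ⟨k, hk, hu⟩ := hb.2 Z (h ≫ pullback.fst g s) hh
  refine ⟨pullback.lift k (h ≫ pullback.snd g s)
    (by rw [reassoc_of% hk, pullback.condition, Category.assoc]), ?_, fun h' hh' => ?_⟩
  · refine pullback.hom_ext ?_ ?_
    · rw [Category.assoc, h1, pullback.lift_fst_assoc, hk]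
    · rw [Category.assoc, h2, pullback.lift_snd]
  · have hh'' : h' ≫ CInt.baseChangeOver b g s = h := hh'
    refine pullback.hom_ext ?_ ?_
    · rw [pullback.lift_fst]
      exact hu (h' ≫ pullback.fst (b ≫ g) s) (by
        show (h' ≫ pullback.fst (b ≫ g) s) ≫ b = _
        rw [Category.assoc, ← h1, reassoc_of% hh''])
    · rw [pullback.lift_snd, ← hh'', Category.assoc, h2]

end Groth.Agent.CIntLib
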