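import Groth.Agent.BlowUpLib.Glue
import Groth.Agent.CIntLib.ClosedStalk
import Groth.Agent.S4991
import Groth.Agent.RegLoc6.Open

/-!
# Regularity of blow-ups at and off the exceptional divisor
-/

universe u

open CategoryTheory AlgebraicGeometry

namespace Groth.Agent.CIntLib

variable {X X' : Scheme.{u}}

/-- Off the centre a blow-up induces isomorphisms of local rings. -/
theorem isIso_stalkMap_of_notMem {b : X' ⟶ X} {C : X.IdealSheafData} (hb : BlowUp.IsBlowUp b C)
    {x' : X'} (hx : b x' ∉ C.support) : IsIso (b.stalkMap x') := by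
  have := BlowUpLib.isIso_restrict hb (ModPair.interior C) le_rfl
  let p : (b ⁻¹ᵁ ModPair.interior C).toScheme := ⟨x', hx⟩
  have h : IsIso ((b ∣_ ModPair.interior C).stalkMap p) := inferInstance
  exact (MorphismProperty.arrow_mk_iso_iff (MorphismProperty.isomorphisms _)
    (morphismRestrictStalkMap b (ModPair.interior C) p)).mp h

/-- Off the centre every point has a preimage. -/
theorem exists_preimage_of_notMem {b : X' ⟶ X} {C : X.IdealSheafData} (hb : BlowUp.IsBlowUp b C)
    {x : X} (hx : x ∉ C.support) : ∃ x' : X', b x' = x := by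
  have := BlowUpLib.isIso_restrict hb (ModPair.interior C) le_rfl
  let p : (ModPair.interior C).toScheme := ⟨x, hx⟩
  refine ⟨(b ⁻¹ᵁ ModPair.interior C).ι (inv (b ∣_ ModPair.interior C) p), ?_⟩
  have h : (inv (b ∣_ ModPair.interior C) ≫ (b ⁻¹ᵁ ModPair.interior C).ι ≫ b) =
      (ModPair.interior C).ι := by
    rw [← morphismRestrict_ι, IsIso.inv_hom_id_assoc]
  exact congrArg (fun f => f p) h

/-- The blow-up of a locally Noetherian scheme is locally Noetherian. -/
theorem isLocallyNoetherian_of_isBlowUp [IsLocallyNoetherian X] {b : X' ⟶ X}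
    {C : X.IdealSheafData} (hb : BlowUp.IsBlowUp b C) : IsLocallyNoetherian X' := by
  have := BlowUpLib.isProper_of_isBlowUp C hb fun U => by
    have := IsLocallyNoetherian.component_noetherian U
    exact IsNoetherian.noetherian _
  exact LocallyOfFiniteType.isLocallyNoetherian b

/-- The blow-up is regular at exceptional points lying smoothly over regular points of the centre. -/
theorem isRegularLocalRing_of_smooth_exceptional [IsLocallyNoetherian X'] {b : X' ⟶ X}
    {C : X.IdealSheafData} (hb : BlowUp.IsBlowUp b C) {Y : Scheme.{u}} [IsLocallyNoetherian Y]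
    (g : (BlowUp.exceptional b C).subscheme ⟶ Y) [Smooth g]
    (e : (BlowUp.exceptional b C).subscheme) [IsRegularLocalRing (Y.presheaf.stalk (g e))] :
    IsRegularLocalRing (X'.presheaf.stalk ((BlowUp.exceptional b C).subschemeι e)) := by
  have := (S4991.result g e ⟨⊤, trivial, inferInstance⟩).mpr ‹_›
  exact isRegularLocalRing_of_isEffCartier hb.1 e

end Groth.Agent.CIntLib

namespace Groth.Agent.CIntLib

/-- Regularity passes to generisations. -/
theorem isRegularLocalRing_of_specializes {X : Scheme.{u}} [IsLocallyNoetherian X] {a c : X}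
    (h : a ⤳ c) [IsRegularLocalRing (X.presheaf.stalk c)] :
    IsRegularLocalRing (X.presheaf.stalk a) := by
  obtain ⟨U, hU, hc, -⟩ := exists_isAffineOpen_mem_and_subset (x := c) (U := (⊤ : X.Opens)) trivial
  have ha : a ∈ U := h.mem_open U.2 hc
  have : IsNoetherianRing Γ(X, U) := IsLocallyNoetherian.component_noetherian ⟨U, hU⟩
  letI := X.presheaf.algebra_section_stalk ⟨c, hc⟩
  letI := X.presheaf.algebra_section_stalk ⟨a, ha⟩
  have := hU.isLocalization_stalk ⟨c, hc⟩
  have := hU.isLocalization_stalk ⟨a, ha⟩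
  have hspec : hU.primeIdealOf ⟨a, ha⟩ ⤳ hU.primeIdealOf ⟨c, hc⟩ := by
    refine hU.fromSpec.isOpenEmbedding.isInducing.specializes_iff.mp ?_
    rw [hU.fromSpec_primeIdealOf, hU.fromSpec_primeIdealOf]
    exact h
  have hle : (hU.primeIdealOf ⟨a, ha⟩).asIdeal ≤ (hU.primeIdealOf ⟨c, hc⟩).asIdeal :=
    (PrimeSpectrum.le_iff_specializes _ _).mpr hspec
  have h1 := RegLoc6.regular_of_le hle (IsRegularLocalRing.of_ringEquiv
    (IsLocalization.algEquiv (hU.primeIdealOf ⟨c, hc⟩).asIdeal.primeCompl
      (X.presheaf.stalk c) (Localization.AtPrime _)).toRingEquiv)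
  exact IsRegularLocalRing.of_ringEquiv
    (IsLocalization.algEquiv (hU.primeIdealOf ⟨a, ha⟩).asIdeal.primeCompl
      (X.presheaf.stalk a)
      (Localization.AtPrime (hU.primeIdealOf ⟨a, ha⟩).asIdeal)).toRingEquiv.symm

end Groth.Agent.CIntLib
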