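import Mathlib
import Groth.Prelude.Def_EGA4b
import Groth.Agent.NFlat6.Pieces
import Groth.Agent.GrFlat5.AtPrime

/-!
# Normal flatness from the local rings along the centre
-/

universe u

open Module

namespace Groth.Agent.CIntLib

variable {B T : Type u} [CommRing B] [CommRing T] [Algebra B T] (J : Ideal B)

/-- `Jᵐ/Jᵐ⁺¹ → (JT)ᵐ/(JT)ᵐ⁺¹`. -/
theorem algebraMap_mem_Pw (m : ℕ) {x : B} (hx : x ∈ NFlat6.Pw J B m) :
    algebraMap B T x ∈ NFlat6.Pw (J.map (algebraMap B T)) T m := by
  simp only [NFlat6.Pw, smul_eq_mul, Ideal.mul_top] at hx ⊢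
  rw [← Ideal.map_pow]
  exact Ideal.mem_map_of_mem _ hx

/-- Normal flatness along `J` may be checked in the local rings at the maximal ideals containing
`J`. -/
theorem isNormallyFlat_of_localized
    (h : ∀ (q : Ideal B) [q.IsMaximal], J ≤ q → ∃ (T : Type u) (_ : CommRing T) (_ : Algebra B T),
      IsLocalization.AtPrime T q ∧
        EGA4.IsNormallyFlat (J.map (algebraMap B T)) T) :
    EGA4.IsNormallyFlat J B := by
  intro m
  refine Module.flat_of_localized_maximal _ fun P hP => ?_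
  let q := P.comap (Ideal.Quotient.mk J)
  have hqmax : q.IsMaximal := Ideal.comap_isMaximal_of_surjective _ Ideal.Quotient.mk_surjective
  have hJq : J ≤ q := fun x hx => by
    show Ideal.Quotient.mk J x ∈ P
    rw [Ideal.Quotient.eq_zero_iff_mem.mpr hx]; exact zero_mem _
  obtain ⟨T, _, _, hloc, hT⟩ := h q hJq
  let J' := J.map (algebraMap B T)
  let θ : B ⧸ J →+* T ⧸ J' := Ideal.quotientMap J' (algebraMap B T) Ideal.le_comap_map
  letI := θ.toAlgebra
  haveI : IsLocalization P.primeCompl (T ⧸ J') := by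
    constructor
    constructor
    · rintro ⟨s, hs⟩
      obtain ⟨s, rfl⟩ := Ideal.Quotient.mk_surjective s
      exact (IsLocalization.map_units T (⟨s, hs⟩ : q.primeCompl)).map (Ideal.Quotient.mk J')
    · intro z
      obtain ⟨z, rfl⟩ := Ideal.Quotient.mk_surjective z
      obtain ⟨⟨x, s⟩, hx⟩ := IsLocalization.surj q.primeCompl z
      exact ⟨(Ideal.Quotient.mk J x, ⟨Ideal.Quotient.mk J (s : B), s.2⟩),
        congrArg (Ideal.Quotient.mk J') hx⟩
    · intro x y hxy
      obtain ⟨x, rfl⟩ := Ideal.Quotient.mk_surjective x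
      obtain ⟨y, rfl⟩ := Ideal.Quotient.mk_surjective y
      have hmem : algebraMap B T (x - y) ∈ J' := by
        rw [← Ideal.Quotient.eq_zero_iff_mem, map_sub, map_sub, sub_eq_zero]
        exact hxy
      obtain ⟨s, hs, hsx⟩ :=
        (IsLocalization.algebraMap_mem_map_algebraMap_iff q.primeCompl T _ _).mp hmem
      refine ⟨⟨Ideal.Quotient.mk J s, hs⟩, ?_⟩
      show Ideal.Quotient.mk J s * Ideal.Quotient.mk J x = Ideal.Quotient.mk J s * Ideal.Quotient.mk J y
      rw [← map_mul, ← map_mul, Ideal.Quotient.eq, ← mul_sub]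
      exact hsx
  haveI : Module.Flat (B ⧸ J) (T ⧸ J') := IsLocalization.flat (T ⧸ J') P.primeCompl
  let Y := NFlat6.Pc J' T m
  haveI : Module.Flat (T ⧸ J') Y := hT m
  letI : Module (B ⧸ J) Y := Module.compHom Y θ
  haveI : IsScalarTower (B ⧸ J) (T ⧸ J') Y := ⟨fun a t y => mul_smul (θ a) t y⟩
  haveI : Module.Flat (B ⧸ J) Y := Module.Flat.trans (B ⧸ J) (T ⧸ J') Y
  let g₀ : NFlat6.Pc J B m →+ Y := QuotientAddGroup.lift (J • ⊤ : Submodule B ↥(NFlat6.Pw J B m)).toAddSubgroup
    { toFun := fun x => Submodule.Quotient.mk ⟨algebraMap B T x.1, algebraMap_mem_Pw J m x.2⟩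
      map_zero' := (congrArg Submodule.Quotient.mk (Subtype.ext (map_zero _))).trans
        (Submodule.Quotient.mk_zero _)
      map_add' := fun a b => by
        rw [← Submodule.Quotient.mk_add]
        exact congrArg Submodule.Quotient.mk (Subtype.ext (map_add _ _ _)) }
    (fun y hy => (NFlat6.pc_mk_eq_zero _).mpr
      (algebraMap_mem_Pw J (m + 1) ((NFlat6.mem_smul_top_iff_val y).mp hy)))
  have hg₀ : ∀ x : ↥(NFlat6.Pw J B m), g₀ (Submodule.Quotient.mk x) =
      Submodule.Quotient.mk ⟨algebraMap B T x.1, algebraMap_mem_Pw J m x.2⟩ := fun _ => rfl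
  let g : NFlat6.Pc J B m →ₗ[B ⧸ J] Y :=
    { g₀ with
      map_smul' := fun c z => by
        obtain ⟨c, rfl⟩ := Ideal.Quotient.mk_surjective c
        obtain ⟨z, rfl⟩ := Submodule.Quotient.mk_surjective _ z
        show g₀ (Submodule.Quotient.mk (c • z)) = Ideal.Quotient.mk J' (algebraMap B T c) • g₀ _
        rw [hg₀, hg₀]
        exact congrArg Submodule.Quotient.mk (Subtype.ext (map_mul _ _ _)) }
  haveI : IsLocalizedModule P.primeCompl g := by
    refine ⟨fun s => ?_, fun z => ?_, fun {a b} hab => ?_⟩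
    · have hu : IsUnit (θ s.1) := IsLocalization.map_units (T ⧸ J') s
      rw [Module.End.isUnit_iff]
      refine ⟨fun a b hab => ?_, fun a => ⟨(↑hu.unit⁻¹ : T ⧸ J') • a, ?_⟩⟩
      · exact (IsUnit.smul_left_cancel hu).mp hab
      · show θ s.1 • (↑hu.unit⁻¹ : T ⧸ J') • a = a
        rw [smul_smul, hu.mul_val_inv, one_smul]
    · obtain ⟨⟨z, hz⟩, rfl⟩ := Submodule.Quotient.mk_surjective _ z
      have hz' : z ∈ (J ^ m).map (algebraMap B T) := by
        simpa [NFlat6.Pw, J', Ideal.map_pow] using hz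
      obtain ⟨⟨⟨x, hx⟩, s⟩, hzs⟩ := (IsLocalization.mem_map_algebraMap_iff q.primeCompl T).mp hz'
      refine ⟨(Submodule.Quotient.mk ⟨x, by simpa [NFlat6.Pw] using hx⟩,
        ⟨Ideal.Quotient.mk J (s : B), s.2⟩), ?_⟩
      show Ideal.Quotient.mk J' (algebraMap B T s.1) • (Submodule.Quotient.mk ⟨z, hz⟩ : Y) =
        g₀ (Submodule.Quotient.mk _)
      rw [hg₀]
      exact congrArg Submodule.Quotient.mk (Subtype.ext ((mul_comm _ _).trans hzs))
    · obtain ⟨a, rfl⟩ := Submodule.Quotient.mk_surjective _ a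
      obtain ⟨b, rfl⟩ := Submodule.Quotient.mk_surjective _ b
      have h0 : g₀ (Submodule.Quotient.mk (a - b)) = 0 := by
        rw [Submodule.Quotient.mk_sub]
        exact (map_sub g _ _).trans (sub_eq_zero.mpr hab)
      rw [hg₀, NFlat6.pc_mk_eq_zero] at h0
      have h1 : algebraMap B T (a - b : ↥(NFlat6.Pw J B m)).1 ∈ (J ^ (m + 1)).map (algebraMap B T) := by
        simpa [NFlat6.Pw, J', Ideal.map_pow] using h0
      obtain ⟨s, hs, hsx⟩ :=
        (IsLocalization.algebraMap_mem_map_algebraMap_iff q.primeCompl T _ _).mp h1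
      refine ⟨⟨Ideal.Quotient.mk J s, hs⟩, ?_⟩
      show (Submodule.Quotient.mk (s • a) : NFlat6.Pc J B m) = Submodule.Quotient.mk (s • b)
      rw [Submodule.Quotient.eq, ← smul_sub, NFlat6.mem_smul_top_iff_val]
      simpa [NFlat6.Pw] using hsx
  exact Module.Flat.of_linearEquiv (IsLocalizedModule.iso P.primeCompl g)

/-- Flatness of the thickenings from normal flatness and flatness of the centre. -/
theorem flat_quotient_pow_of_normallyFlat {A : Type u} [CommRing A] [Algebra A B]
    [Module.Flat A (B ⧸ J)] (h : EGA4.IsNormallyFlat J B) (k : ℕ) : Module.Flat A (B ⧸ J ^ k) := by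
  have key : ∀ j, Module.Flat A (GrFlat5.grPiece J B j) := fun j => by
    haveI : Module.Flat (B ⧸ J) (NFlat6.Pc J B j) := h j
    haveI : Module.Flat A (NFlat6.Pc J B j) := Module.Flat.trans A (B ⧸ J) _
    refine Module.Flat.of_linearEquiv ((Submodule.quotEquivOfEq _ _ ?_).restrictScalars A :
      GrFlat5.grPiece J B j ≃ₗ[A] NFlat6.Pc J B j)
    ext y
    rw [Submodule.mem_comap, NFlat6.mem_smul_top_iff_val]
    rfl
  have := GrFlat5.flat_quot_of_gr (A := A) J key k
  exact Module.Flat.of_linearEquiv ((Submodule.quotEquivOfEq _ _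
    (show J ^ k = (J ^ k • ⊤ : Submodule B B) by simp)).restrictScalars A)

end Groth.Agent.CIntLib
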