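import Mathlib
import Groth.Agent.GrFlat5.NormalFlatAux
import Groth.Agent.GrFlat5.AtPrime

/-!
# A Noetherian model with flat thickenings
-/

set_option backward.isDefEq.respectTransparency false
set_option linter.style.haveILetI false

universe u

open MvPolynomial CategoryTheory

namespace Groth.Agent.CIntLib

open FlatModel FlatStrat GrFlat5

variable {n : ℕ} {R₀ : Type u} [CommRing R₀]

/-- The relations in rank one given by an ideal. -/
noncomputable def relOne (K₀ : Ideal (MvPolynomial (Fin n) R₀)) :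
    Submodule (MvPolynomial (Fin n) R₀) (V 1 n R₀) :=
  Submodule.comap (LinearMap.proj (0 : Fin 1) : V 1 n R₀ →ₗ[MvPolynomial (Fin n) R₀] _) K₀

theorem mem_relOne {K₀ : Ideal (MvPolynomial (Fin n) R₀)} {v : V 1 n R₀} :
    v ∈ relOne K₀ ↔ v 0 ∈ K₀ := Iff.rfl

theorem vec_one_eq {R : Type u} [CommRing R] (v : V 1 n R) : v = v 0 • (fun _ => 1 : V 1 n R) := by
  ext i
  rw [Subsingleton.elim i 0]
  simp

theorem mem_KK_relOne (K₀ : Ideal (MvPolynomial (Fin n) R₀)) (R : Type u) [CommRing R] [Algebra R₀ R]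
    (v : V 1 n R) :
    v ∈ KK (relOne K₀) R ↔ v 0 ∈ K₀.map (MvPolynomial.map (algebraMap R₀ R)) := by
  constructor
  · intro hv
    have : KK (relOne K₀) R ≤ Submodule.comap
        (LinearMap.proj (0 : Fin 1) : V 1 n R →ₗ[MvPolynomial (Fin n) R] _)
        (K₀.map (MvPolynomial.map (algebraMap R₀ R))) := by
      rw [KK, Submodule.span_le]
      rintro _ ⟨w, hw, rfl⟩
      exact Ideal.mem_map_of_mem _ (mem_relOne.mp hw)
    exact this hv
  · intro hv
    rw [vec_one_eq v]
    generalize v 0 = x at hv ⊢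
    induction hv using Submodule.span_induction with
    | mem x hx =>
      obtain ⟨k, hk, rfl⟩ := hx
      refine Submodule.subset_span ⟨fun _ => k, mem_relOne.mpr hk, ?_⟩
      ext i
      simp
    | zero => rw [zero_smul]; exact zero_mem _
    | add x y _ _ hx hy => rw [add_smul]; exact add_mem hx hy
    | smul c x _ hx => rw [smul_assoc]; exact Submodule.smul_mem _ _ hx

variable {A B : Type u} [CommRing A] [CommRing B] [Algebra A B]

section

variable {R : Type u} [CommRing R] (K₁ : Ideal (MvPolynomial (Fin n) R))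

theorem flat_quot_relOne (K₀ : Ideal (MvPolynomial (Fin n) R₀)) (J₀ : Ideal (MvPolynomial (Fin n) R₀))
    [Algebra R₀ R] (hK₁ : K₁ = K₀.map (MvPolynomial.map (algebraMap R₀ R))) (k : ℕ)
    (h : FlatC (L (relOne K₀) J₀ k) R) :
    Module.Flat R ((MvPolynomial (Fin n) R ⧸ K₁) ⧸
      ((J₀.map (MvPolynomial.map (algebraMap R₀ R))).map (Ideal.Quotient.mk K₁)) ^ k) := by
  subst hK₁
  set K₁ := K₀.map (MvPolynomial.map (algebraMap R₀ R))
  let J₁ : Ideal (MvPolynomial (Fin n) R ⧸ K₁) :=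
    (J₀.map (MvPolynomial.map (algebraMap R₀ R))).map (Ideal.Quotient.mk K₁)
  have hflat := flat_quot_of_flatC (relOne K₀) J₀ k h
  let W := (JR J₀ R ^ k • ⊤ :
    Submodule (MvPolynomial (Fin n) R) (V 1 n R ⧸ KK (relOne K₀) R))
  let f : V 1 n R →ₗ[R] (MvPolynomial (Fin n) R ⧸ K₁) ⧸ J₁ ^ k :=
    ((Ideal.Quotient.mkₐ R (J₁ ^ k)).toLinearMap.comp (Ideal.Quotient.mkₐ R K₁).toLinearMap).comp
      (LinearMap.proj (0 : Fin 1))
  have hf : Function.Surjective f := fun z => by
    obtain ⟨z, rfl⟩ := Ideal.Quotient.mk_surjective z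
    obtain ⟨z, rfl⟩ := Ideal.Quotient.mk_surjective z
    exact ⟨fun _ => z, rfl⟩
  let g : V 1 n R →ₗ[R] (V 1 n R ⧸ KK (relOne K₀) R) ⧸ W :=
    ((Submodule.mkQ _).comp (KK (relOne K₀) R).mkQ).restrictScalars R
  have hg : Function.Surjective g := (Submodule.mkQ_surjective _).comp (Submodule.mkQ_surjective _)
  have hJ₁ : J₁ ^ k = (JR J₀ R ^ k).map (Ideal.Quotient.mk K₁) := (Ideal.map_pow _ _ _).symm
  have hker : LinearMap.ker g = LinearMap.ker f := by
    ext v
    rw [LinearMap.mem_ker, LinearMap.mem_ker]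
    show (W.mkQ ((KK (relOne K₀) R).mkQ v)) = 0 ↔
      Ideal.Quotient.mk (J₁ ^ k) (Ideal.Quotient.mk K₁ (v 0)) = 0
    rw [Submodule.mkQ_apply, Submodule.Quotient.mk_eq_zero, Ideal.Quotient.eq_zero_iff_mem, hJ₁,
      ← Ideal.mem_comap, Ideal.comap_map_of_surjective _ Ideal.Quotient.mk_surjective,
      ← RingHom.ker_eq_comap_bot, Ideal.mk_ker]
    show (KK (relOne K₀) R).mkQ v ∈ W ↔ _
    simp only [W]
    rw [← Submodule.range_mkQ (KK (relOne K₀) R), LinearMap.range_eq_map, ← Submodule.map_smul'',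
      ← Submodule.mem_comap, Submodule.comap_map_eq, Submodule.ker_mkQ]
    constructor
    · intro hv
      obtain ⟨x, hx, y, hy, rfl⟩ := Submodule.mem_sup.1 hv
      refine Submodule.add_mem_sup ?_ ((mem_KK_relOne K₀ R y).mp hy)
      clear hv
      induction hx using Submodule.smul_induction_on' with
      | smul r hr w _ => exact Ideal.mul_mem_right _ _ hr
      | add p _ q _ hp hq => exact add_mem hp hq
    · intro hv
      obtain ⟨x, hx, y, hy, hxy⟩ := Submodule.mem_sup.1 hv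
      rw [vec_one_eq v, ← hxy, add_smul]
      exact Submodule.add_mem_sup (Submodule.smul_mem_smul hx Submodule.mem_top)
        ((mem_KK_relOne K₀ R _).mpr (by simpa using hy))
  exact Module.Flat.of_linearEquiv ((f.quotKerEquivOfSurjective hf).symm.trans
    ((Submodule.quotEquivOfEq _ _ hker.symm).trans (g.quotKerEquivOfSurjective hg)))

end

/-- Base change of a presentation. -/
theorem isPushout_presentation {R : Type u} [CommRing R] [Algebra R A]
    (φ : MvPolynomial (Fin n) A →ₐ[A] B) (hφ : Function.Surjective φ)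
    (K₁ : Ideal (MvPolynomial (Fin n) R))
    (hK₁ : K₁.map (MvPolynomial.map (algebraMap R A)) = RingHom.ker φ.toRingHom)
    (β : MvPolynomial (Fin n) R ⧸ K₁ →+* B)
    (hβ : β.comp (Ideal.Quotient.mk K₁) = φ.toRingHom.comp (MvPolynomial.map (algebraMap R A))) :
    IsPushout (CommRingCat.ofHom (algebraMap R (MvPolynomial (Fin n) R ⧸ K₁)))
      (CommRingCat.ofHom (algebraMap R A)) (CommRingCat.ofHom β)
      (CommRingCat.ofHom (algebraMap A B)) := by
  let mA : MvPolynomial (Fin n) R →+* MvPolynomial (Fin n) A := MvPolynomial.map (algebraMap R A)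
  have hβ' : ∀ x, β (Ideal.Quotient.mk K₁ x) = φ (mA x) := fun x => congrArg (fun f => f x) hβ
  have w : CommRingCat.ofHom (algebraMap R (MvPolynomial (Fin n) R ⧸ K₁)) ≫ CommRingCat.ofHom β =
      CommRingCat.ofHom (algebraMap R A) ≫ CommRingCat.ofHom (algebraMap A B) := by
    ext r
    show β (Ideal.Quotient.mk K₁ (C r)) = _
    simp [hβ', mA]
  have hdesc : ∀ (s : Limits.PushoutCocone
      (CommRingCat.ofHom (algebraMap R (MvPolynomial (Fin n) R ⧸ K₁)))
      (CommRingCat.ofHom (algebraMap R A))),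
      ∃ d : B →+* s.pt, d.comp β = s.inl.hom ∧ d.comp (algebraMap A B) = s.inr.hom := by
    intro s
    let e : MvPolynomial (Fin n) A →+* s.pt :=
      eval₂Hom s.inr.hom fun i => s.inl.hom (Ideal.Quotient.mk K₁ (X i))
    have he : e.comp mA = s.inl.hom.comp (Ideal.Quotient.mk K₁) := by
      refine MvPolynomial.ringHom_ext (fun r => ?_) fun i => by simp [e, mA]
      have := congrArg (fun f => f.hom r) s.condition
      simp only [CommRingCat.hom_comp, RingHom.comp_apply, CommRingCat.hom_ofHom] at this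
      simp [e, mA]
      exact this.symm
    have hle : RingHom.ker φ.toRingHom ≤ RingHom.ker e := by
      rw [← hK₁, Ideal.map_le_iff_le_comap]
      intro x hx
      show (e.comp mA) x = 0
      rw [he, RingHom.comp_apply, Ideal.Quotient.eq_zero_iff_mem.mpr hx, map_zero]
    let d := RingHom.liftOfSurjective φ.toRingHom hφ ⟨e, hle⟩
    have hd : ∀ x, d (φ x) = e x := fun x =>
      RingHom.liftOfRightInverse_comp_apply φ.toRingHom _ _ ⟨e, hle⟩ x
    refine ⟨d, ?_, ?_⟩
    · refine Ideal.Quotient.ringHom_ext (RingHom.ext fun x => ?_)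
      simp only [RingHom.comp_apply]
      rw [hβ', hd]
      exact congrArg (fun f => f x) he
    · refine RingHom.ext fun a => ?_
      rw [RingHom.comp_apply, ← φ.commutes a, hd, MvPolynomial.algebraMap_eq, eval₂Hom_C]
  refine IsPushout.of_isColimit' ⟨w⟩ (Limits.PushoutCocone.IsColimit.mk w
    (fun s => CommRingCat.ofHom (hdesc s).choose)
    (fun s => CommRingCat.hom_ext (hdesc s).choose_spec.1)
    (fun s => CommRingCat.hom_ext (hdesc s).choose_spec.2) fun s m h1 h2 => ?_)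
  refine CommRingCat.hom_ext (RingHom.ext fun b => ?_)
  obtain ⟨p, rfl⟩ := hφ b
  refine congrArg (fun f : MvPolynomial (Fin n) A →+* s.pt => f p) (MvPolynomial.ringHom_ext
    (f := m.hom.comp φ.toRingHom) (g := ((hdesc s).choose).comp φ.toRingHom) (fun a => ?_) fun i => ?_)
  · have e1 := congrArg (fun f => f.hom a) h2
    have e2 := congrArg (fun f => f a) (hdesc s).choose_spec.2
    simp only [CommRingCat.hom_comp, RingHom.comp_apply, CommRingCat.hom_ofHom] at e1 e2
    show m.hom (φ (C a)) = (hdesc s).choose (φ (C a))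
    rw [← MvPolynomial.algebraMap_eq, φ.commutes]
    exact e1.trans e2.symm
  · have e1 := congrArg (fun f => f.hom (Ideal.Quotient.mk K₁ (X i))) h1
    have e2 := congrArg (fun f => f (Ideal.Quotient.mk K₁ (X i))) (hdesc s).choose_spec.1
    simp only [CommRingCat.hom_comp, RingHom.comp_apply, CommRingCat.hom_ofHom] at e1 e2
    have hX : β (Ideal.Quotient.mk K₁ (X i)) = φ (X i) := by simp [hβ', mA]
    rw [hX] at e1 e2
    exact e1.trans e2.symm

/-- The model at a stage. -/
theorem model_of_stage (R₁ : Type u) [CommRing R₁] [Algebra R₀ R₁] [Algebra R₁ A] [Algebra R₀ A]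
    [IsScalarTower R₀ R₁ A] [IsNoetherianRing R₁]
    (φ : MvPolynomial (Fin n) A →ₐ[A] B) (hφ : Function.Surjective φ) (J : Ideal B)
    (K₀ J₀ : Ideal (MvPolynomial (Fin n) R₀))
    (hK : K₀.map (MvPolynomial.map (algebraMap R₀ A)) = RingHom.ker φ.toRingHom)
    (hJ₀ : (J₀.map (MvPolynomial.map (algebraMap R₀ A))).map φ = J)
    (h₁ : ∀ k, FlatC (L (relOne K₀) J₀ k) R₁) :
    ∃ (R₁ B₁ : CommRingCat.{u}) (φ₁ : R₁ ⟶ B₁) (α : R₁ ⟶ CommRingCat.of A) (β : B₁ ⟶ CommRingCat.of B)
      (J₁ : Ideal B₁), IsNoetherianRing R₁ ∧ φ₁.hom.FiniteType ∧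
      IsPushout φ₁ α β (CommRingCat.ofHom (algebraMap A B)) ∧ J₁.map β.hom = J ∧
      ∀ k, ((Ideal.Quotient.mk (J₁ ^ k)).comp φ₁.hom).Flat := by
  let m₁ : MvPolynomial (Fin n) R₀ →+* MvPolynomial (Fin n) R₁ := MvPolynomial.map (algebraMap R₀ R₁)
  let mA : MvPolynomial (Fin n) R₁ →+* MvPolynomial (Fin n) A := MvPolynomial.map (algebraMap R₁ A)
  let K₁ : Ideal (MvPolynomial (Fin n) R₁) := K₀.map m₁
  let J₁ : Ideal (MvPolynomial (Fin n) R₁ ⧸ K₁) := (J₀.map m₁).map (Ideal.Quotient.mk K₁)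
  have hmm : mA.comp m₁ = MvPolynomial.map (algebraMap R₀ A) :=
    MvPolynomial.ringHom_ext (fun r => by simp [mA, m₁, ← IsScalarTower.algebraMap_apply])
      fun i => by simp [mA, m₁]
  have hK₁ : K₁.map mA = RingHom.ker φ.toRingHom := by rw [Ideal.map_map, hmm, hK]
  let β : MvPolynomial (Fin n) R₁ ⧸ K₁ →+* B :=
    Ideal.Quotient.lift K₁ (φ.toRingHom.comp mA) fun x hx =>
      (hK₁ ▸ Ideal.mem_map_of_mem mA hx : mA x ∈ RingHom.ker φ.toRingHom)
  refine ⟨CommRingCat.of R₁, CommRingCat.of (MvPolynomial (Fin n) R₁ ⧸ K₁),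
    CommRingCat.ofHom (algebraMap R₁ _), CommRingCat.ofHom (algebraMap R₁ A), CommRingCat.ofHom β, J₁,
    inferInstanceAs (IsNoetherianRing R₁), RingHom.finiteType_algebraMap.mpr inferInstance,
    isPushout_presentation φ hφ K₁ hK₁ β (RingHom.ext fun _ => rfl), ?_,
    fun k => RingHom.flat_algebraMap_iff.mpr (flat_quot_relOne K₁ K₀ J₀ rfl k (h₁ k))⟩
  show ((J₀.map m₁).map (Ideal.Quotient.mk K₁)).map β = J
  rw [Ideal.map_map, show β.comp (Ideal.Quotient.mk K₁) = φ.toRingHom.comp mA from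
    RingHom.ext fun _ => rfl, ← Ideal.map_map, Ideal.map_map m₁ mA, hmm]
  exact hJ₀

set_option maxHeartbeats 1000000 in
/-- **Noetherian model**: if `B` is finitely presented over `A` and all `B ⧸ J ^ k` are flat over
`A`, then `(A → B, J)` is the base change of such data over a Noetherian ring. -/
theorem exists_noetherian_model [Algebra.FinitePresentation A B] (J : Ideal B) (hJ : J.FG)
    (h : ∀ k, Module.Flat A (B ⧸ J ^ k)) :
    ∃ (R₁ B₁ : CommRingCat.{u}) (φ₁ : R₁ ⟶ B₁) (α : R₁ ⟶ CommRingCat.of A) (β : B₁ ⟶ CommRingCat.of B)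
      (J₁ : Ideal B₁), IsNoetherianRing R₁ ∧ φ₁.hom.FiniteType ∧
      IsPushout φ₁ α β (CommRingCat.ofHom (algebraMap A B)) ∧ J₁.map β.hom = J ∧
      ∀ k, ((Ideal.Quotient.mk (J₁ ^ k)).comp φ₁.hom).Flat := by
  classical
  obtain ⟨n, φ, hφ, hkerφ⟩ := Algebra.FinitePresentation.out (R := A) (A := B)
  obtain ⟨S, hS⟩ := hkerφ
  obtain ⟨T, hT⟩ := hJ
  choose lj hlj using fun t : B => hφ t
  let c : Finset A := (S.biUnion fun v => v.coeffs) ∪ T.biUnion fun t => (lj t).coeffs
  let R₀ : Subalgebra ℤ A := Algebra.adjoin ℤ (c : Set A)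
  have hdesc : ∀ q : MvPolynomial (Fin n) A, ↑q.coeffs ⊆ (c : Set A) →
      ∃ q₀ : MvPolynomial (Fin n) R₀, MvPolynomial.map (algebraMap R₀ A) q₀ = q := fun q hq =>
    MvPolynomial.mem_range_map_iff_coeffs_subset.2
      fun x hx => ⟨⟨x, Algebra.subset_adjoin (hq hx)⟩, rfl⟩
  have hSd : ∀ v ∈ S, ∃ w : MvPolynomial (Fin n) R₀, MvPolynomial.map (algebraMap R₀ A) w = v :=
    fun v hv => hdesc v fun x hx => Finset.mem_union_left _ (Finset.mem_biUnion.2 ⟨v, hv, hx⟩)
  choose! lv hlv using hSd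
  have hTd : ∀ t ∈ T, ∃ q₀ : MvPolynomial (Fin n) R₀, MvPolynomial.map (algebraMap R₀ A) q₀ = lj t :=
    fun t ht => hdesc _ fun x hx => Finset.mem_union_right _ (Finset.mem_biUnion.2 ⟨t, ht, hx⟩)
  choose! lt hlt using hTd
  let K₀ : Ideal (MvPolynomial (Fin n) R₀) := Ideal.span (lv '' S)
  let J₀ : Ideal (MvPolynomial (Fin n) R₀) := Ideal.span (lt '' T)
  have hK : K₀.map (MvPolynomial.map (algebraMap R₀ A)) = RingHom.ker φ.toRingHom := by
    rw [Ideal.map_span, ← hS, Set.image_image, Set.image_congr hlv, Set.image_id']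
  have hJ₀ : (J₀.map (MvPolynomial.map (algebraMap R₀ A))).map φ = J := by
    rw [Ideal.map_span, Ideal.map_span, ← hT, Set.image_image, Set.image_image]
    rw [Set.image_congr fun t ht => (congrArg φ (hlt t ht)).trans (hlj t), Set.image_id']
  let π : V 1 n A →ₗ[A] B := φ.toLinearMap.comp ((LinearMap.proj (0 : Fin 1) :
    V 1 n A →ₗ[A] MvPolynomial (Fin n) A))
  letI := Algebra.id B
  let P : Presentation J B R₀ :=
    { a := 1
      n := n
      K := relOne K₀
      J := J₀
      φ := φ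
      φ_surj := hφ
      π := π
      π_surj := fun b => by
        obtain ⟨p, hp⟩ := hφ b
        exact ⟨fun _ => p, hp⟩
      π_smul := fun p v => map_mul φ p (v 0)
      ker_π := fun v => by
        rw [mem_KK_relOne, hK]
        rfl
      map_J := hJ₀ }
  haveI : Algebra.FiniteType ℤ R₀ := (Subalgebra.fg_iff_finiteType R₀).1 (Subalgebra.fg_adjoin_finset c)
  haveI : IsNoetherianRing R₀ := Algebra.FiniteType.isNoetherianRing ℤ R₀
  have hC : ∀ k, FlatC (L P.K P.J k) A := fun k => by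
    rw [← flat_Qk_iff]
    obtain ⟨e⟩ := P.nonempty_equiv k
    haveI := h k
    haveI : Module.Flat A (B ⧸ (J ^ k • ⊤ : Submodule B B).restrictScalars A) :=
      Module.Flat.of_linearEquiv ((Submodule.Quotient.restrictScalarsEquiv A _).trans
        ((Submodule.quotEquivOfEq _ _ (show (J ^ k • ⊤ : Submodule B B) = J ^ k by simp)).restrictScalars A))
    exact Module.Flat.of_linearEquiv e
  obtain ⟨R₁, hR₁, h₁⟩ := exists_fg_uniform P.K P.J hC
  haveI : Algebra.FiniteType R₀ R₁ := (Subalgebra.fg_iff_finiteType R₁).1 hR₁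
  haveI : IsNoetherianRing R₁ := Algebra.FiniteType.isNoetherianRing R₀ R₁
  exact model_of_stage R₁ φ hφ J K₀ J₀ hK hJ₀ h₁

end Groth.Agent.CIntLib
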