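import Groth.Agent.CIntLib.BlowFlat
import Groth.Agent.CIntLib.NormFlatLocal
import Groth.Agent.CIntLib.NormFlatModel
import Groth.Agent.CIntLib.ClosedStalk
import Groth.Agent.CIntLib.BlowRegular
import Groth.Agent.S1662
import Groth.Agent.S12442
import Groth.Agent.FlatLocus.Basic

/-!
# Blow-ups along normally flat centres
-/

universe u

open CategoryTheory CategoryTheory.Limits AlgebraicGeometry

namespace Groth.Agent.CIntLib

variable {X X' S : Scheme.{u}}

theorem finitePresentation_quotApp (g : X ⟶ S) (I : X.IdealSheafData)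
    [LocallyOfFinitePresentation (I.subschemeι ≫ g)] (W : S.affineOpens) (U : X.affineOpens)
    (e : U.1 ≤ g ⁻¹ᵁ W.1) : (FlatX.quotApp g I W U e).FinitePresentation := by
  let E := (Ideal.quotEquivOfEq (I.ker_subschemeι_app U)).symm.trans
    (RingHom.quotientKerEquivOfSurjective (I.subschemeι_app_surjective U))
  have h := (I.subschemeι ≫ g).finitePresentation_appLE W.2 (U.2.preimage I.subschemeι)
    (fun _ hy => e hy : I.subschemeι ⁻¹ᵁ U.1 ≤ (I.subschemeι ≫ g) ⁻¹ᵁ W.1)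
  have h' := RingHom.finitePresentation_respectsIso.1 _ E.symm h
  convert h' using 1
  ext y
  refine ((E.symm_apply_apply (FlatX.quotApp g I W U e y)).symm).trans ?_
  refine congrArg E.symm ?_
  rw [show (I.subschemeι ≫ g).appLE W.1 (I.subschemeι ⁻¹ᵁ U.1) (fun _ hy => e hy) =
    g.appLE W.1 U.1 e ≫ I.subschemeι.app U.1 by
      rw [Scheme.Hom.app_eq_appLE, Scheme.Hom.appLE_comp_appLE]]
  rfl

/-- What the hypotheses say on an affine chart. -/
theorem normFlat_chart (g : X ⟶ S) [LocallyOfFinitePresentation g] (𝓘 : X.IdealSheafData)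
    [LocallyOfFinitePresentation (𝓘.subschemeι ≫ g)] [Flat (𝓘.subschemeι ≫ g)]
    (hnf : ∀ y : ↥𝓘.subscheme, EGA4.IsNormallyFlat (RingHom.ker (𝓘.subschemeι.stalkMap y).hom)
      ↑(X.presheaf.stalk (𝓘.subschemeι y)))
    (W : S.affineOpens) (U : X.affineOpens) (e : U.1 ≤ g ⁻¹ᵁ W.1) :
    (𝓘.ideal U).FG ∧ EGA4.IsNormallyFlat (𝓘.ideal U) Γ(X, U.1) ∧
      ∀ k : ℕ, ((Ideal.Quotient.mk ((𝓘.ideal U) ^ k)).comp (g.appLE W.1 U.1 e).hom).Flat := by
  obtain ⟨U, hUa⟩ := U
  change IsAffineOpen U at hUa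
  have hnfU : EGA4.IsNormallyFlat (𝓘.ideal ⟨U, hUa⟩) Γ(X, U) := by
    refine isNormallyFlat_of_localized (𝓘.ideal ⟨U, hUa⟩) fun q hq hIq => ?_
    let x : X := hUa.fromSpec ⟨q, hq.isPrime⟩
    have hxU : x ∈ U := by
      rw [← SetLike.mem_coe, ← hUa.range_fromSpec]; exact ⟨_, rfl⟩
    have hpx : hUa.primeIdealOf ⟨x, hxU⟩ = ⟨q, hq.isPrime⟩ :=
      hUa.fromSpec.isOpenEmbedding.injective
        (hUa.fromSpec_primeIdealOf ⟨x, hxU⟩)
    have hxs : x ∈ 𝓘.support := by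
      rw [Scheme.IdealSheafData.mem_support_iff_of_mem (U := ⟨U, hUa⟩) hxU, Scheme.mem_zeroLocus_iff]
      intro f hf hfx
      have h2 := (hUa.fromSpec_preimage_basicOpen f).le hfx
      exact h2 (hIq hf)
    obtain ⟨y, hy⟩ : x ∈ Set.range 𝓘.subschemeι := by
      rw [Scheme.IdealSheafData.range_subschemeι]; exact hxs
    have hyU : 𝓘.subschemeι y ∈ U := hy ▸ hxU
    have hpy : (hUa.primeIdealOf ⟨𝓘.subschemeι y, hyU⟩).asIdeal = q := by
      rw [show hUa.primeIdealOf ⟨𝓘.subschemeι y, hyU⟩ = hUa.primeIdealOf ⟨x, hxU⟩ by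
        congr 1; exact Subtype.ext hy, hpx]
    letI := X.presheaf.algebra_section_stalk ⟨𝓘.subschemeι y, hyU⟩
    refine ⟨X.presheaf.stalk (𝓘.subschemeι y), inferInstance, inferInstance, ?_, ?_⟩
    · have := hUa.isLocalization_stalk ⟨𝓘.subschemeι y, hyU⟩
      subst hpy
      exact this
    · have hker := ker_stalkMap_eq_map_germ 𝓘.subschemeι y ⟨U, hUa⟩ hyU
      rw [Scheme.IdealSheafData.ker_subschemeι] at hker
      have := hnf y
      rw [hker] at this
      exact this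
  letI : Algebra Γ(S, W.1) Γ(X, U) := (g.appLE W.1 U e).hom.toAlgebra
  have hFP : Algebra.FinitePresentation Γ(S, W.1) Γ(X, U) := g.finitePresentation_appLE W.2 hUa e
  have : Algebra.FinitePresentation Γ(S, W.1) (Γ(X, U) ⧸ 𝓘.ideal ⟨U, hUa⟩) :=
    RingHom.finitePresentation_algebraMap.mp (finitePresentation_quotApp g 𝓘 W ⟨U, hUa⟩ e)
  have : Module.Flat Γ(S, W.1) (Γ(X, U) ⧸ 𝓘.ideal ⟨U, hUa⟩) :=
    RingHom.flat_algebraMap_iff.mp (FlatX.flat_quotApp g 𝓘 ‹_› W ⟨U, hUa⟩ e)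
  refine ⟨?_, hnfU, fun k => RingHom.flat_algebraMap_iff.mpr
    (flat_quotient_pow_of_normallyFlat (A := Γ(S, W.1)) (𝓘.ideal ⟨U, hUa⟩) hnfU k)⟩
  have h := Algebra.FinitePresentation.ker_fG_of_surjective
    (Ideal.Quotient.mkₐ Γ(S, W.1) (𝓘.ideal ⟨U, hUa⟩)) (Ideal.Quotient.mkₐ_surjective Γ(S, W.1) _)
  convert h
  exact Ideal.mk_ker.symm

/-- All thickenings of a normally flat centre are flat over the base. -/
theorem flat_thickenings (g : X ⟶ S) [LocallyOfFinitePresentation g] (𝓘 : X.IdealSheafData)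
    [LocallyOfFinitePresentation (𝓘.subschemeι ≫ g)] [Flat (𝓘.subschemeι ≫ g)]
    (hnf : ∀ y : ↥𝓘.subscheme, EGA4.IsNormallyFlat (RingHom.ker (𝓘.subschemeι.stalkMap y).hom)
      ↑(X.presheaf.stalk (𝓘.subschemeι y))) (n : ℕ) :
    Flat ((𝓘 ^ (n + 1)).subschemeι ≫ g) := by
  refine FlatX.flat_subscheme_of_charts g _ fun x => ?_
  obtain ⟨W, hxW⟩ := FlatX.exists_chart g x
  obtain ⟨U, hU, hxU, hUle⟩ := exists_isAffineOpen_mem_and_subset (X := X) (x := x)
    (U := g ⁻¹ᵁ W.1) hxW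
  refine ⟨W, ⟨U, hU⟩, hUle, hxU, FlatX.flat_congr _ ?_
    ((normFlat_chart g 𝓘 hnf W ⟨U, hU⟩ hUle).2.2 (n + 1))⟩
  rw [Scheme.IdealSheafData.ideal_pow, Pi.pow_apply]

set_option backward.isDefEq.respectTransparency false in
theorem flat_stalkMap_iff_localized (g : X ⟶ S) {V : S.Opens} (hV : IsAffineOpen V) {U : X.Opens}
    (hU : IsAffineOpen U) (hUV : U ≤ g ⁻¹ᵁ V) (q : PrimeSpectrum Γ(X, U)) :
    letI := (g.appLE V U hUV).hom.toAlgebra
    (g.stalkMap (hU.fromSpec q)).hom.Flat ↔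
      Module.Flat Γ(S, V) (LocalizedModule q.asIdeal.primeCompl Γ(X, U)) := by
  let φ := g.appLE V U hUV
  have hsq : hU.fromSpec ≫ g = Spec.map φ ≫ hV.fromSpec := (hV.SpecMap_appLE_fromSpec g hU hUV).symm
  have h1 : (g.stalkMap (hU.fromSpec q)).hom.Flat ↔ ((hU.fromSpec ≫ g).stalkMap q).hom.Flat := by
    rw [Scheme.Hom.stalkMap_comp]
    exact (FlatLocus.flat_comp_isIso _ _).symm
  have h2 : ((Spec.map φ ≫ hV.fromSpec).stalkMap q).hom.Flat ↔ ((Spec.map φ).stalkMap q).hom.Flat := by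
    rw [Scheme.Hom.stalkMap_comp]
    have hiso : ∀ z : Spec Γ(S, V), IsIso (hV.fromSpec.stalkMap z) := fun z => inferInstance
    exact @FlatLocus.flat_isIso_comp _ _ _ _ (hiso _) _
  rw [h1, hsq, h2]
  exact FlatLocus.stalkMap_flat_SpecMap φ q

/-- The scheme is flat over the base near a normally flat centre. -/
theorem flat_nhd_of_normallyFlat (g : X ⟶ S) [LocallyOfFinitePresentation g] (𝓘 : X.IdealSheafData)
    [LocallyOfFinitePresentation (𝓘.subschemeι ≫ g)] [Flat (𝓘.subschemeι ≫ g)]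
    (hnf : ∀ y : ↥𝓘.subscheme, EGA4.IsNormallyFlat (RingHom.ker (𝓘.subschemeι.stalkMap y).hom)
      ↑(X.presheaf.stalk (𝓘.subschemeι y))) :
    ∃ U : X.Opens, (𝓘.support : Set ↥X) ⊆ U ∧ ∀ x : ↥X, x ∈ U → (g.stalkMap x).hom.Flat := by
  refine ⟨⟨{x | (g.stalkMap x).hom.Flat}, FlatLocus.isOpen_flat_locus g⟩, fun x hx => ?_,
    fun x hx => hx⟩
  obtain ⟨W, hxW⟩ := FlatX.exists_chart g x
  obtain ⟨U, hU, hxU, hUle⟩ := exists_isAffineOpen_mem_and_subset (X := X) (x := x)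
    (U := g ⁻¹ᵁ W.1) hxW
  obtain ⟨hfg, -, hflat⟩ := normFlat_chart g 𝓘 hnf W ⟨U, hU⟩ hUle
  letI : Algebra Γ(S, W.1) Γ(X, U) := (g.appLE W.1 U hUle).hom.toAlgebra
  have hFP : Algebra.FinitePresentation Γ(S, W.1) Γ(X, U) := g.finitePresentation_appLE W.2 hU hUle
  let p := hU.primeIdealOf ⟨x, hxU⟩
  have hp : hU.fromSpec p = x := hU.fromSpec_primeIdealOf ⟨x, hxU⟩
  show (g.stalkMap x).hom.Flat
  rw [← hp, flat_stalkMap_iff_localized g W.2 hU hUle p]
  refine GrFlat5.flat_localized_of_forall_flat_quot (𝓘.ideal ⟨U, hU⟩) hfg (fun k => ?_) p.asIdeal ?_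
  · have := RingHom.flat_algebraMap_iff.mp (hflat k)
    exact Module.Flat.of_linearEquiv ((Submodule.quotEquivOfEq
      ((𝓘.ideal ⟨U, hU⟩) ^ k • ⊤ : Submodule Γ(X, U) Γ(X, U)) ((𝓘.ideal ⟨U, hU⟩) ^ k)
      (by simp)).restrictScalars Γ(S, W.1))
  · intro f hf
    by_contra hfp
    have h2 : p ∈ PrimeSpectrum.basicOpen f := hfp
    rw [← hU.fromSpec_preimage_basicOpen f] at h2
    have h3 : x ∈ X.basicOpen f := hp ▸ h2
    rw [SetLike.mem_coe, Scheme.IdealSheafData.mem_support_iff_of_mem (U := ⟨U, hU⟩) hxU,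
      Scheme.mem_zeroLocus_iff] at hx
    exact hx f hf h3

set_option backward.isDefEq.respectTransparency.types false in
theorem flat_subscheme_centre {R B : Type u} [CommRing R] [CommRing B] (φ : R →+* B) (J : Ideal B)
    (h : ((Ideal.Quotient.mk J).comp φ).Flat) :
    Flat ((BlowUpLib.centre J).subschemeι ≫ Spec.map (CommRingCat.ofHom φ)) := by
  let iX := Spec.map (CommRingCat.ofHom (Ideal.Quotient.mk J))
  have : IsClosedImmersion iX := IsClosedImmersion.spec_of_surjective _ Ideal.Quotient.mk_surjective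
  have h1 : Flat (iX ≫ Spec.map (CommRingCat.ofHom φ)) := by
    rw [show iX = Spec.map (CommRingCat.ofHom (Ideal.Quotient.mk J)) from rfl, ← Spec.map_comp,
      ← CommRingCat.ofHom_comp]
    exact (HasRingHomProperty.Spec_iff (P := @Flat)).mpr (by rw [CommRingCat.hom_ofHom]; exact h)
  rw [← Scheme.Hom.toImage_imageι iX, Category.assoc,
    MorphismProperty.cancel_left_of_respectsIso @Flat] at h1
  rw [← ker_specMap_mk J]
  exact h1

theorem centre_pow {B : Type u} [CommRing B] (J : Ideal B) (k : ℕ) :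
    BlowUpLib.centre J ^ k = BlowUpLib.centre (J ^ k) := by
  refine Scheme.IdealSheafData.ext_of_isAffine ?_
  rw [Scheme.IdealSheafData.ideal_pow, Pi.pow_apply, BlowUpLib.centre_top, BlowUpLib.centre_top,
    Ideal.map_pow]

set_option backward.isDefEq.respectTransparency.types false in
/-- A blow-up of a normally flat centre is locally of finite presentation: affine form. -/
theorem locallyOfFinitePresentation_blowUp_affine {A B : Type u} [CommRing A] [CommRing B]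
    [Algebra A B] [Algebra.FinitePresentation A B] (J : Ideal B) (hJ : J.FG)
    (h : ∀ k, Module.Flat A (B ⧸ J ^ k)) {Z : Scheme.{u}} {b : Z ⟶ Spec (CommRingCat.of B)}
    (hb : BlowUp.IsBlowUp b (BlowUpLib.centre J)) : LocallyOfFinitePresentation b := by
  obtain ⟨R₁, B₁, φ₁, α, β, J₁, hR₁, hft, hpo, hJ₁, hflat⟩ := exists_noetherian_model J hJ h
  letI := φ₁.hom.toAlgebra
  have : Algebra.FiniteType R₁ B₁ := hft
  have : IsNoetherianRing B₁ := Algebra.FiniteType.isNoetherianRing R₁ B₁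
  have hth : ∀ n : ℕ, Flat ((BlowUpLib.centre J₁ ^ (n + 1)).subschemeι ≫ Spec.map φ₁) := fun n => by
    rw [centre_pow]
    exact flat_subscheme_centre φ₁.hom _ (hflat (n + 1))
  obtain ⟨Z₁, b₁, hb₁⟩ := BlowUpLib.exists_blowUp (BlowUpLib.centre J₁)
  have : IsProper b₁ := BlowUpLib.isProper_of_isBlowUp _ hb₁ fun U => by
    have := IsLocallyNoetherian.component_noetherian U
    exact IsNoetherian.noetherian _
  have : LocallyOfFinitePresentation b₁ := inferInstance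
  let s := Spec.map α
  have hbc : BlowUp.IsBlowUp (CInt.baseChangeOver b₁ (Spec.map φ₁) s)
      ((BlowUpLib.centre J₁).comap (pullback.fst (Spec.map φ₁) s)) :=
    isBlowUp_baseChangeOver _ _ hb₁ _
      (have := flat_exceptional _ _ hth hb₁
       Groth.Agent.S1662.result (b₁ ≫ Spec.map φ₁) _ hb₁.1 s)
  have hlfp : LocallyOfFinitePresentation (CInt.baseChangeOver b₁ (Spec.map φ₁) s) := by
    have hsq : IsPullback (pullback.fst (b₁ ≫ Spec.map φ₁) s)
        (CInt.baseChangeOver b₁ (Spec.map φ₁) s) b₁ (pullback.fst (Spec.map φ₁) s) := by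
      refine IsPullback.of_bot ?_ ?_ (IsPullback.of_hasPullback (Spec.map φ₁) s)
      · rw [show CInt.baseChangeOver b₁ (Spec.map φ₁) s ≫ pullback.snd (Spec.map φ₁) s =
          pullback.snd (b₁ ≫ Spec.map φ₁) s from (pullback.lift_snd _ _ _).trans (Category.comp_id _)]
        exact IsPullback.of_hasPullback _ _
      · exact (pullback.lift_fst _ _ _).symm
    exact MorphismProperty.of_isPullback (P := @LocallyOfFinitePresentation) hsq ‹_›
  have hpb := isPullback_SpecMap_of_isPushout _ _ _ _ hpo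
  let ε := hpb.isoPullback
  have hC : BlowUp.IsBlowUp (CInt.baseChangeOver b₁ (Spec.map φ₁) s ≫ ε.inv) (BlowUpLib.centre J) := by
    refine BlowUpLib.isBlowUp_comp_iso _ ?_
    rw [← hJ₁, ← centre_comap_specMap β.hom J₁, ← Scheme.IdealSheafData.comap_comp,
      show Spec.map (CommRingCat.ofHom β.hom) = Spec.map β from rfl, hpb.isoPullback_inv_fst]
    exact hbc
  obtain ⟨i, hi⟩ := BlowUpLib.exists_iso hb hC
  rw [← hi]
  infer_instance

set_option backward.isDefEq.respectTransparency.types false in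
/-- A blow-up along a finitely presented centre is proper. -/
theorem isProper_blowUp (g : X ⟶ S) [LocallyOfFinitePresentation g] (𝓘 : X.IdealSheafData)
    [LocallyOfFinitePresentation (𝓘.subschemeι ≫ g)] {b : X' ⟶ X} (hb : BlowUp.IsBlowUp b 𝓘) :
    IsProper b := by
  exact BlowUpLib.isProper_of_isBlowUp 𝓘 hb fun U => by
    have : LocallyOfFinitePresentation 𝓘.subschemeι := Groth.Agent.S12442.result 𝓘.subschemeι g
    have : LocallyOfFinitePresentation (𝓘.subschemeι ≫ 𝟙 X) := by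
      rw [Category.comp_id]; infer_instance
    have h := finitePresentation_quotApp (𝟙 X) 𝓘 U U (le_of_eq rfl)
    letI : Algebra Γ(X, U.1) Γ(X, U.1) := Algebra.id _
    have h' : (Ideal.Quotient.mk (𝓘.ideal U)).FinitePresentation := by
      convert h using 1
      refine RingHom.ext fun z => congrArg (Ideal.Quotient.mk (𝓘.ideal U)) ?_
      simp only [Scheme.Hom.appLE, Scheme.Hom.id_app, CommRingCat.hom_comp, RingHom.comp_apply]
      erw [X.presheaf.map_id]
      rfl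
    have := RingHom.finitePresentation_algebraMap.mp (show (algebraMap Γ(X, U.1)
      (Γ(X, U.1) ⧸ 𝓘.ideal U)).FinitePresentation from h')
    have h2 := Algebra.FinitePresentation.ker_fG_of_surjective
      (Ideal.Quotient.mkₐ Γ(X, U.1) (𝓘.ideal U)) (Ideal.Quotient.mkₐ_surjective Γ(X, U.1) _)
    convert h2
    exact Ideal.mk_ker.symm

/-- A blow-up along a normally flat centre is of finite presentation. -/
theorem finitePresentation_blowUp (g : X ⟶ S) [LocallyOfFinitePresentation g] (𝓘 : X.IdealSheafData)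
    [LocallyOfFinitePresentation (𝓘.subschemeι ≫ g)] [Flat (𝓘.subschemeι ≫ g)]
    (hnf : ∀ y : ↥𝓘.subscheme, EGA4.IsNormallyFlat (RingHom.ker (𝓘.subschemeι.stalkMap y).hom)
      ↑(X.presheaf.stalk (𝓘.subschemeι y))) {b : X' ⟶ X} (hb : BlowUp.IsBlowUp b 𝓘) :
    LocallyOfFinitePresentation b ∧ QuasiCompact b ∧ QuasiSeparated b := by
  have : IsProper b := isProper_blowUp g 𝓘 hb
  refine ⟨?_, inferInstance, inferInstance⟩
  choose W hW using FlatX.exists_chart g
  choose U hU hxU hUle using fun x =>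
    exists_isAffineOpen_mem_and_subset (X := X) (x := x) (U := g ⁻¹ᵁ (W x).1) (hW x)
  rw [IsZariskiLocalAtTarget.iff_of_iSup_eq_top (P := @LocallyOfFinitePresentation) U
    (top_le_iff.mp fun x _ => TopologicalSpace.Opens.mem_iSup.mpr ⟨x, hxU x⟩)]
  intro x
  obtain ⟨hfg, -, hflat⟩ := normFlat_chart g 𝓘 hnf (W x) ⟨U x, hU x⟩ (hUle x)
  letI : Algebra Γ(S, (W x).1) Γ(X, U x) := (g.appLE (W x).1 (U x) (hUle x)).hom.toAlgebra
  have hFP : Algebra.FinitePresentation Γ(S, (W x).1) Γ(X, U x) :=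
    g.finitePresentation_appLE (W x).2 (hU x) (hUle x)
  have hb' := BlowUpLib.isBlowUp_of_isPullback (isPullback_morphismRestrict b (U x)) hb
  have hb'' : BlowUp.IsBlowUp ((b ∣_ U x) ≫ (hU x).isoSpec.hom)
      (BlowUpLib.centre (𝓘.ideal ⟨U x, hU x⟩)) := by
    refine BlowUpLib.isBlowUp_comp_iso _ ?_
    rw [← BlowUpLib.comap_fromSpec, ← Scheme.IdealSheafData.comap_comp,
      IsAffineOpen.isoSpec_hom_fromSpec]
    exact hb'
  have := locallyOfFinitePresentation_blowUp_affine (A := Γ(S, (W x).1)) _ hfg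
    (fun k => RingHom.flat_algebraMap_iff.mp (hflat k)) hb''
  exact (MorphismProperty.cancel_right_of_respectsIso @LocallyOfFinitePresentation _ _).mp this

set_option backward.isDefEq.respectTransparency.types false in
/-- The exceptional divisor is flat over a normally flat centre. -/
theorem flat_exceptional_of_normallyFlat (𝓘 : X.IdealSheafData) {b : X' ⟶ X}
    (hb : BlowUp.IsBlowUp b 𝓘)
    (hnfU : ∀ x : X, ∃ U : X.affineOpens, x ∈ U.1 ∧ EGA4.IsNormallyFlat (𝓘.ideal U) Γ(X, U.1))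
    (f : (BlowUp.exceptional b 𝓘).subscheme ⟶ 𝓘.subscheme)
    (hf : f ≫ 𝓘.subschemeι = (BlowUp.exceptional b 𝓘).subschemeι ≫ b) : Flat f := by
  have hloc : ∀ e : (BlowUp.exceptional b 𝓘).subscheme,
      ∃ (T : Scheme.{u}) (l : T ⟶ (BlowUp.exceptional b 𝓘).subscheme),
        IsOpenImmersion l ∧ e ∈ Set.range l ∧ Flat (l ≫ f) := by
    intro e
    obtain ⟨⟨U, hU⟩, hxU, hnf⟩ := hnfU (b ((BlowUp.exceptional b 𝓘).subschemeι e))
    obtain ⟨a, k, hk, hxk, hkb⟩ := exists_chart_of_blowUp' hb (𝓘.ideal ⟨U, hU⟩) hU.fromSpec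
      (BlowUpLib.comap_fromSpec 𝓘 ⟨U, hU⟩) ((BlowUp.exceptional b 𝓘).subschemeι e)
      (by rw [hU.range_fromSpec]; exact hxU)
    let Bc := BlowUp.affineAlgebra Γ(X, U) (𝓘.ideal ⟨U, hU⟩) (a : Γ(X, U))
    let J : Ideal Bc := (𝓘.ideal ⟨U, hU⟩).map (algebraMap Γ(X, U) Bc)
    let iX := Spec.map (CommRingCat.ofHom (R := Bc) (S := Bc ⧸ J) (Ideal.Quotient.mk J))
    let iA := Spec.map (CommRingCat.ofHom (Ideal.Quotient.mk (𝓘.ideal ⟨U, hU⟩)))
    have : IsClosedImmersion iX :=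
      IsClosedImmersion.spec_of_surjective _ Ideal.Quotient.mk_surjective
    have : IsClosedImmersion iA :=
      IsClosedImmersion.spec_of_surjective _ Ideal.Quotient.mk_surjective
    obtain ⟨l, hl, hlι, hlr⟩ := exists_lift_openImmersion iX k (BlowUp.exceptional b 𝓘).subschemeι
      (ker_exceptional_comap (C := 𝓘) _ _ hU.fromSpec (BlowUpLib.comap_fromSpec 𝓘 ⟨U, hU⟩) k hkb)
    obtain ⟨m, hm, hmi, -⟩ := exists_lift_openImmersion iA hU.fromSpec 𝓘.subschemeι (by
      rw [Scheme.IdealSheafData.ker_subschemeι, BlowUpLib.comap_fromSpec 𝓘 ⟨U, hU⟩, ker_specMap_mk])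
    refine ⟨_, l, hl, hlr e hxk, ?_⟩
    let θ : (Γ(X, U) ⧸ 𝓘.ideal ⟨U, hU⟩) →+* Bc ⧸ J :=
      Ideal.quotientMap J (algebraMap Γ(X, U) Bc) Ideal.le_comap_map
    letI : Algebra (Γ(X, U) ⧸ 𝓘.ideal ⟨U, hU⟩) (Bc ⧸ J) :=
      RingHom.toAlgebra (R := Γ(X, U) ⧸ 𝓘.ideal ⟨U, hU⟩) (S := Bc ⧸ J) θ
    have hB := flat_exceptional_ring_of_normallyFlat (I := 𝓘.ideal ⟨U, hU⟩) a.2 (fun _ => rfl) hnf
    have key : l ≫ f = Spec.map (CommRingCat.ofHom (R := Γ(X, U) ⧸ 𝓘.ideal ⟨U, hU⟩) (S := Bc ⧸ J) θ) ≫ m := by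
      rw [← cancel_mono 𝓘.subschemeι, Category.assoc, Category.assoc, hf, hmi, reassoc_of% hlι, hkb]
      simp only [iX, iA, ← Spec.map_comp_assoc, ← CommRingCat.ofHom_comp]
      congr 3
    rw [key]
    have : Flat (Spec.map (CommRingCat.ofHom (R := Γ(X, U) ⧸ 𝓘.ideal ⟨U, hU⟩) (S := Bc ⧸ J) θ)) :=
      (HasRingHomProperty.Spec_iff (P := @Flat)).mpr (by
        rw [CommRingCat.hom_ofHom]; exact hB)
    infer_instance
  choose T l hl hmem hflatl using hloc
  refine IsZariskiLocalAtSource.of_iSup_eq_top (P := @Flat) (fun e => (l e).opensRange)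
    (top_le_iff.mp fun e _ => TopologicalSpace.Opens.mem_iSup.mpr ⟨e, hmem e⟩) fun e => ?_
  rw [← Scheme.Hom.isoOpensRange_inv_comp, Category.assoc,
    MorphismProperty.cancel_left_of_respectsIso @Flat]
  exact hflatl e

set_option backward.isDefEq.respectTransparency false in
/-- The blow-up is flat over the base near the exceptional divisor. -/
theorem flat_nhd_exceptional (g : X ⟶ S) (𝓘 : X.IdealSheafData) {b : X' ⟶ X}
    (hb : BlowUp.IsBlowUp b 𝓘) (hth : ∀ n : ℕ, Flat ((𝓘 ^ (n + 1)).subschemeι ≫ g))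
    (U : X.Opens) (hIU : (𝓘.support : Set ↥X) ⊆ U) (hU : ∀ x ∈ U, (g.stalkMap x).hom.Flat) :
    ∃ U' : X'.Opens, ((BlowUp.exceptional b 𝓘).support : Set ↥X') ⊆ U' ∧
      ∀ x' : ↥X', x' ∈ U' → ((b ≫ g).stalkMap x').hom.Flat := by
  refine ⟨b ⁻¹ᵁ U, fun x hx => ?_, fun x' hx' => ?_⟩
  · rw [BlowUp.exceptional, Scheme.IdealSheafData.support_comap] at hx
    exact hIU hx
  let K := (BlowUp.exceptional b 𝓘).comap (b ⁻¹ᵁ U).ι
  have hK : BlowUp.IsEffCartierIdeal K := BlowUpLib.isEffCartier_comap_flat _ hb.1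
  have hfl : Flat (K.subschemeι ≫ (b ⁻¹ᵁ U).ι ≫ b ≫ g) := by
    have := flat_exceptional g 𝓘 hth hb
    rw [← Scheme.IdealSheafData.comapIso_hom_fst, Category.assoc, pullback.condition_assoc,
      MorphismProperty.cancel_left_of_respectsIso @Flat]
    infer_instance
  have := FlatX.flat_of_flat_away ((b ⁻¹ᵁ U).ι ≫ b ≫ g) hK hfl fun z hz => by
    have hz' : b ((b ⁻¹ᵁ U).ι z) ∉ 𝓘.support := fun h => hz (by
      simp only [K, BlowUp.exceptional, Scheme.IdealSheafData.support_comap]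
      exact h)
    rw [Scheme.Hom.stalkMap_comp, FlatLocus.flat_comp_isIso, Scheme.Hom.stalkMap_comp]
    have := isIso_stalkMap_of_notMem hb hz'
    rw [FlatLocus.flat_comp_isIso]
    exact hU _ z.2
  have h2 := Flat.stalkMap ((b ⁻¹ᵁ U).ι ≫ b ≫ g) ⟨x', hx'⟩
  rw [Scheme.Hom.stalkMap_comp, FlatLocus.flat_comp_isIso] at h2
  exact h2

end Groth.Agent.CIntLib
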