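import Groth.Agent.LC.GorRingRows
import Groth.Agent.AvramovLib.Quot
import Groth.Agent.AvramovLib.Localize
import Groth.Agent.KRegLib.Regular
import Groth.Prelude.Def_Found
import Groth.Prelude.Def_Pi1

/-!
# Rings all of whose local rings are complete intersections
-/

set_option autoImplicit false
set_option linter.style.haveILetI false

universe u

open IsLocalRing TensorProduct
open Groth.Agent.LC (isNoetherianRing_atPrime localRingHom_mk_surjective ker_localRingHom_mk)

namespace Groth.Agent.CIntLib

/-- A Noetherian ring all of whose local rings are complete intersections. -/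
class CIRing (A : Type u) [CommRing A] : Prop where
  noeth : IsNoetherianRing A
  ci : ∀ (p : Ideal A) [p.IsPrime], Pi1.IsCompleteIntersection (Localization.AtPrime p)

instance (A : Type u) [CommRing A] [h : CIRing A] : IsNoetherianRing A := h.noeth

attribute [local instance] FlatLoc6.isLocalRing_fibLocRing

instance fibLocRing_isNoetherianRing {A B : Type u} [CommRing A] [CommRing B] [IsNoetherianRing B] [Algebra A B]
    (q : Ideal B) [q.IsPrime] : IsNoetherianRing (EGA4.FibLocRing A B q) :=
  haveI := isNoetherianRing_atPrime q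
  inferInstance

theorem ciRing_of_atPrime {A : Type u} [CommRing A] [IsNoetherianRing A]
    (h : ∀ (p : Ideal A) [p.IsPrime], Pi1.IsCompleteIntersection (Localization.AtPrime p)) : CIRing A :=
  ⟨inferInstance, h⟩

theorem isCI_of_ringEquiv {A B : Type u} [CommRing A] [CommRing B] [IsLocalRing A] [IsLocalRing B]
    [IsNoetherianRing A] (e : A ≃+* B) (h : Pi1.IsCompleteIntersection A) : Pi1.IsCompleteIntersection B :=
  haveI : IsNoetherianRing B := isNoetherianRing_of_ringEquiv A e
  (AvramovLib.isCI_ringEquiv_iff e).1 h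

theorem ciRing_of_isRegularRing (A : Type u) [CommRing A] [IsRegularRing A] : CIRing A :=
  ciRing_of_atPrime fun p _ =>
    haveI := IsRegularRing.isRegularLocalRing_localization (R := A) p
    KRegLib.isCompleteIntersection_of_regular _

theorem ciRing_of_isLocalization {B : Type u} [CommRing B] [CIRing B]
    (M : Submonoid B) (C : Type u) [CommRing C] [Algebra B C] [IsLocalization M C] :
    CIRing C := by
  haveI : IsNoetherianRing C := IsLocalization.isNoetherianRing M C inferInstance
  refine ciRing_of_atPrime fun P _ => ?_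
  let p := P.comap (algebraMap B C)
  haveI : IsLocalization.AtPrime (Localization.AtPrime P) p :=
    IsLocalization.isLocalization_isLocalization_atPrime_isLocalization M (Localization.AtPrime P) P
  haveI := isNoetherianRing_atPrime p
  exact isCI_of_ringEquiv
    (IsLocalization.algEquiv p.primeCompl (Localization.AtPrime p) (Localization.AtPrime P)).toRingEquiv
    (CIRing.ci (A := B) p)

theorem ciRing_of_ringEquiv {A B : Type u} [CommRing A] [CommRing B] (e : A ≃+* B)
    (h : CIRing A) : CIRing B := by
  letI : Algebra A B := e.toRingHom.toAlgebra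
  haveI : IsLocalization (⊥ : Submonoid A) A := IsLocalization.self fun x hx => by
    rw [Submonoid.mem_bot.1 hx]; exact isUnit_one
  haveI : IsLocalization (⊥ : Submonoid A) B := by
    exact IsLocalization.isLocalization_of_algEquiv (⊥ : Submonoid A) (S := A)
      (AlgEquiv.ofRingEquiv (f := e) fun _ => rfl)
  exact ciRing_of_isLocalization (⊥ : Submonoid A) B

/-- Local form: `B_q` is a complete intersection iff `A_p` and the local ring of the fibre are. -/
theorem atPrime_iff {A B : Type u} [CommRing A] [IsNoetherianRing A] [CommRing B] [IsNoetherianRing B]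
    [Algebra A B] [Module.Flat A B] (q : Ideal B) [q.IsPrime] :
    Pi1.IsCompleteIntersection (Localization.AtPrime q) ↔
      (Pi1.IsCompleteIntersection (Localization.AtPrime (q.comap (algebraMap A B))) ∧
        Pi1.IsCompleteIntersection (EGA4.FibLocRing A B q)) := by
  let p := q.comap (algebraMap A B)
  letI := (Localization.localRingHom p q (algebraMap A B) rfl).toAlgebra
  haveI : IsScalarTower A (Localization.AtPrime p) (Localization.AtPrime q) :=
    IsScalarTower.of_algebraMap_eq fun a => by
      rw [RingHom.algebraMap_toAlgebra, Localization.localRingHom_to_map, ← IsScalarTower.algebraMap_apply]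
  haveI : IsLocalHom (algebraMap (Localization.AtPrime p) (Localization.AtPrime q)) :=
    Localization.isLocalHom_localRingHom p q (algebraMap A B) rfl
  haveI : IsNoetherianRing (Localization.AtPrime p) := isNoetherianRing_atPrime p
  haveI : IsNoetherianRing (Localization.AtPrime q) := isNoetherianRing_atPrime q
  haveI : Module.Flat B (Localization.AtPrime q) := IsLocalization.flat _ q.primeCompl
  haveI : Module.Flat A (Localization.AtPrime q) := Module.Flat.trans A B _
  haveI : Module.Flat (Localization.AtPrime p) (Localization.AtPrime q) :=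
    (Module.flat_iff_of_isLocalization (Localization.AtPrime p) p.primeCompl _).mpr inferInstance
  have hJ : (maximalIdeal (Localization.AtPrime p)).map
      (algebraMap (Localization.AtPrime p) (Localization.AtPrime q)) =
        p.map (algebraMap A (Localization.AtPrime q)) := by
    rw [← Localization.AtPrime.map_eq_maximalIdeal, Ideal.map_map, ← IsScalarTower.algebraMap_eq]
  let e := Ideal.quotEquivOfEq hJ
  haveI : IsLocalRing (Localization.AtPrime q ⧸ (maximalIdeal (Localization.AtPrime p)).map
      (algebraMap (Localization.AtPrime p) (Localization.AtPrime q))) := e.symm.isLocalRing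
  rw [AvramovLib.avramov (A := Localization.AtPrime p) (B := Localization.AtPrime q)]
  exact and_congr_right fun _ => ⟨isCI_of_ringEquiv e, isCI_of_ringEquiv e.symm⟩

theorem fibLoc_of_fiber {A B : Type u} [CommRing A] [IsNoetherianRing A] [CommRing B] [IsNoetherianRing B]
    [Algebra A B] (q : Ideal B) [q.IsPrime]
    (h : ∀ (p : Ideal A) [p.IsPrime], CIRing (p.Fiber B)) :
    Pi1.IsCompleteIntersection (EGA4.FibLocRing A B q) := by
  let p := q.comap (algebraMap A B)
  obtain ⟨Q, hQ⟩ := FlatLoc6.exists_fiber_prime p q rfl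
  suffices key : ∀ (q' : Ideal B) [q'.IsPrime], Q.asIdeal.comap Algebra.TensorProduct.includeRight = q' →
      Pi1.IsCompleteIntersection (EGA4.FibLocRing A B q') from key q hQ
  rintro _ _ rfl
  obtain ⟨e⟩ := FlatLoc6.exists_fibLocEquiv p Q.asIdeal
  haveI := (h p).noeth
  haveI := isNoetherianRing_atPrime Q.asIdeal
  exact isCI_of_ringEquiv (A := Localization.AtPrime Q.asIdeal) e ((h p).ci Q.asIdeal)

theorem fiber_of_fibLoc {A B : Type u} [CommRing A] [CommRing B] [IsNoetherianRing B]
    [Algebra A B] (p : Ideal A) [p.IsPrime]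
    (h : ∀ (q : Ideal B) [q.IsPrime], q.comap (algebraMap A B) = p →
      Pi1.IsCompleteIntersection (EGA4.FibLocRing A B q)) :
    CIRing (p.Fiber B) := by
  haveI : IsNoetherianRing (p.Fiber B) := FlatLoc6.isNoetherianRing_fiber p
  refine ciRing_of_atPrime fun Q _ => ?_
  obtain ⟨e⟩ := FlatLoc6.exists_fibLocEquiv p Q
  haveI := isNoetherianRing_atPrime Q
  exact isCI_of_ringEquiv e.symm (h _ (FlatLoc6.comap_fiber_prime p Q))

/-- Ascent along a flat map with CI fibres. -/
theorem ciRing_of_flat (A B : Type u) [CommRing A] [CommRing B] [IsNoetherianRing B] [Algebra A B]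
    [Module.Flat A B] [CIRing A]
    (h : ∀ (p : Ideal A) [p.IsPrime], CIRing (p.Fiber B)) : CIRing B :=
  ciRing_of_atPrime fun q _ => (atPrime_iff q).2
    ⟨CIRing.ci _, fibLoc_of_fiber q h⟩

theorem ciRing_mvPolynomial (A : Type u) [CommRing A] [CIRing A] (ι : Type u)
    [Finite ι] : CIRing (MvPolynomial ι A) :=
  ciRing_of_flat A _ fun p _ =>
    ciRing_of_ringEquiv (MvPolynomial.algebraTensorAlgEquiv (σ := ι) A p.ResidueField).toRingEquiv.symm
      (ciRing_of_isRegularRing _)

theorem ciRing_polynomial (A : Type u) [CommRing A] [CIRing A] :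
    CIRing (Polynomial A) :=
  ciRing_of_flat A _ fun p _ =>
    ciRing_of_ringEquiv (polyEquivTensor' A p.ResidueField).toRingEquiv
      (ciRing_of_isRegularRing _)

/-- The quotient of a CI ring by a nonzerodivisor is CI. -/
theorem ciRing_of_surjective {A C : Type u} [CommRing A] [CIRing A] [CommRing C]
    (π : A →+* C) (hπ : Function.Surjective π) {f : A} (hf : IsSMulRegular A f)
    (hker : RingHom.ker π = Ideal.span {f}) : CIRing C := by
  haveI : IsNoetherianRing C := isNoetherianRing_of_surjective A C π hπ
  refine ciRing_of_atPrime fun q _ => ?_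
  let Q := q.comap π
  haveI := isNoetherianRing_atPrime q
  let σ := Localization.localRingHom Q q π rfl
  have hσ : Function.Surjective σ := by
    intro z
    obtain ⟨c, ⟨t, ht⟩, rfl⟩ := IsLocalization.exists_mk'_eq q.primeCompl z
    obtain ⟨a, rfl⟩ := hπ c
    obtain ⟨s, rfl⟩ := hπ t
    exact ⟨IsLocalization.mk' _ a (⟨s, ht⟩ : Q.primeCompl), Localization.localRingHom_mk' _ _ _ _ _ _⟩
  haveI := isNoetherianRing_atPrime Q
  refine AvramovLib.isCI_quot_regular (CIRing.ci (A := A) Q) σ hσ [algebraMap A _ f] ?_ ?_
  · rw [Ideal.ofList_singleton]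
    refine le_antisymm (fun z hz => ?_) ?_
    · obtain ⟨a, ⟨s, hs⟩, rfl⟩ := IsLocalization.exists_mk'_eq Q.primeCompl z
      rw [RingHom.mem_ker, Localization.localRingHom_mk', IsLocalization.mk'_eq_zero_iff] at hz
      obtain ⟨⟨u, hu⟩, hu'⟩ := hz
      obtain ⟨v, rfl⟩ := hπ u
      have hva : v * a ∈ Ideal.span {f} := hker ▸ (RingHom.mem_ker (f := π)).2 (by rw [map_mul]; exact hu')
      obtain ⟨w, hw⟩ := Ideal.mem_span_singleton'.1 hva
      refine Ideal.mem_span_singleton'.2
        ⟨IsLocalization.mk' _ w ((⟨v, hu⟩ : Q.primeCompl) * ⟨s, hs⟩), ?_⟩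
      rw [mul_comm, IsLocalization.mul_mk'_eq_mk'_of_mul, mul_comm f w, hw]
      rw [IsLocalization.mk'_eq_iff_eq]
      exact congrArg _ (show s * (v * a) = v * s * a by ring)
    · rw [Ideal.span_singleton_le_iff_mem, RingHom.mem_ker, Localization.localRingHom_to_map,
        (RingHom.mem_ker (f := π)).1 (hker ▸ Ideal.mem_span_singleton_self f), map_zero]
  · haveI : Module.Flat A (Localization.AtPrime Q) := IsLocalization.flat _ Q.primeCompl
    rw [RingTheory.Sequence.isWeaklyRegular_singleton_iff]
    exact hf.of_flat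

theorem ciRing_adjoinRoot (A : Type u) [CommRing A] [CIRing A] (g : Polynomial A)
    (hg : g.Monic) : CIRing (AdjoinRoot g) := by
  haveI := ciRing_polynomial A
  refine ciRing_of_surjective (AdjoinRoot.mk g) AdjoinRoot.mk_surjective (f := g) ?_ Ideal.mk_ker
  exact fun a b hab => hg.isRegular.left hab

section FieldTensor

variable (k R : Type u) [Field k] [CommRing R] [Algebra k R]

theorem ciRing_fractionRing_tensor [CIRing R] (ι : Type u) [Finite ι] :
    CIRing (FractionRing (MvPolynomial ι k) ⊗[k] R) := by
  let P := MvPolynomial ι k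
  let F := FractionRing (MvPolynomial ι k)
  haveI := ciRing_mvPolynomial R ι
  haveI : CIRing (P ⊗[k] R) :=
    ciRing_of_ringEquiv ((Algebra.TensorProduct.comm k P R).toRingEquiv.trans
      (MvPolynomial.algebraTensorAlgEquiv k R).toRingEquiv).symm inferInstance
  haveI : CIRing ((P ⊗[k] R) ⊗[P] F) :=
    ciRing_of_isLocalization (Algebra.algebraMapSubmonoid (P ⊗[k] R) (nonZeroDivisors P)) _
  exact ciRing_of_ringEquiv (A := (P ⊗[k] R) ⊗[P] F) ((Algebra.TensorProduct.comm P (P ⊗[k] R) F).toRingEquiv.trans
    (Algebra.TensorProduct.cancelBaseChange k P F F R).toRingEquiv) inferInstance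

/-- A monogenic finite step. -/
theorem ciRing_tensor_step (E : Type u) [Field E] [Algebra k E] (g : Polynomial E) (hg : g.Monic)
    (E' : Type u) [Field E'] [Algebra k E'] [Algebra E E'] [IsScalarTower k E E']
    (e : AdjoinRoot g ≃ₐ[E] E') (h : CIRing (E ⊗[k] R)) :
    CIRing (E' ⊗[k] R) := by
  let S := E ⊗[k] R
  haveI : CIRing (S ⊗[E] E) :=
    ciRing_of_ringEquiv (Algebra.TensorProduct.rid E S S).toRingEquiv.symm h
  let q := g.map (Algebra.TensorProduct.includeRight (R := E) (A := S) (B := E)).toRingHom
  haveI := ciRing_adjoinRoot (S ⊗[E] E) q (hg.map _)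
  haveI : CIRing (S ⊗[E] E') :=
    ciRing_of_ringEquiv ((AdjoinRoot.tensorAlgEquiv (R := E) (T := S) g q rfl).symm.toRingEquiv.trans
      (Algebra.TensorProduct.congr (AlgEquiv.refl (R := E) (A₁ := S)) e).toRingEquiv) inferInstance
  exact ciRing_of_ringEquiv (A := S ⊗[E] E') ((Algebra.TensorProduct.comm E S E').toRingEquiv.trans
    (Algebra.TensorProduct.cancelBaseChange k E E' E' R).toRingEquiv) inferInstance

/-- A finitely generated field extension tensored with a CI ring is CI. -/
theorem ciRing_field_tensor (L : Type u) [Field L] [Algebra k L] [Algebra.EssFiniteType k L]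
    [CIRing R] : CIRing (L ⊗[k] R) := by
  obtain ⟨s, hs⟩ := exists_isTranscendenceBasis k L
  haveI : Finite s := by
    refine Cardinal.lt_aleph0_iff_finite.mp ?_
    rw [hs.cardinalMk_eq_trdeg]
    exact finTrdeg_iff_trdeg.mp inferInstance
  let F₀ := IntermediateField.adjoin k (Set.range ((↑) : s → L))
  haveI : Algebra.IsAlgebraic F₀ L := hs.isAlgebraic_field
  haveI : Algebra.EssFiniteType F₀ L := Algebra.EssFiniteType.of_comp k F₀ L
  haveI : Module.Finite F₀ L := Algebra.finite_of_essFiniteType_of_isAlgebraic (F := F₀) (E := L)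
  haveI := ciRing_fractionRing_tensor k R s
  haveI hF : CIRing (F₀ ⊗[k] R) :=
    ciRing_of_ringEquiv
      (Algebra.TensorProduct.congr hs.1.aevalEquivField (AlgEquiv.refl (R := k) (A₁ := R))).toRingEquiv
      inferInstance
  suffices h : ∀ K : IntermediateField F₀ L, CIRing (K ⊗[k] R) from
    ciRing_of_ringEquiv (Algebra.TensorProduct.congr
      ((IntermediateField.topEquiv (F := F₀) (E := L)).restrictScalars k)
      (AlgEquiv.refl (R := k) (A₁ := R))).toRingEquiv (h ⊤)
  intro K
  induction K using IntermediateField.induction_on_adjoin with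
  | base =>
    exact ciRing_of_ringEquiv (Algebra.TensorProduct.congr
      ((IntermediateField.botEquiv F₀ L).restrictScalars k).symm
      (AlgEquiv.refl (R := k) (A₁ := R))).toRingEquiv hF
  | ih K x hK =>
    have hx : IsIntegral K x := Algebra.IsIntegral.isIntegral x
    haveI : IsScalarTower k K L := IsScalarTower.of_algebraMap_eq fun _ => rfl
    change CIRing (↥(IntermediateField.adjoin K ({x} : Set L)) ⊗[k] R)
    exact ciRing_tensor_step k R K (minpoly K x) (minpoly.monic hx) _
      (IntermediateField.adjoinRootEquivAdjoin K hx) hK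

end FieldTensor

theorem ci_fibres_comp (A B C : Type u) [CommRing A] [CommRing B] [CommRing C] [IsNoetherianRing A]
    [IsNoetherianRing B] [IsNoetherianRing C] [Algebra A B] [Algebra B C] [Algebra A C] [IsScalarTower A B C]
    [Module.Flat B C] (hAB : ∀ (q : Ideal A) [q.IsPrime], CIRing (q.Fiber B))
    (hBC : ∀ (p : Ideal B) [p.IsPrime], CIRing (p.Fiber C)) (q : Ideal A) [q.IsPrime] :
    CIRing (q.Fiber C) := by
  refine fiber_of_fibLoc q fun Q _ hQ => ?_
  let I := q.map (algebraMap A B)
  let J := I.map (algebraMap B C)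
  let B' := B ⧸ I
  let C' := C ⧸ J
  haveI : Module.Flat B' C' := LC.exists_quotientMap_flat I
  have hJQ : J ≤ Q := by
    show (q.map (algebraMap A B)).map (algebraMap B C) ≤ Q
    rw [Ideal.map_map, ← IsScalarTower.algebraMap_eq, Ideal.map_le_iff_le_comap, hQ]
  let Q' := Q.map (Ideal.Quotient.mk J)
  haveI : Q'.IsPrime := Ideal.map_isPrime_of_surjective Ideal.Quotient.mk_surjective (by rw [Ideal.mk_ker]; exact hJQ)
  have hQ' : Q'.comap (Ideal.Quotient.mk J) = Q := by
    rw [Ideal.comap_map_of_surjective' _ Ideal.Quotient.mk_surjective, Ideal.mk_ker, sup_eq_left.2 hJQ]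
  let P' := Q'.comap (algebraMap B' C')
  let P := Q.comap (algebraMap B C)
  have hP' : P'.comap (Ideal.Quotient.mk I) = P := by
    show (Q'.comap (algebraMap B' C')).comap (Ideal.Quotient.mk I) = Q.comap (algebraMap B C)
    rw [Ideal.comap_comap, show (algebraMap B' C').comp (Ideal.Quotient.mk I) =
      (Ideal.Quotient.mk J).comp (algebraMap B C) from rfl, ← Ideal.comap_comap, hQ']
  -- `B'` localized at `P'` is the fibre of `A → B`
  have hB : Pi1.IsCompleteIntersection (Localization.AtPrime P') := by
    haveI := isNoetherianRing_atPrime P'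
    have hfl := fibLoc_of_fiber (A := A) (P'.comap (Ideal.Quotient.mk I)) hAB
    refine isCI_of_ringEquiv (A := EGA4.FibLocRing A B (P'.comap (Ideal.Quotient.mk I)))
      ((Ideal.quotEquivOfEq ?_).trans (RingHom.quotientKerEquivOfSurjective (localRingHom_mk_surjective I P'))) hfl
    rw [ker_localRingHom_mk, Ideal.map_map, ← IsScalarTower.algebraMap_eq,
      show (P'.comap (Ideal.Quotient.mk I)).comap (algebraMap A B) = q by
        refine (congrArg (Ideal.comap (algebraMap A B)) hP').trans ?_
        show (Q.comap (algebraMap B C)).comap (algebraMap A B) = q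
        rw [Ideal.comap_comap, ← IsScalarTower.algebraMap_eq, hQ]]
  -- the fibre of `B' → C'` is the fibre of `B → C`
  have hF : Pi1.IsCompleteIntersection (EGA4.FibLocRing B' C' Q') := by
    let π := (Ideal.Quotient.mk (P'.map (algebraMap B' (Localization.AtPrime Q')))).comp
      (Localization.localRingHom (Q'.comap (Ideal.Quotient.mk J)) Q' (Ideal.Quotient.mk J) rfl)
    have hπ : Function.Surjective π :=
      Ideal.Quotient.mk_surjective.comp (localRingHom_mk_surjective J Q')
    have hfl := fibLoc_of_fiber (A := B) (Q'.comap (Ideal.Quotient.mk J)) hBC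
    have hπker : RingHom.ker π =
        ((Q'.comap (Ideal.Quotient.mk J)).comap (algebraMap B C)).map
          (algebraMap B (Localization.AtPrime (Q'.comap (Ideal.Quotient.mk J)))) := by
      have hcomp : (algebraMap B' (Localization.AtPrime Q')).comp (Ideal.Quotient.mk I) =
          (Localization.localRingHom (Q'.comap (Ideal.Quotient.mk J)) Q' (Ideal.Quotient.mk J) rfl).comp
            (algebraMap B (Localization.AtPrime (Q'.comap (Ideal.Quotient.mk J)))) := by
        ext b
        rw [RingHom.comp_apply, RingHom.comp_apply,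
          IsScalarTower.algebraMap_apply B C (Localization.AtPrime (Q'.comap (Ideal.Quotient.mk J))),
          Localization.localRingHom_to_map, IsScalarTower.algebraMap_apply B' C' (Localization.AtPrime Q')]
        rfl
      have hPmap : P' = P.map (Ideal.Quotient.mk I) := by
        rw [← hP', Ideal.map_comap_of_surjective _ Ideal.Quotient.mk_surjective]
      rw [← RingHom.comap_ker, Ideal.mk_ker, hPmap, Ideal.map_map, hcomp, ← Ideal.map_map,
        Ideal.comap_map_of_surjective' _ (localRingHom_mk_surjective J Q'), ker_localRingHom_mk]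
      have e1 : (Q'.comap (Ideal.Quotient.mk J)).comap (algebraMap B C) = P := congrArg _ hQ'
      rw [e1]
      refine sup_eq_left.2 ?_
      show (I.map (algebraMap B C)).map _ ≤ _
      rw [Ideal.map_map, ← IsScalarTower.algebraMap_eq]
      refine Ideal.map_mono ?_
      show q.map (algebraMap A B) ≤ Q.comap (algebraMap B C)
      rw [Ideal.map_le_iff_le_comap, Ideal.comap_comap, ← IsScalarTower.algebraMap_eq, hQ]
    haveI := isNoetherianRing_atPrime Q'
    exact isCI_of_ringEquiv (A := EGA4.FibLocRing B C (Q'.comap (Ideal.Quotient.mk J)))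
      (B := EGA4.FibLocRing B' C' Q')
      ((Ideal.quotEquivOfEq hπker.symm).trans (RingHom.quotientKerEquivOfSurjective hπ)) hfl
  haveI hC := (atPrime_iff (A := B') Q').2 ⟨hB, hF⟩
  suffices key : ∀ (Q₁ : Ideal C) [Q₁.IsPrime], Q'.comap (Ideal.Quotient.mk J) = Q₁ →
      Pi1.IsCompleteIntersection (EGA4.FibLocRing A C Q₁) from key Q hQ'
  rintro _ _ rfl
  have hker2 : RingHom.ker (Localization.localRingHom (Q'.comap (Ideal.Quotient.mk J)) Q' (Ideal.Quotient.mk J) rfl) =
      ((Q'.comap (Ideal.Quotient.mk J)).comap (algebraMap A C)).map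
        (algebraMap A (Localization.AtPrime (Q'.comap (Ideal.Quotient.mk J)))) := by
    rw [ker_localRingHom_mk, show (Q'.comap (Ideal.Quotient.mk J)).comap (algebraMap A C) = q from
      (congrArg _ hQ').trans hQ]
    show ((q.map (algebraMap A B)).map (algebraMap B C)).map _ = _
    rw [Ideal.map_map, Ideal.map_map, RingHom.comp_assoc, ← IsScalarTower.algebraMap_eq A B C,
      ← IsScalarTower.algebraMap_eq]
  let e3 := (RingHom.quotientKerEquivOfSurjective (localRingHom_mk_surjective J Q')).symm.trans
    (Ideal.quotEquivOfEq hker2)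
  haveI := isNoetherianRing_atPrime Q'
  exact isCI_of_ringEquiv e3 hC

theorem ci_fibres_comp_regular (A B C : Type u) [CommRing A] [CommRing B] [CommRing C]
    [IsNoetherianRing A] [IsNoetherianRing B] [IsNoetherianRing C] [Algebra A B] [Algebra B C] [Algebra A C]
    [IsScalarTower A B C] [Module.Flat B C]
    (hAB : ∀ (q : Ideal A) [q.IsPrime], CIRing (q.Fiber B))
    (hBC : CAlg.IsRegularHom B C) (q : Ideal A) [q.IsPrime] : CIRing (q.Fiber C) :=
  ci_fibres_comp A B C hAB (fun p _ => by
    haveI := (hBC.2 p).1
    haveI := FlatLoc6.isRegularRing_of_geometricallyRegular (hBC.2 p).2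
    exact ciRing_of_isRegularRing _) q

end Groth.Agent.CIntLib
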