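import Groth.Agent.S5005
import Groth.Agent.S5018
import Groth.Agent.S5019
import Groth.Agent.S5020
import Groth.Agent.S1488
import Groth.Agent.S7408
import Groth.Agent.S9370
import Groth.Agent.S9371
import Groth.Agent.S9372
import Groth.Agent.GrpOmega.Section
import Groth.Agent.KRRLib.Rank
import Groth.Agent.KFlatLib.Perfect.Tensor
import Groth.Agent.KRRLib.ConeNilp
import Groth.Agent.Synt29.ConormalSeq

/-!
# The conormal sheaf of an immersion of smooth schemes
-/

set_option autoImplicit false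
set_option linter.style.haveILetI false
set_option backward.isDefEq.respectTransparency.types false

universe u

open CategoryTheory CategoryTheory.Limits AlgebraicGeometry

namespace Groth.Agent.CIntLib

open Groth.Agent

theorem finrank_stalk_of_restrict_iso {X : Scheme.{u}} {M : X.Modules} {U : X.Opens} {m : ℕ}
    (e : M.restrict U.ι ≅ FlatMod.freeMod (U : Scheme.{u}) m) (h : FlatMod.IsFinLocFree M) {x : X}
    (hx : x ∈ U) : Module.finrank (X.presheaf.stalk x) (M.presheaf.stalk x) = m := by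
  obtain ⟨_, ⟨V, hV, rfl⟩, hxV, hle⟩ :=
    X.isBasis_affineOpens.exists_subset_of_mem_open (show x ∈ U from hx) U.2
  obtain ⟨l⟩ := QCoh.exists_linearEquiv_of_freeIso (QCoh.freeChart hV hle e)
  exact QCoh.finrank_stalk_of_freeChart hV (QCoh.isQCoh_of_isFinLocFree h) ((QCoh.chartEquiv hV M).trans l) hxV

theorem finrank_stalk_pullback {X Y : Scheme.{u}} (g : Y ⟶ X) {M : X.Modules} (hM : FlatMod.IsFinLocFree M)
    (y : Y) : Module.finrank (Y.presheaf.stalk y) (((Scheme.Modules.pullback g).obj M).presheaf.stalk y) =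
      Module.finrank (X.presheaf.stalk (g y)) (M.presheaf.stalk (g y)) := by
  obtain ⟨U, m, hx, ⟨e⟩⟩ := hM (g y)
  rw [finrank_stalk_of_restrict_iso e hM hx]
  exact finrank_stalk_of_restrict_iso
    (((H23.PullPush.pullRestrictIso g U).app M).symm ≪≫ (Scheme.Modules.pullback (g ∣_ U)).mapIso e ≪≫
      KFlatLib.pullFreeIso _ m) (KFlatLib.isFinLocFree_pullback g hM) hx

/-- Ranks add up in a short exact sequence of finite locally free modules. -/
theorem finrank_stalk_shortExact {X : Scheme.{u}} {S : ShortComplex X.Modules} (hS : S.ShortExact)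
    (h₁ : FlatMod.IsFinLocFree S.X₁) (h₃ : FlatMod.IsFinLocFree S.X₃) (x : X) :
    Module.finrank (X.presheaf.stalk x) (S.X₂.presheaf.stalk x) =
      Module.finrank (X.presheaf.stalk x) (S.X₁.presheaf.stalk x) +
        Module.finrank (X.presheaf.stalk x) (S.X₃.presheaf.stalk x) := by
  have hmap := hS.map_of_exact (DerSch.stalkFunctor X x)
  let T := S.map (DerSch.stalkFunctor X x)
  haveI := hmap.mono_f
  haveI := hmap.epi_g
  have hinj : Function.Injective T.f.hom := (ModuleCat.mono_iff_injective _).1 inferInstance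
  have hsurj : Function.Surjective T.g.hom := (ModuleCat.epi_iff_surjective _).1 inferInstance
  have hex : Function.Exact T.f.hom T.g.hom :=
    (ShortComplex.ShortExact.moduleCat_exact_iff_function_exact _).1 hmap.exact
  haveI : Module.Free (X.presheaf.stalk x) T.X₁ := QCoh.free_stalk_of_isFinLocFree h₁ x
  haveI : Module.Free (X.presheaf.stalk x) T.X₃ := QCoh.free_stalk_of_isFinLocFree h₃ x
  haveI : Module.Finite (X.presheaf.stalk x) T.X₁ := KRRLib.finite_stk h₁ x
  haveI : Module.Finite (X.presheaf.stalk x) T.X₃ := KRRLib.finite_stk h₃ x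
  obtain ⟨l, hl⟩ := LinearMap.exists_rightInverse_of_surjective T.g.hom (LinearMap.range_eq_top.2 hsurj)
  obtain ⟨e, -⟩ := hex.splitSurjectiveEquiv hinj ⟨l, hl⟩
  show Module.finrank (X.presheaf.stalk x) T.X₂ = Module.finrank (X.presheaf.stalk x) T.X₁ +
    Module.finrank (X.presheaf.stalk x) T.X₃
  rw [e.finrank_eq, Module.finrank_prod]

theorem exists_free_conormal {X' X Y : Scheme.{u}} (f : X ⟶ Y) [Smooth f]
    (j : X' ⟶ X) [IsImmersion j] [QuasiCompact j] [Smooth (j ≫ f)] (x : X') :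
    ∃ (U : X'.Opens) (n : ℕ), x ∈ U ∧
      Nonempty ((Omega.conormal j).restrict U.ι ≅ FlatMod.freeMod (↑U) n) ∧
      FlatMor.fibreDimAt f (j.base x) = FlatMor.fibreDimAt (j ≫ f) x + (n : WithBot ℕ∞) := by
  obtain ⟨_, ⟨U, hU, rfl⟩, hxU, -⟩ :=
    X.isBasis_affineOpens.exists_subset_of_mem_open (Set.mem_univ (j x)) isOpen_univ
  obtain ⟨U, hU, hxU⟩ : ∃ U : X.Opens, IsAffineOpen U ∧ j x ∈ U := ⟨U, hU, hxU⟩
  haveI : IsAffine (U : Scheme.{u}) := hU
  let U' := j ⁻¹ᵁ U
  let x' : (U' : Scheme.{u}) := ⟨x, hxU⟩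
  let i : (U' : Scheme.{u}) ⟶ U := j ∣_ U
  let f' : (U : Scheme.{u}) ⟶ Y := U.ι ≫ f
  haveI : IsImmersion i := by
    have h : IsImmersion (j ∣_ U) := IsZariskiLocalAtTarget.restrict (P := @IsImmersion) inferInstance U
    exact h
  haveI : QuasiCompact i := by
    have h : QuasiCompact (j ∣_ U) := IsZariskiLocalAtTarget.restrict (P := @QuasiCompact) inferInstance U
    exact h
  haveI : QuasiSeparated f' := inferInstance
  haveI : Smooth f' := inferInstanceAs (Smooth (U.ι ≫ f))
  have hif : i ≫ f' = U'.ι ≫ j ≫ f := by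
    simp only [i, f', ← Category.assoc, morphismRestrict_ι]
    rfl
  haveI : Smooth (i ≫ f') := by rw [hif]; infer_instance
  haveI : QuasiSeparated (i ≫ f') := inferInstance
  have hY := S5005.result f'
  have hZ := S5005.result (i ≫ f')
  have hfs : MoreMor.IsFormallySmoothHom f' := ((S1488.result f').1 inferInstance).2
  have hfs' : MoreMor.IsFormallySmoothHom (i ≫ f') := ((S1488.result (i ≫ f')).1 inferInstance).2
  obtain ⟨φ, hφ⟩ := GrpOmega.exists_conormalDiff f' i _ (OmegaSh.dOmega f')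
  obtain ⟨c, hc, -⟩ := S9370.result f' (i ≫ f') i (𝟙 Y) (Category.comp_id _) _ _ hY _ _ hZ
  have w := Synt29.ConormalSeq.comp_eq_zero f' i _ _ _ _ φ hφ c hc
  haveI : Mono φ := S5020.result i f' hfs' _ _ hY φ hφ
  haveI : Epi c := Synt29.ConormalSeq.epi_diffCompat f' i _ _ hY _ _ hZ c hc
  have hS : (ShortComplex.mk φ c w).ShortExact := ShortComplex.ShortExact.mk'
    (Synt29.ConormalSeq.exact_conormal_diffCompat f' i _ _ hY _ _ hZ φ hφ c hc w) inferInstance inferInstance
  have hflfY := S5018.result f' hfs _ _ hY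
  have h₂ := KFlatLib.isFinLocFree_pullback i hflfY
  have h₃ := S5018.result (i ≫ f') hfs' _ _ hZ
  have h₁ := KRRLib.flf_kernel hS h₂ h₃
  -- ranks
  have hsum := finrank_stalk_shortExact hS h₁ h₃ x'
  rw [finrank_stalk_pullback i hflfY x'] at hsum
  obtain ⟨V, m, hxV, ⟨eY⟩, hm⟩ := S5019.result f' _ _ hY (i x')
  obtain ⟨V', m', hxV', ⟨eZ⟩, hm'⟩ := S5019.result (i ≫ f') _ _ hZ x'
  rw [finrank_stalk_of_restrict_iso eY hflfY hxV,
    finrank_stalk_of_restrict_iso eZ h₃ hxV'] at hsum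
  have hdim : FlatMor.fibreDimAt f (j x) = (m : WithBot ℕ∞) := by
    rw [← hm, show j x = U.ι (i x') from congr($(morphismRestrict_ι j U).base x').symm]
    exact S7408.result f (U.ι ≫ f) U.ι (𝟙 Y) (Category.comp_id _) (i x')
  have hdim' : FlatMor.fibreDimAt (j ≫ f) x = (m' : WithBot ℕ∞) := by
    rw [← hm', congrArg (fun g => FlatMor.fibreDimAt g x') hif]
    exact S7408.result (j ≫ f) (U'.ι ≫ j ≫ f) U'.ι (𝟙 Y) (Category.comp_id _) x'
  -- back to the conormal sheaf of `j`
  obtain ⟨ψ, hψ, -⟩ := S9371.result i j U.ι U'.ι (morphismRestrict_ι j U).symm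
  haveI : IsIso ψ := (S9372.result i j U.ι U'.ι (isPullback_morphismRestrict j U) ψ hψ).2 inferInstance
  let e₀ : (Omega.conormal j).restrict U'.ι ≅ Omega.conormal i :=
    (Scheme.Modules.restrictFunctorIsoPullback U'.ι).app _ ≪≫ asIso ψ
  obtain ⟨W, n, hxW, ⟨e⟩⟩ := h₁ x'
  rw [finrank_stalk_of_restrict_iso e h₁ hxW] at hsum
  refine ⟨U'.ι ''ᵁ W, n, ⟨x', hxW, rfl⟩, ⟨?_⟩, ?_⟩
  · exact (Scheme.Modules.restrictFunctorCongr (Scheme.Hom.isoImage_inv_ι U'.ι W).symm).app _ ≪≫
      (Scheme.Modules.restrictFunctorComp _ (W.ι ≫ U'.ι)).app _ ≪≫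
      (Scheme.Modules.restrictFunctor (U'.ι.isoImage W).inv).mapIso
        ((Scheme.Modules.restrictFunctorComp W.ι U'.ι).app _ ≪≫
          (Scheme.Modules.restrictFunctor W.ι).mapIso e₀ ≪≫ e) ≪≫
      (Scheme.Modules.restrictFunctorIsoPullback _).app _ ≪≫ KFlatLib.pullFreeIso _ n
  · rw [show FlatMor.fibreDimAt f (j.base x) = FlatMor.fibreDimAt f (j x) from rfl, hdim, hdim', hsum]
    push_cast
    exact add_comm _ _

end Groth.Agent.CIntLib
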