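import Mathlib
import Groth.Agent.Synt29.CIKernel
import Groth.Agent.CILib.Basic
import Groth.Agent.AvramovLib.Two
import Groth.Agent.AvramovLib.Core

/-!
# The geometric depth `dim B - μ(I)` of a presentation by a regular local ring
-/

set_option autoImplicit false
set_option linter.style.haveILetI false
set_option backward.isDefEq.respectTransparency.types false
set_option maxHeartbeats 800000

universe u

open IsLocalRing RingTheory.Sequence Groth.Agent.Synt29

namespace Groth.Agent.CIntLib

/-- The kernel can be generated by at most `dim R - z` elements. -/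
def HasDefect {R S : Type u} [CommRing R] [CommRing S] (π : R →+* S) (z : ℤ) : Prop :=
  ∃ (n r : ℕ) (k : Fin r → R), RingHom.ker π = Ideal.span (Set.range k) ∧
    ringKrullDim R = (n : WithBot ℕ∞) ∧ z + r ≤ n

theorem exists_span_range {R : Type u} [CommRing R] (I : Ideal R) (hI : I.FG) :
    ∃ k : Fin I.spanFinrank → R, Ideal.span (Set.range k) = I := by
  obtain ⟨s, hs, hspan⟩ := Submodule.FG.exists_span_finset_card_eq_spanFinrank hI
  let e := s.equivFinOfCardEq hs
  refine ⟨fun i => (e.symm i : R), ?_⟩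
  conv_rhs => rw [← hspan]
  show Ideal.span _ = Ideal.span _
  congr 1
  ext x
  exact ⟨fun ⟨i, hi⟩ => hi ▸ (e.symm i).2, fun hx => ⟨e ⟨x, hx⟩, by simp⟩⟩

theorem spanFinrank_le_of_span_range {R : Type u} [CommRing R] {r : ℕ} (k : Fin r → R) :
    (Ideal.span (Set.range k)).spanFinrank ≤ r := by
  refine (Submodule.spanFinrank_span_le_ncard_of_finite (Set.finite_range k)).trans ?_
  rw [← Set.image_univ]
  exact (Set.ncard_image_le Set.finite_univ).trans (by simp)

theorem natCast_inj_withBot {a b : ℕ} (h : (a : WithBot ℕ∞) = (b : WithBot ℕ∞)) : a = b := by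
  exact_mod_cast h

theorem hasDefect_iff {R S : Type u} [CommRing R] [IsNoetherianRing R] [CommRing S] (π : R →+* S)
    {n : ℕ} (hn : ringKrullDim R = (n : WithBot ℕ∞)) (z : ℤ) :
    HasDefect π z ↔ z + (RingHom.ker π).spanFinrank ≤ n := by
  constructor
  · rintro ⟨m, r, k, hk, hm, hle⟩
    obtain rfl : m = n := natCast_inj_withBot (hm.symm.trans hn)
    have := spanFinrank_le_of_span_range k
    rw [← hk] at this
    omega
  · intro h
    obtain ⟨k, hk⟩ := exists_span_range (RingHom.ker π) (IsNoetherian.noetherian _)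
    exact ⟨n, _, k, hk.symm, hn, h⟩

theorem sub_spanFinrank_eq {R R' S S' : Type u} [CommRing R] [IsNoetherianRing R] [CommRing R']
    [IsNoetherianRing R'] [CommRing S] [CommRing S'] (π : R →+* S) (π' : R' →+* S') {n n' : ℕ}
    (hn : ringKrullDim R = (n : WithBot ℕ∞)) (hn' : ringKrullDim R' = (n' : WithBot ℕ∞))
    (h : ∀ z, HasDefect π z ↔ HasDefect π' z) :
    (n : ℤ) - (RingHom.ker π).spanFinrank = (n' : ℤ) - (RingHom.ker π').spanFinrank := by
  have h1 := ((hasDefect_iff π' hn' _).mp
    ((h ((n : ℤ) - (RingHom.ker π).spanFinrank)).mp ((hasDefect_iff π hn _).mpr (by omega))))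
  have h2 := ((hasDefect_iff π hn _).mp
    ((h ((n' : ℤ) - (RingHom.ker π').spanFinrank)).mpr ((hasDefect_iff π' hn' _).mpr (by omega))))
  omega

theorem hasDefect_comp_equiv {R R' S : Type u} [CommRing R] [CommRing R'] [CommRing S] (π : R →+* S)
    (e : R' ≃+* R) (z : ℤ) : HasDefect (π.comp e.toRingHom) z ↔ HasDefect π z := by
  constructor
  · rintro ⟨n, r, k, hk, hn, hz⟩
    refine ⟨n, r, e ∘ k, ?_, by rw [← ringKrullDim_eq_of_ringEquiv e]; exact hn, hz⟩
    rw [Set.range_comp, ← Ideal.map_span, ← hk, ← RingHom.comap_ker]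
    exact (Ideal.map_comap_of_surjective e.toRingHom e.surjective _).symm
  · rintro ⟨n, r, k, hk, hn, hz⟩
    refine ⟨n, r, e.symm ∘ k, ?_, by rw [ringKrullDim_eq_of_ringEquiv e]; exact hn, hz⟩
    rw [← RingHom.comap_ker, hk, Set.range_comp, ← Ideal.map_span]
    exact (Ideal.map_symm e).symm

theorem hasDefect_comp_iff_aux {R S : Type u} [CommRing R] [CommRing S] [IsLocalRing S]
    [IsRegularLocalRing R] (τ : R →+* S) (z : ℤ) :
    ∀ (n : ℕ) (P : Type u) [CommRing P] [IsRegularLocalRing P] (π : P →+* R), Function.Surjective π →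
      (maximalIdeal P).spanFinrank ≤ n → (HasDefect (τ.comp π) z ↔ HasDefect τ z) := by
  intro n
  induction n with
  | zero =>
    intro P _ _ π hπ hn
    have hf := RegLoc6.isField_of_spanFinrank_eq_zero (Nat.le_zero.1 hn)
    letI := hf.toField
    exact hasDefect_comp_equiv τ (RingEquiv.ofBijective π ⟨π.injective, hπ⟩) z
  | succ n ih =>
    intro P _ _ π hπ hn
    by_cases hker : RingHom.ker π = ⊥
    · exact hasDefect_comp_equiv τ
        (RingEquiv.ofBijective π ⟨(RingHom.injective_iff_ker_eq_bot π).2 hker, hπ⟩) z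
    obtain ⟨t, htk, ht2⟩ := exists_mem_ker_notMem_sq π hπ hker
    have htm : t ∈ maximalIdeal P := ker_le_maximalIdeal π htk
    obtain ⟨hreg, hdim⟩ := RegLoc6.isRegularLocalRing_quot_and htm ht2
    haveI := hreg
    obtain ⟨d, hd'⟩ := AvramovLib.exists_nat_dim (P ⧸ Ideal.span {t})
    have hdP : ringKrullDim P = ((d + 1 : ℕ) : WithBot ℕ∞) := by
      rw [← hdim, hd']; norm_cast
    let q : P →+* P ⧸ Ideal.span {t} := Ideal.Quotient.mk _
    let π1 : P ⧸ Ideal.span {t} →+* R := Ideal.Quotient.lift _ π fun a ha =>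
      (Ideal.span_singleton_le_iff_mem _).2 htk ha
    have hπ1 : Function.Surjective π1 := Ideal.Quotient.lift_surjective_of_surjective _ _ hπ
    have hn1 : (maximalIdeal (P ⧸ Ideal.span {t})).spanFinrank ≤ n := by
      have := RegLoc6.spanFinrank_quot_le htm ht2
      omega
    rw [← ih _ π1 hπ1 hn1, show τ.comp π = (τ.comp π1).comp q from RingHom.ext fun _ => rfl]
    have hkerq : RingHom.ker ((τ.comp π1).comp q) = (RingHom.ker (τ.comp π1)).comap q :=
      (RingHom.comap_ker _ _).symm
    have hts : t ∈ RingHom.ker ((τ.comp π1).comp q) := by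
      rw [RingHom.mem_ker]
      show τ (π1 (q t)) = 0
      rw [show π1 (q t) = π t from rfl, show π t = 0 from htk, map_zero]
    constructor
    · rintro ⟨m, r, k, hk, hm, hz⟩
      obtain rfl : m = d + 1 := natCast_inj_withBot (hm.symm.trans hdP)
      obtain ⟨r', k', rfl, hk'⟩ := exists_exchange k (hk ▸ hts) (fun hmem => ht2 (by
        rw [pow_two]
        refine Ideal.mul_mono_right ?_ hmem
        rw [← hk]
        exact ker_le_maximalIdeal _))
      refine ⟨d, r', q ∘ k', ?_, hd', by omega⟩
      have h1 : (RingHom.ker ((τ.comp π1).comp q)).map q = RingHom.ker (τ.comp π1) := by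
        rw [hkerq, Ideal.map_comap_of_surjective q Ideal.Quotient.mk_surjective]
      rw [← h1, hk, hk', Ideal.map_sup, Ideal.map_quotient_self, bot_sup_eq, Ideal.map_span,
        Set.range_comp]
    · rintro ⟨m, r, k, hk, hm, hz⟩
      obtain rfl : m = d := natCast_inj_withBot (hm.symm.trans hd')
      choose k' hk' using fun i => Ideal.Quotient.mk_surjective (k i)
      refine ⟨m + 1, r + 1, Fin.cons t k', ?_, hdP, by omega⟩
      have h1 : Set.range k = q '' Set.range k' := by
        rw [← Set.range_comp]; exact congrArg Set.range (funext fun i => (hk' i).symm)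
      rw [hkerq, hk, h1, ← Ideal.map_span,
        Ideal.comap_map_of_surjective q Ideal.Quotient.mk_surjective,
        ← RingHom.ker_eq_comap_bot, Ideal.mk_ker, Fin.range_cons, Ideal.span_insert, sup_comm]

theorem hasDefect_comp_iff {P R S : Type u} [CommRing P] [IsRegularLocalRing P] [CommRing R]
    [IsRegularLocalRing R] [CommRing S] [IsLocalRing S] (π : P →+* R) (hπ : Function.Surjective π)
    (τ : R →+* S) (z : ℤ) : HasDefect (τ.comp π) z ↔ HasDefect τ z :=
  hasDefect_comp_iff_aux τ z _ P π hπ le_rfl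

theorem hasDefect_completion_iff {R A : Type u} [CommRing R] [IsLocalRing R] [IsNoetherianRing R]
    [CommRing A] [IsLocalRing A] (π : R →+* A)
    (τ : AdicCompletion (maximalIdeal R) R →+* AdicCompletion (maximalIdeal A) A)
    (hker : RingHom.ker τ = (RingHom.ker π).map (algebraMap R (AdicCompletion (maximalIdeal R) R)))
    (z : ℤ) : HasDefect τ z ↔ HasDefect π z := by
  constructor
  · rintro ⟨n, r, k, hk, hd, hz⟩
    rw [CILib.ringKrullDim_adicCompletion] at hd
    obtain ⟨k', hk'⟩ := CILib.exists_generators_of_completion (RingHom.ker π) k (hker ▸ hk)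
    exact ⟨n, r, k', hk', hd, hz⟩
  · rintro ⟨n, r, k, hk, hd, hz⟩
    refine ⟨n, r, fun i => algebraMap R _ (k i), ?_, by rw [CILib.ringKrullDim_adicCompletion]; exact hd, hz⟩
    rw [hker, hk, Ideal.map_span, ← Set.range_comp]
    rfl

/-- The geometric depth does not depend on the presentation. -/
theorem hasDefect_indep {A B B' : Type u} [CommRing A] [IsLocalRing A] [IsNoetherianRing A]
    [CommRing B] [CommRing B'] [IsRegularLocalRing B] [IsRegularLocalRing B'] (f : B →+* A)
    (hf : Function.Surjective f) (f' : B' →+* A) (hf' : Function.Surjective f') (z : ℤ) :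
    HasDefect f z ↔ HasDefect f' z := by
  obtain ⟨τ, hτ, hk⟩ := CILib.exists_completion_surjection f hf
  obtain ⟨τ', hτ', hk'⟩ := CILib.exists_completion_surjection f' hf'
  rw [← hasDefect_completion_iff f τ hk, ← hasDefect_completion_iff f' τ' hk']
  haveI := CILib.isRegularLocalRing_adicCompletion B
  haveI := CILib.isAdicComplete_adicCompletion B
  haveI := CILib.isRegularLocalRing_adicCompletion B'
  haveI := CILib.isAdicComplete_adicCompletion B'
  haveI := LC.Canon.isNoetherianRing_completion (R := A)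
  obtain ⟨P, _, _, _, hfg, p₁, p₂, hp₁, hp₂, hcomp⟩ := CILib.exists_pullback τ hτ τ' hτ'
  obtain ⟨Λ, _, n, g, hΛ, hg⟩ := CohenLib.exists_surjective P hfg
  obtain ⟨_, hreg, -⟩ := CohenLib.isRegular_complete_mvPowerSeries hΛ n
  haveI := hreg
  rw [← hasDefect_comp_iff (p₁.comp g) (hp₁.comp hg) τ, ← hasDefect_comp_iff (p₂.comp g) (hp₂.comp hg) τ',
    ← RingHom.comp_assoc, ← RingHom.comp_assoc, hcomp]

/-- A minimal generating family stays minimal along a local faithfully flat map. -/
theorem spanFinrank_le_map {R G : Type u} [CommRing R] [CommRing G] [Algebra R G] [IsLocalRing R]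
    [IsNoetherianRing R] [IsLocalRing G] [IsNoetherianRing G] [Module.FaithfullyFlat R G] (I : Ideal R) :
    I.spanFinrank ≤ (I.map (algebraMap R G)).spanFinrank := by
  classical
  obtain ⟨k, hk⟩ : ∃ k : Fin I.spanFinrank → R, Ideal.span (Set.range k) = I :=
    exists_span_range _ (IsNoetherian.noetherian _)
  generalize ha : I.spanFinrank = a at k hk ⊢
  obtain ⟨w, hw⟩ : ∃ w : Fin (I.map (algebraMap R G)).spanFinrank → G,
      Ideal.span (Set.range w) = I.map (algebraMap R G) :=
    exists_span_range _ (IsNoetherian.noetherian _)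
  generalize (I.map (algebraMap R G)).spanFinrank = b at w hw ⊢
  let fk : Fin a → G := fun i => algebraMap R G (k i)
  have hfk : Ideal.span (Set.range fk) = I.map (algebraMap R G) := by
    conv_rhs => rw [← hk, Ideal.map_span, ← Set.range_comp]
    rfl
  have hC : ∀ j, ∃ c : Fin a → G, ∑ i, c i * fk i = w j := fun j =>
    Ideal.mem_span_range_iff_exists_fun.1
      ((hw.trans hfk.symm).le (Ideal.subset_span (Set.mem_range_self j)))
  have hD : ∀ i, ∃ c : Fin b → G, ∑ j, c j * w j = fk i := fun i =>
    Ideal.mem_span_range_iff_exists_fun.1 (hw.symm ▸ hfk ▸ Ideal.subset_span ⟨i, rfl⟩)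
  choose C hC using hC
  choose D hD using hD
  let N : Matrix (Fin a) (Fin a) G := Matrix.of D * Matrix.of C - 1
  have hrel : ∀ i, ∑ l, N i l * fk l = 0 := by
    intro i
    simp only [N, Matrix.sub_apply, Matrix.mul_apply, Matrix.of_apply, sub_mul, Finset.sum_sub_distrib,
      Finset.sum_mul]
    rw [Finset.sum_comm]
    simp only [mul_assoc, ← Finset.mul_sum, hC, hD, Matrix.one_apply]
    simp
  have hmem : ∀ i l, N i l ∈ maximalIdeal G := by
    intro i l hu
    have hl : fk l ∈ Ideal.span (fk '' (Finset.univ.erase l : Finset (Fin a))) := by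
      have h := hrel i
      rw [← Finset.add_sum_erase _ _ (Finset.mem_univ l), add_eq_zero_iff_eq_neg] at h
      refine (Ideal.unit_mul_mem_iff_mem _ hu).1 ?_
      rw [h]
      exact Submodule.neg_mem _ (Submodule.sum_mem _ fun j hj =>
        Ideal.mul_mem_left _ _ (Ideal.subset_span ⟨j, hj, rfl⟩))
    have hkl : Ideal.span (k '' (Finset.univ.erase l : Finset (Fin a))) = I := by
      refine le_antisymm (hk ▸ Ideal.span_mono (Set.image_subset_range _ _)) ?_
      rw [← hk, Ideal.span_le]
      rintro _ ⟨j, rfl⟩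
      rw [SetLike.mem_coe, ← Ideal.comap_map_eq_self_of_faithfullyFlat (B := G)
        (Ideal.span (k '' (Finset.univ.erase l : Finset (Fin a)))), Ideal.mem_comap, Ideal.map_span,
        ← Set.image_comp]
      by_cases hj : j = l
      · subst hj; exact hl
      · exact Ideal.subset_span ⟨j, by simp [hj], rfl⟩
    have h1 : a ≤ (Finset.univ.erase l).card := by
      refine ha.ge.trans ?_
      rw [← hkl]
      refine (Submodule.spanFinrank_span_le_ncard_of_finite ((Finset.finite_toSet _).image _)).trans ?_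
      exact (Set.ncard_image_le (Finset.finite_toSet _)).trans (Set.ncard_coe_finset _).le
    rw [Finset.card_erase_of_mem (Finset.mem_univ l), Finset.card_univ, Fintype.card_fin] at h1
    have := l.pos
    omega
  have h1 : (Matrix.of D).map (residue G) * (Matrix.of C).map (residue G) = 1 := by
    rw [← Matrix.map_mul]
    ext i l
    have h0 : residue G (N i l) = 0 := (residue_eq_zero_iff _).2 (hmem i l)
    simp only [N, Matrix.sub_apply, map_sub, sub_eq_zero] at h0
    rw [Matrix.map_apply, h0, Matrix.one_apply, Matrix.one_apply]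
    split <;> simp
  have h2 := Matrix.rank_mul_le_left ((Matrix.of D).map (residue G)) ((Matrix.of C).map (residue G))
  rw [h1, Matrix.rank_one, Fintype.card_fin] at h2
  exact h2.trans ((Matrix.rank_le_card_width _).trans (Fintype.card_fin b).le)

/-- Along a flat local map with closed fibre a field the geometric depth does not change. -/
theorem hasDefect_of_fibre_field {A A' : Type u} [CommRing A] [CommRing A'] [IsLocalRing A]
    [IsLocalRing A'] [IsNoetherianRing A] [IsNoetherianRing A'] [Algebra A A']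
    [IsLocalHom (algebraMap A A')] [Module.Flat A A']
    (hmax : (maximalIdeal A).map (algebraMap A A') = maximalIdeal A')
    {R G : Type u} [CommRing R] [CommRing G] [IsRegularLocalRing R] [IsRegularLocalRing G]
    [Algebra R G] [IsLocalHom (algebraMap R G)] [Module.Flat R G]
    [IsRegularLocalRing (G ⧸ (maximalIdeal R).map (algebraMap R G))]
    (π : R →+* A) (q : G →+* A') (hπ : Function.Surjective π) (hq : Function.Surjective q)
    (hc : q.comp (algebraMap R G) = (algebraMap A A').comp π) (z : ℤ) :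
    HasDefect π z ↔ HasDefect q z := by
  let P := (maximalIdeal R).map (algebraMap R G)
  haveI : IsLocalHom q := IsLocalHom.of_surjective q hq
  have hfk : RingHom.ker (AvramovLib.fibMap π q hπ hc) = maximalIdeal (G ⧸ P) := by
    refine le_antisymm (le_maximalIdeal ?_) ?_
    · haveI : Nontrivial (A' ⧸ (maximalIdeal A).map (algebraMap A A')) :=
        Ideal.Quotient.nontrivial_iff.2 (hmax ▸ (maximalIdeal.isMaximal A').ne_top)
      exact RingHom.ker_ne_top _
    · rw [← map_maximalIdeal_of_surjective (Ideal.Quotient.mk P) Ideal.Quotient.mk_surjective,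
        Ideal.map_le_iff_le_comap]
      intro x hx
      show Ideal.Quotient.mk _ (q x) = 0
      rw [Ideal.Quotient.eq_zero_iff_mem, hmax]
      exact map_nonunit q x hx
  obtain ⟨ys, hys, hysmax⟩ := RegLoc6.exists_regularSequence_maximalIdeal (G ⧸ P)
  have hlift : ∀ y ∈ ys, ∃ x ∈ RingHom.ker q, Ideal.Quotient.mk P x = y := by
    intro y hy
    have : y ∈ (RingHom.ker q).map (Ideal.Quotient.mk P) := by
      rw [← AvramovLib.ker_fibMap π q hπ hq hc, hfk, ← hysmax]
      exact Ideal.subset_span hy
    exact (Ideal.mem_map_iff_of_surjective _ Ideal.Quotient.mk_surjective).1 this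
  choose g hg hgy using hlift
  let zs : List G := ys.attach.map fun y => g y.1 y.2
  have hzs : zs.map (Ideal.Quotient.mk P) = ys := by
    simp only [zs, List.map_map]
    conv_rhs => rw [← List.attach_map_subtype_val ys]
    exact List.map_congr_left fun y _ => hgy y.1 y.2
  have hzq : Ideal.ofList zs ≤ RingHom.ker q := Ideal.span_le.2 fun x hx => by
    obtain ⟨y, -, rfl⟩ := List.mem_map.1 hx
    exact hg _ _
  have hzsG : IsWeaklyRegular (G ⧸ FlatLoc6.mN R G G) zs := by
    have h : IsWeaklyRegular (G ⧸ P) zs :=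
      (isWeaklyRegular_map_algebraMap_iff (G ⧸ P) (G ⧸ P) zs).1 (hzs.symm ▸ hys.1)
    exact ((Submodule.quotEquivOfEq _ _ (show FlatLoc6.mN R G G = P by
      simp [FlatLoc6.mN, P])).isWeaklyRegular_congr zs).2 h
  obtain ⟨-, hflat⟩ := AvramovLib.regular_of_fibre (A := R) (B := G) zs G hzsG
  let G₁ := G ⧸ Ideal.ofList zs
  let e₁ : G →+* G₁ := Ideal.Quotient.mk _
  let q₁ : G₁ →+* A' := Ideal.Quotient.lift _ q hzq
  have hq₁ : Function.Surjective q₁ := Ideal.Quotient.lift_surjective_of_surjective _ _ hq
  haveI : Nontrivial G₁ := Ideal.Quotient.nontrivial_iff.2 (ne_top_of_le_ne_top (RingHom.ker_ne_top q) hzq)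
  haveI : IsLocalRing G₁ := IsLocalRing.of_surjective' e₁ Ideal.Quotient.mk_surjective
  haveI : IsNoetherianRing G₁ := inferInstanceAs (IsNoetherianRing (G ⧸ Ideal.ofList zs))
  haveI : Module.Flat R G₁ := Module.Flat.of_linearEquiv
    ((Submodule.quotEquivOfEq _ _ (show (Ideal.ofList zs • ⊤ : Submodule G G) = Ideal.ofList zs by
      simp)).symm.restrictScalars R)
  haveI : IsLocalHom (algebraMap R G₁) := by
    haveI : IsLocalHom e₁ := IsLocalHom.of_surjective e₁ Ideal.Quotient.mk_surjective
    rw [show algebraMap R G₁ = e₁.comp (algebraMap R G) from rfl]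
    infer_instance
  have hm₁ : (maximalIdeal R).map (algebraMap R G₁) = maximalIdeal G₁ := by
    refine le_antisymm (map_maximalIdeal_le _) ?_
    rw [← map_maximalIdeal_of_surjective e₁ Ideal.Quotient.mk_surjective, Ideal.map_le_iff_le_comap,
      show algebraMap R G₁ = e₁.comp (algebraMap R G) from rfl, ← Ideal.map_map]
    intro x hx
    have h1 : Ideal.Quotient.mk P x ∈ Ideal.ofList (zs.map (Ideal.Quotient.mk P)) := by
      rw [hzs, hysmax]
      haveI : IsLocalHom (Ideal.Quotient.mk P) := IsLocalHom.of_surjective _ Ideal.Quotient.mk_surjective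
      exact map_nonunit (Ideal.Quotient.mk P) x hx
    rw [← Ideal.map_ofList] at h1
    obtain ⟨t, ht, htx⟩ := (Ideal.mem_map_iff_of_surjective _ Ideal.Quotient.mk_surjective).1 h1
    rw [Ideal.mem_comap, show e₁ x = e₁ (x - t) by
      rw [map_sub, show e₁ t = 0 from Ideal.Quotient.eq_zero_iff_mem.2 ht, sub_zero]]
    refine Ideal.mem_map_of_mem _ ?_
    rw [← neg_sub]
    exact neg_mem ((Ideal.Quotient.eq).1 htx)
  have hdim₁ : ringKrullDim G₁ = ringKrullDim R := by
    refine (AvramovLib.dim_eq_add (A := R) (B := G₁)).trans ?_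
    rw [ringKrullDim_eq_of_ringEquiv (Ideal.quotEquivOfEq hm₁)]
    letI : Field (G₁ ⧸ maximalIdeal G₁) := Ideal.Quotient.field _
    rw [ringKrullDim_eq_zero_of_field, add_zero]
  haveI : IsRegularLocalRing G₁ := by
    refine IsRegularLocalRing.of_spanFinrank_maximalIdeal_le _ ?_
    rw [hdim₁, ← hm₁, ringKrullDim_eq_nat R]
    exact_mod_cast Ideal.spanFinrank_map_le_of_fg _ (IsNoetherian.noetherian _)
  rw [show q = q₁.comp e₁ from RingHom.ext fun _ => rfl,
    hasDefect_comp_iff e₁ Ideal.Quotient.mk_surjective q₁]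
  haveI : Module.FaithfullyFlat R G₁ := Module.FaithfullyFlat.of_flat_of_isLocalHom
  let I := RingHom.ker π
  have hIq : I.map (algebraMap R G₁) ≤ RingHom.ker q₁ := by
    rw [Ideal.map_le_iff_le_comap]
    intro r hr
    show q (algebraMap R G r) = 0
    rw [← RingHom.comp_apply, hc, RingHom.comp_apply, show π r = 0 from hr, map_zero]
  have hker₁ : RingHom.ker q₁ = I.map (algebraMap R G₁) := by
    refine le_antisymm ?_ hIq
    let IG := I.map (algebraMap R G₁)
    letI : Algebra A (G₁ ⧸ IG) := ((Ideal.quotientMap IG (algebraMap R G₁) Ideal.le_comap_map).comp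
      (RingHom.quotientKerEquivOfSurjective hπ).symm.toRingHom).toAlgebra
    have halg : ∀ r, algebraMap A (G₁ ⧸ IG) (π r) = Ideal.Quotient.mk IG (algebraMap R G₁ r) := fun r => by
      show Ideal.quotientMap IG (algebraMap R G₁) Ideal.le_comap_map
        ((RingHom.quotientKerEquivOfSurjective hπ).symm (π r)) = _
      rw [← RingHom.quotientKerEquivOfSurjective_apply_mk hπ r, RingEquiv.symm_apply_apply]
      rfl
    haveI : Nontrivial (G₁ ⧸ IG) := Ideal.Quotient.nontrivial_iff.2
      (ne_top_of_le_ne_top (RingHom.ker_ne_top q₁) hIq)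
    haveI : IsLocalRing (G₁ ⧸ IG) :=
      IsLocalRing.of_surjective' (Ideal.Quotient.mk IG) Ideal.Quotient.mk_surjective
    have hPS : (maximalIdeal A).map (algebraMap A (G₁ ⧸ IG)) = maximalIdeal (G₁ ⧸ IG) := by
      rw [← map_maximalIdeal_of_surjective π hπ, Ideal.map_map,
        show (algebraMap A (G₁ ⧸ IG)).comp π = (Ideal.Quotient.mk IG).comp (algebraMap R G₁) from
          RingHom.ext halg, ← Ideal.map_map, hm₁,
        map_maximalIdeal_of_surjective (Ideal.Quotient.mk IG) Ideal.Quotient.mk_surjective]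
    haveI : IsLocalHom (algebraMap A (G₁ ⧸ IG)) :=
      ((local_hom_TFAE _).out 0 2).2 hPS.le
    let g : (G₁ ⧸ IG) →ₐ[A] A' :=
      { Ideal.Quotient.lift IG q₁ (fun r hr => hIq hr) with
        commutes' := fun a => by
          obtain ⟨r, rfl⟩ := hπ a
          rw [halg]
          exact RingHom.congr_fun hc r }
    have hgs : Function.Surjective g := fun x => by
      obtain ⟨y, rfl⟩ := hq₁ x
      exact ⟨Ideal.Quotient.mk IG y, rfl⟩
    haveI : IsNoetherianRing (G₁ ⧸ IG) := inferInstance
    have hle := AvramovLib.ker_inf_le g hgs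
    rw [hPS] at hle
    have hg0 : RingHom.ker g.toRingHom = ⊥ := by
      refine Submodule.eq_bot_of_le_smul_of_le_jacobson_bot (maximalIdeal _) _ (IsNoetherian.noetherian _)
        (fun x hx => hle ⟨hx, le_maximalIdeal (RingHom.ker_ne_top _) hx⟩) (maximalIdeal_le_jacobson _)
    intro x hx
    have : Ideal.Quotient.mk IG x ∈ RingHom.ker g.toRingHom := hx
    rwa [hg0, Ideal.mem_bot, Ideal.Quotient.eq_zero_iff_mem] at this
  obtain ⟨n, hn⟩ := AvramovLib.exists_nat_dim R
  rw [hasDefect_iff π hn, hasDefect_iff q₁ (hdim₁.trans hn), hker₁,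
    le_antisymm (Ideal.spanFinrank_map_le_of_fg _ (IsNoetherian.noetherian I)) (spanFinrank_le_map (G := G₁) I)]

end Groth.Agent.CIntLib
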