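import Groth.Agent.Synt29.OmegaMaps
import Groth.Agent.KFlatLib.Perfect.LocFree
import Groth.Agent.QCoh.LocFree
import Groth.Agent.Refl70.Sheaf
import Groth.Agent.S5018
import Groth.Agent.S1488
import Mathlib.RingTheory.Etale.Field

/-!
# Injectivity of the differential of a dominant separable morphism
-/

set_option autoImplicit false
set_option linter.style.haveILetI false
set_option backward.isDefEq.respectTransparency.types false

universe u

open CategoryTheory CategoryTheory.Limits AlgebraicGeometry Opposite IsLocalRing

namespace Groth.Agent.CIntLib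

open Groth.Agent Synt29.OmegaStalk KFlatLib

/-- A map out of a locally free module on an integral scheme is mono as soon as it is injective at
the generic point. -/
theorem mono_of_injective_generic {X : Scheme.{u}} [IsIntegral X] [IsLocallyNoetherian X] {M N : X.Modules}
    (hM : FlatMod.IsFinLocFree M) (c : M ⟶ N)
    (h : Function.Injective ((DerSch.stalkFunctor X (genericPoint X)).map c)) : Mono c := by
  rw [mono_iff_stalk]
  intro x
  have ht : TorSh.IsTorsionFree M := fun y => by
    haveI := QCoh.free_stalk_of_isFinLocFree hM y
    infer_instance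
  refine (injective_iff_map_eq_zero _).2 fun m hm => ?_
  obtain ⟨U, hx, s, rfl⟩ := gm_surjective M m
  replace hm := (DerSch.stalkFunctor_map_germ x c U hx s).symm.trans hm
  have hη : genericPoint X ∈ U := (genericPoint_specializes x).mem_open U.2 hx
  have h0 : gm N hη (c.app U s) = 0 := by
    have := congrArg (N.presheaf.stalkSpecializes (genericPoint_specializes x)) hm
    erw [TopCat.Presheaf.germ_stalkSpecializes_apply] at this
    exact this.trans (map_zero _)
  have h1 : gm M hη s = 0 := h (by
    refine ((DerSch.stalkFunctor_map_germ _ c U hη s).trans h0).trans ?_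
    exact (map_zero _).symm)
  refine Refl70.stalkSpecializes_generic_injective (QCoh.isQCoh_of_isFinLocFree hM) ht x ?_
  erw [TopCat.Presheaf.germ_stalkSpecializes_apply, map_zero]
  exact h1

/-- The stalk map at the generic point of a separable dominant morphism is formally smooth. -/
theorem formallySmooth_stalkMap_generic {X Y : Scheme.{u}} [IsIntegral X] [IsIntegral Y] (φ : X ⟶ Y)
    (hdom : DenseRange φ.base)
    (hsep : letI := (φ.residueFieldMap (genericPoint X)).hom.toAlgebra
      Algebra.IsSeparable (Y.residueField (φ.base (genericPoint X))) (X.residueField (genericPoint X))) :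
    (φ.stalkMap (genericPoint X)).hom.FormallySmooth := by
  have himg : φ (genericPoint X) = genericPoint Y := by
    refine ((genericPoint_spec X).image φ.continuous).eq ?_
    rw [Set.image_univ, hdom.closure_eq]
    exact genericPoint_spec Y
  have hX : IsField (X.presheaf.stalk (genericPoint X)) := Field.toIsField X.functionField
  have hY : IsField (Y.presheaf.stalk (φ (genericPoint X))) := by
    rw [himg]
    exact Field.toIsField Y.functionField
  letI := hX.toField
  letI := hY.toField
  let eX : X.presheaf.stalk (genericPoint X) ≃+* X.residueField (genericPoint X) :=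
    RingEquiv.ofBijective (X.residue (genericPoint X)).hom ⟨RingHom.injective _, Ideal.Quotient.mk_surjective⟩
  let eY : Y.presheaf.stalk (φ (genericPoint X)) ≃+* Y.residueField (φ (genericPoint X)) :=
    RingEquiv.ofBijective (Y.residue (φ (genericPoint X))).hom ⟨RingHom.injective _, Ideal.Quotient.mk_surjective⟩
  letI := (φ.residueFieldMap (genericPoint X)).hom.toAlgebra
  letI := (φ.stalkMap (genericPoint X)).hom.toAlgebra
  haveI := hsep
  haveI : Algebra.IsSeparable (Y.presheaf.stalk (φ (genericPoint X))) (X.presheaf.stalk (genericPoint X)) := by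
    refine Algebra.IsSeparable.of_equiv_equiv eY.symm eX.symm (RingHom.ext fun a => ?_)
    obtain ⟨b, rfl⟩ := eY.surjective a
    apply eX.injective
    show eX ((φ.stalkMap (genericPoint X)).hom (eY.symm (eY b))) =
      eX (eX.symm ((φ.residueFieldMap (genericPoint X)).hom (eY b)))
    rw [RingEquiv.symm_apply_apply, RingEquiv.apply_symm_apply]
    exact (congr($(Scheme.residue_residueFieldMap φ (genericPoint X)) b)).symm
  haveI := Algebra.FormallyEtale.of_isSeparable (Y.presheaf.stalk (φ (genericPoint X)))
    (X.presheaf.stalk (genericPoint X))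
  show Algebra.FormallySmooth _ _
  infer_instance

theorem mono_diff_of_separable {X Y S : Scheme.{u}} [IsIntegral X] [IsLocallyNoetherian X] [IsIntegral Y]
    (pX : X ⟶ S) (pY : Y ⟶ S) [Smooth pY] (φ : X ⟶ Y) (w : φ ≫ pY = pX) (hdom : DenseRange φ.base)
    (hsep : letI := (φ.residueFieldMap (genericPoint X)).hom.toAlgebra
      Algebra.IsSeparable (Y.residueField (φ.base (genericPoint X))) (X.residueField (genericPoint X)))
    (ΩY : Y.Modules) (dY : OmegaSh.Der pY ΩY) (hY : OmegaSh.IsUniversal dY)
    (ΩX : X.Modules) (dX : OmegaSh.Der pX ΩX) (hX : OmegaSh.IsUniversal dX)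
    (c : (Scheme.Modules.pullback φ).obj ΩY ⟶ ΩX) (hc : OmegaSh.IsDiffCompat φ dY dX c) :
    Mono c := by
  subst w
  refine mono_of_injective_generic (KFlatLib.isFinLocFree_pullback φ
    (S5018.result pY ((S1488.result pY).1 inferInstance).2 ΩY dY hY)) c ?_
  obtain ⟨i₁, i₂, hi⟩ := exists_stalk_square hY hX c hc (genericPoint X)
    (pY.stalkMap (φ (genericPoint X))) rfl
    (pY.stalkMap (φ (genericPoint X)) ≫ φ.stalkMap (genericPoint X))
    (Scheme.Hom.stalkMap_comp φ pY (genericPoint X)).symm
  rw [(stalk_iff i₁ i₂ (hi _ (baseMap_unit _ _))).1]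
  exact baseMap_injective _ _ (formallySmooth_stalkMap_generic φ hdom hsep)

end Groth.Agent.CIntLib
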