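import Groth.Agent.CIntLib.DiffSeparable
import Groth.Agent.H23.Frame
import Groth.Agent.VarDim.Top
import Groth.Agent.S2469

/-!
# Differential forms pulled back from a smooth variety with free cotangent sheaf
-/

set_option autoImplicit false
set_option linter.style.haveILetI false
set_option backward.isDefEq.respectTransparency.types false

universe u

open CategoryTheory CategoryTheory.Limits AlgebraicGeometry Opposite IsLocalRing
open scoped TensorProduct

namespace Groth.Agent.CIntLib

open Groth.Agent Synt29.OmegaStalk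

/-- Differentials of `m` elements of a formally smooth residue extension are independent, when `m`
does not exceed the transcendence degree. -/
theorem exists_linearIndependent_D {k R A κ L : Type u} [Field k] [CommRing R] [CommRing A] [Field κ]
    [Field L] [Algebra k R] [Algebra R L] [Algebra A κ] [Algebra k κ] [Algebra A L] [Algebra κ L]
    [IsScalarTower A κ L] [Algebra k L] [IsScalarTower k κ L] [IsScalarTower k R L]
    [Algebra.EssFiniteType k κ] [Algebra.FormallySmooth κ L]
    (hA : Function.Surjective (algebraMap A κ)) (hR : Function.Surjective (algebraMap k R))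
    {m : ℕ} (hm : m ≤ Cardinal.toNat (Algebra.trdeg k κ)) :
    ∃ a : Fin m → A, LinearIndependent L fun i => KaehlerDifferential.D R L (algebraMap A L (a i)) := by
  obtain ⟨hfin, -, hrk⟩ := Groth.Agent.S2469.result (K := k) (L := κ)
  haveI := hfin
  obtain ⟨v, hv, -, hvli⟩ := Submodule.exists_fun_fin_finrank_span_eq κ
    (Set.range (KaehlerDifferential.D k κ))
  have hle : m ≤ Module.finrank κ (Submodule.span κ (Set.range (KaehlerDifferential.D k κ))) := by
    rw [KaehlerDifferential.span_range_derivation, finrank_top]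
    omega
  choose b hb using fun i : Fin m => hv (Fin.castLE hle i)
  choose a ha using fun i => hA (b i)
  refine ⟨a, ?_⟩
  have hli : LinearIndependent κ fun i => KaehlerDifferential.D k κ (b i) := by
    rw [show (fun i => KaehlerDifferential.D k κ (b i)) = v ∘ Fin.castLE hle from funext hb]
    exact hvli.comp _ (Fin.castLE_injective hle)
  have h1 := Module.Flat.linearIndependent_one_tmul (S := L) hli
  have hinj : Function.Injective (KaehlerDifferential.mapBaseChange k κ L) := by
    refine (injective_iff_map_eq_zero _).mpr fun z hz => ?_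
    obtain ⟨w, rfl⟩ := (Algebra.H1Cotangent.exact_δ_mapBaseChange k κ L z).mp hz
    rw [Subsingleton.elim w 0, map_zero]
  have h2 : LinearIndependent L fun i => KaehlerDifferential.D k L (algebraMap κ L (b i)) := by
    have := h1.map' (KaehlerDifferential.mapBaseChange k κ L) (LinearMap.ker_eq_bot.2 hinj)
    have e : (⇑(KaehlerDifferential.mapBaseChange k κ L) ∘ fun x => (1 : L) ⊗ₜ[κ] (KaehlerDifferential.D k κ) (b x)) =
        fun i => KaehlerDifferential.D k L (algebraMap κ L (b i)) := funext fun i => ?_
    · exact e ▸ this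
    rw [Function.comp_apply, KaehlerDifferential.mapBaseChange_tmul, one_smul, KaehlerDifferential.map_D]
  let Dr : Derivation R L (Ω[L⁄k]) :=
    Derivation.mk'
      { toFun := KaehlerDifferential.D k L
        map_add' := map_add _
        map_smul' := fun r x => by
          obtain ⟨c, rfl⟩ := hR r
          simp only [RingHom.id_apply, algebraMap_smul, Derivation.map_smul] }
      fun x y => (KaehlerDifferential.D k L).leibniz x y
  refine LinearIndependent.of_comp Dr.liftKaehlerDifferential ?_
  have e : (⇑Dr.liftKaehlerDifferential ∘ fun i => (KaehlerDifferential.D R L) ((algebraMap A L) (a i))) =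
      fun i => KaehlerDifferential.D k L (algebraMap κ L (b i)) := funext fun i => ?_
  · exact e ▸ h2
  rw [Function.comp_apply, Derivation.liftKaehlerDifferential_comp_D, ← ha,
    ← IsScalarTower.algebraMap_apply]
  rfl

/-- A geometrically reduced fibre makes the residue extension at a point with field local ring
formally smooth. -/
theorem formallySmooth_residueField_of_geomReduced
    {A L κ : Type u} [CommRing A] [Field L] [Field κ] [Algebra A κ] [Algebra A L] [Algebra κ L] [IsScalarTower A κ L]
    (hA : Function.Surjective (algebraMap A κ)) (h : Algebra.IsGeometricallyReduced κ (κ ⊗[A] L)) :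
    Algebra.FormallySmooth κ L := by
  let θ : κ ⊗[A] L →ₐ[κ] L := Algebra.TensorProduct.lift (Algebra.ofId κ L) (AlgHom.id A L) fun _ _ => Commute.all _ _
  have hθ : ∀ t : L, θ (1 ⊗ₜ t) = t := fun t => by simp [θ]
  have hone : ∀ z : κ ⊗[A] L, ∃ t, z = 1 ⊗ₜ t := by
    intro z
    induction z using TensorProduct.induction_on with
    | zero => exact ⟨0, by simp⟩
    | tmul r t =>
      obtain ⟨a, rfl⟩ := hA r
      exact ⟨a • t, by rw [← TensorProduct.smul_tmul, Algebra.smul_def, mul_one]⟩
    | add a b ha hb =>
      obtain ⟨a, rfl⟩ := ha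
      obtain ⟨b, rfl⟩ := hb
      exact ⟨a + b, (TensorProduct.tmul_add _ _ _).symm⟩
  have hb : Function.Bijective θ := ⟨fun y z hyz => by
      obtain ⟨a, rfl⟩ := hone y
      obtain ⟨b, rfl⟩ := hone z
      rw [hθ, hθ] at hyz
      rw [hyz], fun t => ⟨_, hθ t⟩⟩
  haveI := h
  haveI : Algebra.IsGeometricallyReduced κ L :=
    Algebra.IsGeometricallyReduced.of_injective (AlgEquiv.ofBijective θ hb).symm.toAlgHom (AlgEquiv.ofBijective θ hb).symm.injective
  exact EGA41Lib.FieldFS.formallySmooth_of_isGeometricallyReduced κ L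

variable {k : Type u} [Field k]

/-- The structure map of the local ring of the spectrum of a field is surjective. -/
theorem surjective_germ_spec_field (s : Spec (CommRingCat.of k)) :
    Function.Surjective ((Scheme.ΓSpecIso (CommRingCat.of k)).inv ≫
      (Spec (CommRingCat.of k)).presheaf.germ ⊤ s trivial).hom := by
  intro z
  obtain ⟨V, hV, t, rfl⟩ := (Spec (CommRingCat.of k)).presheaf.exists_germ_eq (x := s) z
  obtain rfl : V = ⊤ := top_unique fun y _ => (Subsingleton.elim s y) ▸ hV
  refine ⟨(Scheme.ΓSpecIso (CommRingCat.of k)).hom t, ?_⟩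
  exact congrArg ((Spec (CommRingCat.of k)).presheaf.germ ⊤ s hV)
    ((Scheme.ΓSpecIso (CommRingCat.of k)).hom_inv_id_apply t)

/-- Sections coming from a free cotangent sheaf, with independent germs at the generic point. -/
theorem exists_sections_linearIndependent {X Z : Scheme.{u}} [IsIntegral X]
    (pX : X ⟶ Spec (CommRingCat.of k)) (pZ : Z ⟶ Spec (CommRingCat.of k)) [LocallyOfFiniteType pZ]
    (f : X ⟶ Z) (hf : f ≫ pZ = pX)
    (hsep : GeometricallyReduced (pullback.snd f (Z.fromSpecResidueField (f (genericPoint X)))))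
    (m : ℕ) (hm : m ≤ VarDim.deg pZ (f (genericPoint X)))
    (ΩZ : Z.Modules) (dZ : OmegaSh.Der pZ ΩZ) (hdZ : OmegaSh.IsUniversal dZ)
    (ΩX : X.Modules) (dX : OmegaSh.Der pX ΩX) (hdX : OmegaSh.IsUniversal dX)
    (c : (Scheme.Modules.pullback f).obj ΩZ ⟶ ΩX) (hc : OmegaSh.IsDiffCompat f dZ dX c)
    {d : ℕ} (e : (Scheme.Modules.pullback f).obj ΩZ ≅ FlatMod.freeMod X d) :
    ∃ σ : Fin m → Γ(ΩX, ⊤), LinearIndependent (X.presheaf.stalk (genericPoint X))
      (fun i => (gm ΩX (x := genericPoint X) (U := ⊤) trivial (σ i) : St ΩX (genericPoint X))) := by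
  subst hf
  set ξ := genericPoint X with hξ
  let M := (Scheme.Modules.pullback f).obj ΩZ
  let A := Z.presheaf.stalk (f ξ)
  let L := X.presheaf.stalk ξ
  let R := (Spec (CommRingCat.of k)).presheaf.stalk (pZ (f ξ))
  let κ := Z.residueField (f ξ)
  have hL : IsField L := Field.toIsField X.functionField
  letI := hL.toField
  letI : Algebra k R := ((Scheme.ΓSpecIso (CommRingCat.of k)).inv ≫
      (Spec (CommRingCat.of k)).presheaf.germ ⊤ (pZ (f ξ)) trivial).hom.toAlgebra
  letI : Algebra R L := (pZ.stalkMap (f ξ) ≫ f.stalkMap ξ).hom.toAlgebra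
  letI : Algebra A L := (f.stalkMap ξ).hom.toAlgebra
  haveI hloc : IsLocalHom (algebraMap A L) := inferInstanceAs (IsLocalHom (f.stalkMap ξ).hom)
  letI : Algebra A κ := (Z.residue (f ξ)).hom.toAlgebra
  letI : Algebra κ L := (IsLocalRing.ResidueField.lift (algebraMap A L)).toAlgebra
  haveI : IsScalarTower A κ L :=
    IsScalarTower.of_algebraMap_eq fun a => (IsLocalRing.ResidueField.lift_residue_apply _ a).symm
  letI : Algebra k κ := (VarDim.resHom pZ (f ξ)).toAlgebra
  letI : Algebra k L := ((algebraMap R L).comp (algebraMap k R)).toAlgebra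
  haveI : IsScalarTower k R L := IsScalarTower.of_algebraMap_eq fun _ => rfl
  haveI : IsScalarTower k κ L := IsScalarTower.of_algebraMap_eq fun r => by
    show (f.stalkMap ξ).hom ((pZ.stalkMap (f ξ)).hom _) =
      IsLocalRing.ResidueField.lift (algebraMap A L) (residue A _)
    rw [IsLocalRing.ResidueField.lift_residue_apply]
    exact congrArg (f.stalkMap ξ).hom (Scheme.Hom.germ_stalkMap_apply pZ ⊤ (f ξ) trivial _)
  haveI : Algebra.FormallySmooth κ L := by
    have hred : FBase.IsGeomReducedAt (f.fiberToSpecResidueField (f ξ)) (f.asFiber ξ) := by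
      letI : (f.fiber (f ξ)).Over (Spec (CommRingCat.of (Z.residueField (f ξ)))) :=
        ⟨f.fiberToSpecResidueField (f ξ)⟩
      exact (GeomField.geometricallyReduced_iff (k := Z.residueField (f ξ)) (X := f.fiber (f ξ))).1 hsep _
    exact formallySmooth_residueField_of_geomReduced (A := A) (Z.residue_surjective (f ξ))
      ((GeomRedFlat5.isGeomReducedAt_fibre_iff f ξ rfl).1 hred)
  haveI : Algebra.EssFiniteType k κ := by
    letI : Algebra R A := (pZ.stalkMap (f ξ)).hom.toAlgebra
    letI : Algebra k A := ((algebraMap R A).comp (algebraMap k R)).toAlgebra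
    haveI : IsScalarTower k R A := IsScalarTower.of_algebraMap_eq fun _ => rfl
    haveI : IsScalarTower k A κ := IsScalarTower.of_algebraMap_eq fun r => by
      exact congrArg (residue A) (Scheme.Hom.germ_stalkMap_apply pZ ⊤ (f ξ) trivial _).symm
    haveI : Algebra.EssFiniteType k R :=
      Algebra.EssFiniteType.of_surjective (Algebra.ofId k R) (surjective_germ_spec_field _)
    haveI : Algebra.EssFiniteType R A := LocallyOfFiniteType.stalkMap pZ (f ξ)
    haveI : Algebra.EssFiniteType k A := Algebra.EssFiniteType.comp k R A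
    exact Algebra.EssFiniteType.of_surjective (IsScalarTower.toAlgHom k A κ) (Z.residue_surjective (f ξ))
  obtain ⟨a, ha⟩ := exists_linearIndependent_D (k := k) (R := R) (A := A) (κ := κ) (L := L)
    (Z.residue_surjective (f ξ)) (surjective_germ_spec_field _) hm
  obtain ⟨i₁, i₂, hi⟩ := exists_stalk_square hdZ hdX c hc ξ (pZ.stalkMap (f ξ)) rfl
    (pZ.stalkMap (f ξ) ≫ f.stalkMap ξ) (Scheme.Hom.stalkMap_comp f pZ ξ).symm
  have hsq := hi _ (baseMap_unit _ _)
  let es : Fin d → Γ(M, ⊤) := fun i => e.inv.app ⊤ ((H23.Frame.incl X d i).app ⊤ (H23.Frame.one ⊤))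
  let s : Fin d → St ΩX ξ := fun i => gm ΩX (x := ξ) (U := ⊤) trivial (c.app ⊤ (es i))
  have hspan : ∀ z : St M ξ, (DerSch.stalkFunctor X ξ).map c z ∈ Submodule.span L (Set.range s) := by
    intro z
    obtain ⟨W, hW, x, rfl⟩ := gm_surjective M z
    have hx : c.app W x = ∑ i, (show Γ(X, W) from (H23.Frame.proj X d i).app W (e.hom.app W x)) •
        ΩX.presheaf.map (homOfLE le_top).op (c.app ⊤ (es i)) := by
      have h0 : x = e.inv.app W (e.hom.app W x) :=
        (show (e.hom ≫ e.inv).app W x = x by rw [e.hom_inv_id]; rfl).symm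
      conv_lhs => rw [h0, ← H23.Frame.free_eq_sum W (e.hom.app W x)]
      simp only [map_sum, Scheme.Modules.Hom.app_smul]
      refine Finset.sum_congr rfl fun i _ => congrArg _ ?_
      rw [← H23.Frame.app_one_res (H23.Frame.incl X d i) (le_top : W ≤ ⊤)]
      exact (congrArg (c.app W) (QCoh.map_app_comm e.inv (homOfLE le_top) _)).trans
        (QCoh.map_app_comm c (homOfLE le_top) _)
    refine (DerSch.stalkFunctor_map_germ ξ c W hW x).symm ▸ ?_
    rw [hx]
    erw [map_sum]
    refine Submodule.sum_mem _ fun i _ => ?_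
    erw [gm_smul, gm_res]
    exact Submodule.smul_mem _ _ (Submodule.subset_span (Set.mem_range_self i))
  let w : Fin m → St ΩX ξ := fun j => i₂.hom
    (CommRingCat.KaehlerDifferential.d ((f.stalkMap ξ).hom (a j)))
  have hw : LinearIndependent L w :=
    ha.map' i₂.hom.hom (LinearMap.ker_eq_bot.2 (ConcreteCategory.bijective_of_isIso i₂.hom).1)
  have hwspan : Submodule.span L (Set.range w) ≤ Submodule.span L (Set.range s) := by
    refine Submodule.span_le.2 ?_
    rintro _ ⟨j, rfl⟩
    have := congr($hsq (((ModuleCat.extendRestrictScalarsAdj (f.stalkMap ξ).hom).unit.app _).hom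
      (CommRingCat.KaehlerDifferential.d (f := pZ.stalkMap (f ξ)) (a j))))
    rw [ModuleCat.comp_apply, ModuleCat.comp_apply] at this
    show w j ∈ Submodule.span L (Set.range s)
    rw [show w j = _ from (this.trans (congrArg i₂.hom (baseMap_unit (pZ.stalkMap (f ξ)) (f.stalkMap ξ) (a j)))).symm]
    exact hspan _
  haveI : Module.Finite L (Submodule.span L (Set.range s)) := Module.Finite.span_of_finite L (Set.finite_range s)
  have hle : m ≤ Module.finrank L (Submodule.span L (Set.range s)) := by
    calc m = Module.finrank L (Submodule.span L (Set.range w)) := by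
          rw [finrank_span_eq_card hw, Fintype.card_fin]
      _ ≤ _ := Submodule.finrank_mono hwspan
  obtain ⟨v, hv, -, hvli⟩ := Submodule.exists_fun_fin_finrank_span_eq L (Set.range s)
  choose q hq using fun j : Fin m => hv (Fin.castLE hle j)
  refine ⟨fun j => c.app ⊤ (es (q j)), ?_⟩
  rw [show (fun j => (gm ΩX (x := ξ) (U := ⊤) trivial (c.app ⊤ (es (q j))) : St ΩX ξ)) = v ∘ Fin.castLE hle from
    funext hq]
  exact hvli.comp _ (Fin.castLE_injective hle)

end Groth.Agent.CIntLib

namespace Groth.Agent.CIntLib

open Groth.Agent Synt29.OmegaStalk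

/-- Sections with independent germs at the generic point are independent over every open. -/
theorem linearIndependent_res_of_germ {X : Scheme.{u}} [IsIntegral X] (M : X.Modules) {m : ℕ}
    (σ : Fin m → Γ(M, ⊤))
    (h : LinearIndependent (X.presheaf.stalk (genericPoint X))
      (fun i => (gm M (x := genericPoint X) (U := ⊤) trivial (σ i) : St M (genericPoint X))))
    (U : X.Opens) : LinearIndependent Γ(X, U) fun i => M.presheaf.map (homOfLE (le_top : U ≤ ⊤)).op (σ i) := by
  rcases isEmpty_or_nonempty U with hU | hU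
  · haveI : Subsingleton Γ(X, U) := by
      have : U = ⊥ := TopologicalSpace.Opens.ext (Set.eq_empty_of_forall_notMem fun y hy => hU.false ⟨y, hy⟩)
      subst this
      exact CommRingCat.subsingleton_of_isTerminal X.sheaf.isTerminalOfEmpty
    exact linearIndependent_iff.2 fun l _ => Subsingleton.elim l 0
  obtain ⟨⟨y, hy⟩⟩ := hU
  have hξ : genericPoint X ∈ U := (genericPoint_specializes y).mem_open U.2 hy
  haveI : Nonempty U := ⟨⟨y, hy⟩⟩
  rw [Fintype.linearIndependent_iff] at h ⊢
  intro g hg i
  have h0 : (gm M hξ (∑ j, g j • M.presheaf.map (homOfLE (le_top : U ≤ ⊤)).op (σ j)) : St M (genericPoint X)) = 0 := by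
    rw [hg, map_zero]
  rw [map_sum] at h0
  simp only [gm_smul, gm_res] at h0
  exact X.germToFunctionField_injective U ((h _ h0 i).trans (map_zero _).symm)

/-- The degree of the generic point of the closure of an image. -/
theorem deg_eq_of_closure {k : Type u} [Field k] {X Z : Scheme.{u}} [IsIntegral X]
    (pZ : Z ⟶ Spec (CommRingCat.of k)) [LocallyOfFiniteType pZ] (f : X ⟶ Z) (η : Z)
    (hη : closure {η} = closure (Set.range f.base)) (m : ℕ)
    (hm : topologicalKrullDim (closure (Set.range f.base)) = m) :
    f (genericPoint X) = η ∧ m ≤ VarDim.deg pZ (f (genericPoint X)) := by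
  have h1 : closure ({f (genericPoint X)} : Set Z) = closure (Set.range f.base) := by
    have := ((genericPoint_spec X).image f.continuous).def
    rw [Set.image_univ] at this
    exact this
  have heq : f (genericPoint X) = η := Inseparable.eq (inseparable_iff_closure_eq.2 (h1.trans hη.symm))
  refine ⟨heq, le_of_eq ?_⟩
  rw [← hη, ← heq, VarDim.topologicalKrullDim_closure_singleton pZ] at hm
  exact_mod_cast hm.symm

end Groth.Agent.CIntLib
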