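import Groth.Agent.CIntLib.DiffInjective
import Groth.Agent.GeomRedFlat5.Bridge
import Groth.Agent.EGA41Lib.FieldFS

/-!
# Injectivity of the differential for a geometrically reduced generic fibre
-/

set_option autoImplicit false
set_option linter.style.haveILetI false
set_option backward.isDefEq.respectTransparency.types false

universe u

open CategoryTheory CategoryTheory.Limits AlgebraicGeometry Opposite IsLocalRing
open scoped TensorProduct

namespace Groth.Agent.CIntLib

open Groth.Agent Synt29.OmegaStalk KFlatLib

/-- A geometrically reduced fibre makes the stalk map formally smooth at a point where both local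
rings are fields. -/
theorem formallySmooth_stalkMap_of_geomReduced {X Z : Scheme.{u}} (f : X ⟶ Z) (x : X)
    (hX : IsField (X.presheaf.stalk x)) (hZ : IsField (Z.presheaf.stalk (f x)))
    (hsep : GeometricallyReduced (pullback.snd f (Z.fromSpecResidueField (f x)))) :
    (f.stalkMap x).hom.FormallySmooth := by
  let A := Z.presheaf.stalk (f x)
  let L := X.presheaf.stalk x
  letI : Algebra A L := (f.stalkMap x).hom.toAlgebra
  have hred : FBase.IsGeomReducedAt (f.fiberToSpecResidueField (f x)) (f.asFiber x) := by
    letI : (f.fiber (f x)).Over (Spec (CommRingCat.of (Z.residueField (f x)))) :=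
      ⟨f.fiberToSpecResidueField (f x)⟩
    exact (GeomField.geometricallyReduced_iff (k := Z.residueField (f x)) (X := f.fiber (f x))).1 hsep _
  haveI h := (GeomRedFlat5.isGeomReducedAt_fibre_iff f x rfl).1 hred
  let κ := ResidueField A
  have hbij : Function.Bijective (algebraMap A κ) :=
    ⟨(letI := hZ.toField; RingHom.injective _), IsLocalRing.residue_surjective⟩
  let e₀ : L ≃ₐ[A] κ ⊗[A] L :=
    (Algebra.TensorProduct.lid A L).symm.trans
      (Algebra.TensorProduct.congr (AlgEquiv.ofBijective (Algebra.ofId A κ) hbij) AlgEquiv.refl)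
  have hF : IsField (κ ⊗[A] L) := MulEquiv.isField hX e₀.symm.toMulEquiv
  letI := hF.toField
  haveI : Algebra.FormallySmooth κ (κ ⊗[A] L) := EGA41Lib.FieldFS.formallySmooth_of_isGeometricallyReduced _ _
  haveI : Algebra.FormallySmooth A κ :=
    Algebra.FormallySmooth.of_equiv (AlgEquiv.ofBijective (Algebra.ofId A κ) hbij)
  haveI : Algebra.FormallySmooth A (κ ⊗[A] L) := Algebra.FormallySmooth.comp A κ _
  exact Algebra.FormallySmooth.of_equiv e₀.symm

/-- The differential of a morphism with geometrically reduced generic fibre onto a smooth variety is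
injective at the generic point. -/
theorem injective_diff_generic {X Y S : Scheme.{u}} [IsIntegral X]
    (pX : X ⟶ S) (pY : Y ⟶ S) (φ : X ⟶ Y) (w : φ ≫ pY = pX)
    (hsm : (φ.stalkMap (genericPoint X)).hom.FormallySmooth)
    (ΩY : Y.Modules) (dY : OmegaSh.Der pY ΩY) (hY : OmegaSh.IsUniversal dY)
    (ΩX : X.Modules) (dX : OmegaSh.Der pX ΩX) (hX : OmegaSh.IsUniversal dX)
    (c : (Scheme.Modules.pullback φ).obj ΩY ⟶ ΩX) (hc : OmegaSh.IsDiffCompat φ dY dX c) :
    Function.Injective ((DerSch.stalkFunctor X (genericPoint X)).map c) := by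
  subst w
  obtain ⟨i₁, i₂, hi⟩ := exists_stalk_square hY hX c hc (genericPoint X)
    (pY.stalkMap (φ (genericPoint X))) rfl
    (pY.stalkMap (φ (genericPoint X)) ≫ φ.stalkMap (genericPoint X))
    (Scheme.Hom.stalkMap_comp φ pY (genericPoint X)).symm
  rw [(stalk_iff i₁ i₂ (hi _ (baseMap_unit _ _))).1]
  exact baseMap_injective _ _ hsm

/-- **Injectivity of the differential** for a dominant morphism with geometrically reduced generic
fibre to a smooth scheme. -/
theorem mono_diff_of_geomReduced {X Y S : Scheme.{u}} [IsIntegral X] [IsLocallyNoetherian X] [IsIntegral Y]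
    (pX : X ⟶ S) (pY : Y ⟶ S) [Smooth pY] (φ : X ⟶ Y) (w : φ ≫ pY = pX) (hdom : DenseRange φ.base)
    (hsep : GeometricallyReduced (pullback.snd φ (Y.fromSpecResidueField (genericPoint ↥Y))))
    (ΩY : Y.Modules) (dY : OmegaSh.Der pY ΩY) (hY : OmegaSh.IsUniversal dY)
    (ΩX : X.Modules) (dX : OmegaSh.Der pX ΩX) (hX : OmegaSh.IsUniversal dX)
    (c : (Scheme.Modules.pullback φ).obj ΩY ⟶ ΩX) (hc : OmegaSh.IsDiffCompat φ dY dX c) :
    Mono c := by
  have himg : φ (genericPoint X) = genericPoint Y := by
    refine ((genericPoint_spec X).image φ.continuous).eq ?_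
    rw [Set.image_univ, hdom.closure_eq]
    exact genericPoint_spec Y
  refine mono_of_injective_generic (KFlatLib.isFinLocFree_pullback φ
    (S5018.result pY ((S1488.result pY).1 inferInstance).2 ΩY dY hY)) c
    (injective_diff_generic pX pY φ w ?_ ΩY dY hY ΩX dX hX c hc)
  rw [← himg] at hsep
  exact formallySmooth_stalkMap_of_geomReduced φ _ (Field.toIsField X.functionField)
    (by rw [himg]; exact Field.toIsField Y.functionField) hsep

end Groth.Agent.CIntLib
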