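import Groth.Agent.CIntLib.DiffSections
import Groth.Agent.DRHyp.ExtSheaf
import Groth.Agent.AModX.Res
import Groth.Agent.FlatMisc.SmoothGeneric
import Groth.Agent.S2535
import Mathlib.LinearAlgebra.Determinant

/-!
# The wedge of independent forms is nonzero
-/

set_option autoImplicit false
set_option linter.style.haveILetI false
set_option backward.isDefEq.respectTransparency.types false

universe u

open CategoryTheory CategoryTheory.Limits AlgebraicGeometry Opposite exteriorPower

namespace Groth.Agent.CIntLib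

open Groth.Agent Synt29.OmegaStalk

/-- Independent vectors have nonzero wedge. -/
theorem ιMulti_ne_zero {L M : Type u} [Field L] [AddCommGroup M] [Module L M] {n : ℕ} {v : Fin n → M}
    (hv : LinearIndependent L v) : ιMulti L n v ≠ 0 := by
  intro h
  obtain ⟨P, hP⟩ := (LinearMap.exists_leftInverse_of_injective (Fintype.linearCombination L v)
    (LinearMap.ker_eq_bot.2 hv.fintypeLinearCombination_injective))
  have h1 := exteriorPower.alternatingMapLinearEquiv_apply_ιMulti
    ((Pi.basisFun L (Fin n)).det.compLinearMap P) v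
  rw [h, map_zero] at h1
  have h2 : (fun i => P (v i)) = Pi.basisFun L (Fin n) := funext fun i => by
    rw [show v i = Fintype.linearCombination L v (Pi.single i 1) by simp, Pi.basisFun_apply]
    exact LinearMap.congr_fun hP (Pi.single i 1)
  rw [AlternatingMap.compLinearMap_apply, h2, Module.Basis.det_self] at h1
  exact zero_ne_one h1

/-- A nonzero section of an exterior power from sections with independent germs. -/
theorem exists_ne_zero_of_germ {X : Scheme.{u}} [IsIntegral X] (E L : X.Modules) {m : ℕ}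
    (hL : ExtPow.IsExtPow m E L) (U : X.Opens) (hξ : genericPoint X ∈ U) (σ : Fin m → Γ(E, ⊤))
    (h : LinearIndependent (X.presheaf.stalk (genericPoint X))
      (fun i => (gm E (x := genericPoint X) (U := ⊤) trivial (σ i) : St E (genericPoint X)))) :
    ∃ ω : Γ(L, U), ω ≠ 0 := by
  obtain ⟨φ, hφ⟩ := hL
  let w : ∀ W : X.affineOpens, Γ(L, W.1) := fun W =>
    (φ W).symm (ιMulti _ m fun j => AModX.res E (le_top : W.1 ≤ ⊤) (σ j))
  have hw : ∀ (W V : X.affineOpens) (hVW : V.1 ≤ W.1), AModX.res L hVW (w W) = w V := fun W V hVW => by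
    refine (hφ W V hVW _).trans (congrArg (φ V).symm (congrArg (ιMulti _ m) (funext fun j => ?_)))
    exact AModX.res_res (M := E) (le_top : W.1 ≤ ⊤) hVW (σ j)
  obtain ⟨ω, hω, -⟩ := AModX.existsUnique_glue (M := L) (V := U)
    (fun W : {W : X.affineOpens // W.1 ≤ U} => W.1.1) (fun W => W.2)
    (fun p hp => by
      obtain ⟨_, ⟨V, hV, rfl⟩, hpV, hle⟩ := X.isBasis_affineOpens.exists_subset_of_mem_open hp U.2
      exact ⟨⟨⟨V, hV⟩, hle⟩, hpV⟩)
    (fun W => w W.1)
    (fun W V => AModX.eq_of_locally _ _ fun p hp => by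
      obtain ⟨_, ⟨T, hT, rfl⟩, hpT, hle⟩ :=
        X.isBasis_affineOpens.exists_subset_of_mem_open hp (W.1.1 ⊓ V.1.1).2
      refine ⟨T, hle, hpT, ?_⟩
      rw [AModX.res_res, AModX.res_res, hw W.1 ⟨T, hT⟩ (fun y hy => (hle hy).1),
        hw V.1 ⟨T, hT⟩ (fun y hy => (hle hy).2)])
  refine ⟨ω, fun h0 => ?_⟩
  obtain ⟨_, ⟨W, hW, rfl⟩, hξW, hle⟩ := X.isBasis_affineOpens.exists_subset_of_mem_open hξ U.2
  have h1 : w ⟨W, hW⟩ = 0 := by
    rw [← hω ⟨⟨W, hW⟩, hle⟩, h0, map_zero]
  have h2 : ιMulti Γ(X, W) m (fun j => AModX.res E (le_top : W ≤ ⊤) (σ j)) = 0 :=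
    (φ ⟨W, hW⟩).symm.map_eq_zero_iff.1 h1
  letI : Field (X.presheaf.stalk (genericPoint X)) := (Field.toIsField X.functionField).toField
  let germ' : Γ(E, W) →+ St E (genericPoint X) := gm E hξW
  have h3 := congrArg (DRHyp.Wedge.semi (X.presheaf.germ W _ hξW).hom germ'
    (fun a b => gm_smul E hξW a b) m) h2
  rw [map_zero, DRHyp.Wedge.semi_ιMulti] at h3
  refine ιMulti_ne_zero h (Eq.trans (congrArg (ιMulti _ m) (funext fun i => ?_)) h3)
  exact (gm_res E (homOfLE (le_top : W ≤ ⊤)) hξW (σ i)).symm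

/-- An integral geometrically normal scheme of finite type over a field is smooth at its generic
point. -/
theorem genericPoint_mem_of_maximal_smooth {k : Type u} [Field k] {X : Scheme.{u}} [IsIntegral X]
    (p : X ⟶ Spec (CommRingCat.of k)) [LocallyOfFiniteType p]
    (hgn : ∀ (K : Type u) [Field K] [Algebra k K] [IsAlgClosure k K],
      Pi1.IsNormalScheme (pullback p (Spec.map (CommRingCat.ofHom (algebraMap k K)))))
    (U : X.Opens) (hUmax : ∀ V : X.Opens, Smooth (V.ι ≫ p) → V ≤ U) : genericPoint X ∈ U := by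
  haveI : LocallyOfFinitePresentation p := inferInstance
  have hn := hgn (AlgebraicClosure k)
  haveI : ∀ z : ↥(FBase.bc p (AlgebraicClosure k)),
      _root_.IsReduced ((FBase.bc p (AlgebraicClosure k)).presheaf.stalk z) := fun z => by
    haveI : IsDomain ((FBase.bc p (AlgebraicClosure k)).presheaf.stalk z) := (hn z).1
    infer_instance
  haveI : AlgebraicGeometry.IsReduced (FBase.bc p (AlgebraicClosure k)) := isReduced_of_isReduced_stalk _
  haveI hg : GeometricallyReduced p := S2535.result (Ω := AlgebraicClosure k) p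
  haveI : IsDominant p := ⟨fun y => subset_closure ⟨genericPoint X, Subsingleton.elim _ _⟩⟩
  have h := FlatMisc.SmoothGeneric.genericPoint_mem_smoothLocus p (Subsingleton.elim _ _)
    (MorphismProperty.pullback_snd _ _ hg)
  refine hUmax p.smoothLocus ?_ h
  rw [← Scheme.Hom.smoothLocus_eq_top_iff, ← Scheme.Hom.preimage_smoothLocus_eq,
    Scheme.Opens.ι_preimage_self]

end Groth.Agent.CIntLib
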