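import Groth.Agent.DescLib.EtaleLocal
import Groth.Agent.RegLoc6.RegEtale
import Groth.Agent.RegLoc6.Basic
import Mathlib.RingTheory.Unramified.LocalStructure
import Mathlib.RingTheory.KrullDimension.NonZeroDivisors
import Mathlib.RingTheory.RegularLocalRing.Defs

/-!
# Unramified of full dimension over a regular ring is étale
-/

set_option autoImplicit false
set_option linter.style.haveILetI false
set_option backward.isDefEq.respectTransparency.types false

universe u

open IsLocalRing

namespace Groth.Agent.CIntLib

theorem injective_of_dim {R S : Type u} [CommRing R] [IsDomain R] [CommRing S] [IsLocalRing R]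
    [IsNoetherianRing R] (π : R →+* S) (hπ : Function.Surjective π) (n : ℕ)
    (hR : ringKrullDim R = n) (hS : (n : WithBot ℕ∞) ≤ ringKrullDim S) : Function.Injective π := by
  rw [injective_iff_map_eq_zero]
  intro x hx
  by_contra hne
  have h1 := ringKrullDim_quotient_succ_le_of_nonZeroDivisor (mem_nonZeroDivisors_of_ne_zero hne)
  have h2 : ringKrullDim S ≤ ringKrullDim (R ⧸ Ideal.span {x}) :=
    ringKrullDim_le_of_surjective
      (Ideal.Quotient.lift (Ideal.span {x}) π fun a ha => by
        obtain ⟨b, rfl⟩ := Ideal.mem_span_singleton'.1 ha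
        rw [map_mul, hx, mul_zero])
      (Ideal.Quotient.lift_surjective_of_surjective _ _ hπ)
  have h3 : ((n + 1 : ℕ) : WithBot ℕ∞) ≤ (n : WithBot ℕ∞) := by
    rw [Nat.cast_add, Nat.cast_one]
    exact (add_le_add (hS.trans h2) le_rfl).trans (h1.trans hR.le)
  have : n + 1 ≤ n := by exact_mod_cast h3
  omega

/-- Unramified at a point where the local ring has at least the dimension of the regular base: etale. -/
theorem isEtaleAt_of_isUnramifiedAt_of_dim (P A : Type u) [CommRing P] [IsRegularRing P] [CommRing A]
    [Algebra P A] [Algebra.FiniteType P A] (q : Ideal A) [q.IsPrime] [Algebra.IsUnramifiedAt P q] (n : ℕ)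
    (hP : ringKrullDim (Localization.AtPrime (q.comap (algebraMap P A))) = n)
    (hA : (n : WithBot ℕ∞) ≤ ringKrullDim (Localization.AtPrime q)) : Algebra.IsEtaleAt P q := by
  obtain ⟨f, hf, SE, φ, hφ⟩ := Algebra.IsUnramifiedAt.exists_hasStandardEtaleSurjectionOn (R := P) q
  haveI : Algebra.Etale P SE.Ring := inferInstance
  haveI : IsNoetherianRing SE.Ring := Algebra.FiniteType.isNoetherianRing P _
  let qf := q.map (algebraMap A (Localization.Away f))
  have hdisj : Disjoint (Submonoid.powers f : Set A) (q : Set A) :=
    (Ideal.disjoint_powers_iff_notMem_of_isPrime _).mpr hf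
  haveI : qf.IsPrime := IsLocalization.isPrime_of_isPrime_disjoint (.powers f) _ _ ‹_› hdisj
  have hqf : qf.comap (algebraMap A (Localization.Away f)) = q :=
    IsLocalization.under_map_of_isPrime_disjoint (Submonoid.powers f) _ ‹_› hdisj
  let Q := qf.comap φ.toRingHom
  haveI : Q.IsPrime := Ideal.comap_isPrime _ _
  -- the base point
  have hunder : Q.comap (algebraMap P SE.Ring) = q.comap (algebraMap A A |>.comp (algebraMap P A)) := by
    show (qf.comap φ.toRingHom).comap (algebraMap P SE.Ring) = _
    rw [Ideal.comap_comap, show φ.toRingHom.comp (algebraMap P SE.Ring) = algebraMap P (Localization.Away f)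
      from φ.comp_algebraMap, IsScalarTower.algebraMap_eq P A (Localization.Away f), ← Ideal.comap_comap, hqf]
    rfl
  haveI : IsRegularLocalRing (Localization.AtPrime Q) :=
    RegLoc6.regular_of_etale (A := P) Q (IsRegularRing.isRegularLocalRing_localization _)
  haveI := RegLoc6.isDomain_of_isRegularLocalRing (Localization.AtPrime Q)
  -- dimension of `E_Q`
  have hQ : ringKrullDim (Localization.AtPrime Q) = n := by
    rw [← hP]
    let p := Q.comap (algebraMap P SE.Ring)
    have hp : ringKrullDim (Localization.AtPrime p) =
        ringKrullDim (Localization.AtPrime (q.comap (algebraMap P A))) := by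
      rw [IsLocalization.AtPrime.ringKrullDim_eq_height p, IsLocalization.AtPrime.ringKrullDim_eq_height
        (q.comap (algebraMap P A))]
      exact congrArg (fun I : Ideal P => ((I.height : ℕ∞) : WithBot ℕ∞)) hunder
    rw [← hp]
    letI := (Localization.localRingHom p Q (algebraMap P SE.Ring) rfl).toAlgebra
    haveI : IsScalarTower P (Localization.AtPrime p) (Localization.AtPrime Q) :=
      IsScalarTower.of_algebraMap_eq fun a => by
        rw [RingHom.algebraMap_toAlgebra, Localization.localRingHom_to_map, ← IsScalarTower.algebraMap_apply]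
    haveI : IsLocalHom (algebraMap (Localization.AtPrime p) (Localization.AtPrime Q)) :=
      Localization.isLocalHom_localRingHom p Q (algebraMap P SE.Ring) rfl
    haveI : IsNoetherianRing (Localization.AtPrime p) :=
      IsLocalization.isNoetherianRing p.primeCompl _ inferInstance
    haveI : Module.Flat SE.Ring (Localization.AtPrime Q) := IsLocalization.flat _ Q.primeCompl
    haveI : Module.Flat P (Localization.AtPrime Q) := Module.Flat.trans P SE.Ring _
    haveI : Algebra.FormallyUnramified P (Localization.AtPrime Q) :=
      Algebra.FormallyUnramified.comp P SE.Ring _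
    haveI : Algebra.EssFiniteType P (Localization.AtPrime Q) := Algebra.EssFiniteType.comp P SE.Ring _
    haveI : Module.Flat (Localization.AtPrime p) (Localization.AtPrime Q) :=
      (Module.flat_iff_of_isLocalization (Localization.AtPrime p) p.primeCompl _).mpr inferInstance
    haveI : Algebra.EssFiniteType (Localization.AtPrime p) (Localization.AtPrime Q) :=
      Algebra.EssFiniteType.of_comp P _ _
    haveI : Algebra.FormallyUnramified (Localization.AtPrime p) (Localization.AtPrime Q) :=
      Algebra.FormallyUnramified.of_restrictScalars P _ _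
    exact DescLib.ringKrullDim_eq_of_flat_unramified _ _
  -- the surjection `E_Q → A_q`
  haveI : IsLocalization.AtPrime (Localization.AtPrime qf) (qf.comap (algebraMap A (Localization.Away f))) :=
    IsLocalization.isLocalization_isLocalization_atPrime_isLocalization (Submonoid.powers f) (Localization.AtPrime qf) qf
  have eA : Localization.AtPrime qf ≃ₐ[A] Localization.AtPrime q := by
    have key : ∀ (q' : Ideal A) [q'.IsPrime] [IsLocalization.AtPrime (Localization.AtPrime qf) q'], q' = q →
        (Localization.AtPrime qf ≃ₐ[A] Localization.AtPrime q) := by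
      intro q' _ _ h
      subst h
      exact IsLocalization.algEquiv q'.primeCompl _ _
    exact key _ hqf
  let ψ : Localization.AtPrime Q →ₐ[P] Localization.AtPrime qf :=
    { Localization.localRingHom Q qf φ.toRingHom rfl with
      commutes' := fun a => by
        show Localization.localRingHom Q qf φ.toRingHom rfl (algebraMap P (Localization.AtPrime Q) a) = _
        rw [IsScalarTower.algebraMap_apply P SE.Ring (Localization.AtPrime Q), Localization.localRingHom_to_map,
          show φ.toRingHom (algebraMap P SE.Ring a) = algebraMap P (Localization.Away f) a from φ.commutes a,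
          ← IsScalarTower.algebraMap_apply] }
  have hψ : Function.Surjective ψ := by
    intro z
    obtain ⟨c, ⟨t, ht⟩, rfl⟩ := IsLocalization.exists_mk'_eq qf.primeCompl z
    obtain ⟨a, rfl⟩ := hφ c
    obtain ⟨s, rfl⟩ := hφ t
    exact ⟨IsLocalization.mk' _ a (⟨s, ht⟩ : Q.primeCompl), Localization.localRingHom_mk' Q qf φ.toRingHom rfl a ⟨s, ht⟩⟩
  have hinj : Function.Injective ψ := injective_of_dim ψ.toRingHom hψ n hQ
    (hA.trans (ringKrullDim_eq_of_ringEquiv eA.toRingEquiv).ge)
  haveI : Algebra.FormallyEtale P (Localization.AtPrime Q) := Algebra.FormallyEtale.comp P SE.Ring _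
  exact Algebra.FormallyEtale.of_equiv ((AlgEquiv.ofBijective ψ ⟨hinj, hψ⟩).trans (eA.restrictScalars P))

end Groth.Agent.CIntLib
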