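import Groth.Agent.CIntLib.EtaleByDim
import Groth.Agent.CAlgOdd.LocalDimSpec
import Groth.Agent.EGA41Lib.FieldFS
import Groth.Agent.RegLoc6.GeomRed
import Groth.Agent.S2451
import Groth.Agent.S14436
import Mathlib

/-!
# Criteria to be étale over affine space at a point
-/

set_option autoImplicit false
set_option linter.style.haveILetI false
set_option backward.isDefEq.respectTransparency.types false

universe u

open IsLocalRing KaehlerDifferential MvPolynomial

namespace Groth.Agent.CIntLib

variable {k A : Type u} [Field k] [CommRing A] [Algebra k A] [Algebra.FiniteType k A]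

theorem exists_dim_residueField (p : Ideal A) [p.IsPrime] :
    ∃ d : ℕ, ringKrullDim (A ⧸ p) = d ∧ Algebra.trdeg k p.ResidueField = d ∧
      Order.coheight (⟨p, inferInstance⟩ : PrimeSpectrum A) = d := by
  obtain ⟨d, hd, htr⟩ := VarDim.exists_dim_eq_trdeg k (A ⧸ p)
  refine ⟨d, hd, ?_, ?_⟩
  · have := lift_trdeg_add_eq k (A ⧸ p) p.ResidueField
    rw [trdeg_eq_zero (R := A ⧸ p), Cardinal.lift_zero, add_zero, htr] at this
    simpa using this.symm
  · have h := VarDim.coheight_eq_ringKrullDim_quotient (R := A) ⟨p, inferInstance⟩
    rw [hd] at h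
    exact_mod_cast h

/-- `dim A_p + trdeg κ(p)` is the local dimension. -/
theorem trdeg_of_localDim (p : Ideal A) [p.IsPrime] {n r : ℕ}
    (hn : FlatMor.localDim (PrimeSpectrum A) ⟨p, inferInstance⟩ = (n : WithBot ℕ∞))
    (hr : ringKrullDim (Localization.AtPrime p) = (r : WithBot ℕ∞)) :
    r ≤ n ∧ Algebra.trdeg k p.ResidueField = ((n - r : ℕ) : Cardinal) := by
  obtain ⟨d, -, htr, hco⟩ := exists_dim_residueField (k := k) p
  rw [IsLocalization.AtPrime.ringKrullDim_eq_height p] at hr
  have hr' : p.height = r := by exact_mod_cast hr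
  rw [CAlgOdd.LocalDimSpec.localDim_eq_add k, ← PrimeSpectrum.height_eq_orderHeight, hr', hco] at hn
  have h1 : r + d = n := by exact_mod_cast hn
  exact ⟨by omega, by rw [htr, show n - r = d by omega]⟩

/-- In affine space: the height of a prime is `n` minus the transcendence degree. -/
theorem ringKrullDim_atPrime_mvPolynomial {n t : ℕ} (p : Ideal (MvPolynomial (Fin n) k)) [p.IsPrime]
    (ht : Algebra.trdeg k p.ResidueField = (t : Cardinal)) :
    t ≤ n ∧ ringKrullDim (Localization.AtPrime p) = ((n - t : ℕ) : WithBot ℕ∞) := by
  obtain ⟨d, -, htr, hco⟩ := exists_dim_residueField (k := k) p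
  have hd : d = t := by rw [ht] at htr; exact_mod_cast htr.symm
  subst hd
  have hdim : ringKrullDim (MvPolynomial (Fin n) k) = n := by
    rw [MvPolynomial.ringKrullDim_of_isNoetherianRing, ringKrullDim_eq_zero_of_field]; simp
  have h := VarDim.height_add_coheight_eq k n _ hdim (⟨p, inferInstance⟩ : PrimeSpectrum _)
  rw [hco, ← PrimeSpectrum.height_eq_orderHeight] at h
  obtain ⟨a, ha⟩ := ENat.ne_top_iff_exists.1 (Ideal.height_ne_top_of_isPrime (I := p))
  change p.height + (d : ℕ∞) = n at h
  rw [← ha] at h
  have h1 : a + d = n := by exact_mod_cast h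
  refine ⟨by omega, ?_⟩
  rw [IsLocalization.AtPrime.ringKrullDim_eq_height p, ← ha, show n - d = a by omega]
  rfl

section Ext

variable {n : ℕ} [Algebra (MvPolynomial (Fin n) k) A] [IsScalarTower k (MvPolynomial (Fin n) k) A]

theorem trdeg_comap_eq (p : Ideal A) [p.IsPrime] [Algebra.IsUnramifiedAt (MvPolynomial (Fin n) k) p] :
    Algebra.trdeg k (p.comap (algebraMap (MvPolynomial (Fin n) k) A)).ResidueField =
      Algebra.trdeg k p.ResidueField := by
  let P := MvPolynomial (Fin n) k
  let pp := p.comap (algebraMap P A)
  haveI : Algebra.FiniteType P A := Algebra.FiniteType.of_restrictScalars_finiteType k P A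
  haveI : p.LiesOver pp := ⟨rfl⟩
  let := Localization.AtPrime.algebraOfLiesOver pp p
  haveI : Module.Finite pp.ResidueField p.ResidueField := inferInstance
  haveI : IsScalarTower k pp.ResidueField p.ResidueField := by
    refine IsScalarTower.of_algebraMap_eq fun c => ?_
    rw [IsScalarTower.algebraMap_apply k P pp.ResidueField, ← IsScalarTower.algebraMap_apply P pp.ResidueField,
      ← IsScalarTower.algebraMap_apply k P p.ResidueField]
  have := lift_trdeg_add_eq k pp.ResidueField p.ResidueField
  rw [trdeg_eq_zero (R := pp.ResidueField), Cardinal.lift_zero, add_zero] at this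
  simpa using this

omit [Algebra.FiniteType k A] in
theorem span_D_residueField_range (p : Ideal A) [p.IsPrime] [Algebra.IsUnramifiedAt (MvPolynomial (Fin n) k) p] :
    Submodule.span p.ResidueField
      (Set.range fun i : Fin n => D k p.ResidueField (algebraMap (MvPolynomial (Fin n) k) p.ResidueField (X i))) = ⊤ := by
  let P := MvPolynomial (Fin n) k
  let K := p.ResidueField
  haveI : Algebra.FormallyUnramified P (Localization.AtPrime p) := ‹Algebra.IsUnramifiedAt P p›
  haveI : Algebra.FormallyUnramified (Localization.AtPrime p) K :=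
    Algebra.FormallyUnramified.of_surjective
      (Algebra.ofId (Localization.AtPrime p) K) IsLocalRing.residue_surjective
  haveI : Algebra.FormallyUnramified P K := Algebra.FormallyUnramified.comp P (Localization.AtPrime p) K
  have hsurj : Function.Surjective (KaehlerDifferential.mapBaseChange k P K) := fun x =>
    (KaehlerDifferential.exact_mapBaseChange_map k P K x).1 (Subsingleton.elim _ _)
  rw [eq_top_iff]
  rintro x -
  obtain ⟨y, rfl⟩ := hsurj x
  induction y using TensorProduct.induction_on with
  | zero => rw [map_zero]; exact zero_mem _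
  | add a b ha hb => rw [map_add]; exact add_mem ha hb
  | tmul c w =>
    rw [KaehlerDifferential.mapBaseChange_tmul]
    refine Submodule.smul_mem _ _ ?_
    have hw : w ∈ Submodule.span P (Set.range fun i : Fin n => D k P (X i)) := by
      rw [show (fun i : Fin n => D k P (X i)) = mvPolynomialBasis k (Fin n) from
        funext fun i => (mvPolynomialBasis_apply k (Fin n) i).symm, Module.Basis.span_eq]
      trivial
    induction hw using Submodule.span_induction with
    | mem z hz =>
      obtain ⟨i, rfl⟩ := hz
      rw [KaehlerDifferential.map_D]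
      exact Submodule.subset_span ⟨i, rfl⟩
    | zero => rw [map_zero]; exact zero_mem _
    | add a b _ _ ha hb => rw [map_add]; exact add_mem ha hb
    | smul a z _ hz =>
      rw [map_smul, ← IsScalarTower.algebraMap_smul K a]
      exact Submodule.smul_mem _ _ hz

/-- Equal dimension makes a prime containing `r` coordinates equal to their span. -/
theorem eq_span_of_trdeg {r : ℕ} (hrn : r ≤ n) (q : Ideal (MvPolynomial (Fin n) k)) [q.IsPrime]
    (hq : ∀ i : Fin n, (i : ℕ) < r → X i ∈ q) (ht : Algebra.trdeg k q.ResidueField = ((n - r : ℕ) : Cardinal)) :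
    q = Ideal.span (X '' {i : Fin n | (i : ℕ) < r}) := by
  classical
  refine le_antisymm (fun f hf => ?_) (Ideal.span_le.2 (by rintro _ ⟨i, hi, rfl⟩; exact hq i hi))
  let I := Ideal.span (X (R := k) '' {i : Fin n | (i : ℕ) < r})
  let e : Fin (n - r) → Fin n := fun j => ⟨r + j, by omega⟩
  let τ : MvPolynomial (Fin n) k →ₐ[k] MvPolynomial (Fin (n - r)) k :=
    aeval fun i => if h : (i : ℕ) < r then 0 else X ⟨i - r, by omega⟩
  let σ : MvPolynomial (Fin (n - r)) k →ₐ[k] MvPolynomial (Fin n) k := rename e
  have hI : (Ideal.Quotient.mkₐ k I).comp (σ.comp τ) = Ideal.Quotient.mkₐ k I := by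
    refine MvPolynomial.algHom_ext fun i => ?_
    show Ideal.Quotient.mk I (σ (τ (X i))) = Ideal.Quotient.mk I (X i)
    by_cases h : (i : ℕ) < r
    · rw [show τ (X i) = 0 by simp [τ, h], map_zero, map_zero, eq_comm, Ideal.Quotient.eq_zero_iff_mem]
      exact Ideal.subset_span ⟨i, h, rfl⟩
    · rw [show τ (X i) = X ⟨i - r, by omega⟩ by simp [τ, h]]
      congr 1
      rw [show σ (X ⟨i - r, by omega⟩) = X (e ⟨i - r, by omega⟩) from rename_X e _]
      congr 1
      exact Fin.ext (show r + (i - r) = i by omega)
  let ψ := (Ideal.Quotient.mkₐ k q).comp σ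
  have hIq : I ≤ q := Ideal.span_le.2 (by rintro _ ⟨i, hi, rfl⟩; exact hq i hi)
  have hψτ : ψ.comp τ = Ideal.Quotient.mkₐ k q := by
    refine AlgHom.ext fun x => ?_
    exact Ideal.Quotient.eq.2 (hIq (Ideal.Quotient.eq.1 (AlgHom.congr_fun hI x)))
  have hψ : Function.Surjective ψ := fun z => by
    obtain ⟨x, rfl⟩ := Ideal.Quotient.mk_surjective z
    exact ⟨τ x, AlgHom.congr_fun hψτ x⟩
  obtain ⟨d, hd, htr, -⟩ := exists_dim_residueField (k := k) q
  have hd' : d = n - r := by rw [ht] at htr; exact_mod_cast htr.symm
  subst hd'
  have hdim : ringKrullDim (MvPolynomial (Fin (n - r)) k) = ((n - r : ℕ) : WithBot ℕ∞) := by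
    rw [MvPolynomial.ringKrullDim_of_isNoetherianRing, ringKrullDim_eq_zero_of_field]; simp
  have hinj : Function.Injective ψ := injective_of_dim' ψ.toRingHom hψ (n - r) hdim hd.ge
  have h0 : τ f = 0 := hinj (by
    rw [map_zero]
    exact (AlgHom.congr_fun hψτ f).trans (Ideal.Quotient.eq_zero_iff_mem.2 hf))
  have h := AlgHom.congr_fun hI f
  rw [AlgHom.comp_apply, AlgHom.comp_apply, h0, map_zero, map_zero] at h
  exact Ideal.Quotient.eq_zero_iff_mem.1 h.symm
where
  injective_of_dim' {R S : Type u} [CommRing R] [IsDomain R] [CommRing S] (π : R →+* S)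
      (hπ : Function.Surjective π) (m : ℕ) (hR : ringKrullDim R = m) (hS : (m : WithBot ℕ∞) ≤ ringKrullDim S) :
      Function.Injective π := by
    rw [injective_iff_map_eq_zero]
    intro x hx
    by_contra hne
    have h1 := ringKrullDim_quotient_succ_le_of_nonZeroDivisor (mem_nonZeroDivisors_of_ne_zero hne)
    have h2 : ringKrullDim S ≤ ringKrullDim (R ⧸ Ideal.span {x}) :=
      ringKrullDim_le_of_surjective
        (Ideal.Quotient.lift (Ideal.span {x}) π fun a ha => by
          obtain ⟨b, rfl⟩ := Ideal.mem_span_singleton'.1 ha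
          rw [map_mul, hx, mul_zero])
        (Ideal.Quotient.lift_surjective_of_surjective _ _ hπ)
    have h3 : ((m + 1 : ℕ) : WithBot ℕ∞) ≤ (m : WithBot ℕ∞) := by
      rw [Nat.cast_add, Nat.cast_one]
      exact (add_le_add (hS.trans h2) le_rfl).trans (h1.trans hR.le)
    have : m + 1 ≤ m := by exact_mod_cast h3
    omega

theorem isEtaleAt_iff (p : Ideal A) [p.IsPrime] (r : ℕ)
    (hn : FlatMor.localDim (PrimeSpectrum A) ⟨p, inferInstance⟩ = (n : WithBot ℕ∞))
    (hr : ringKrullDim (Localization.AtPrime p) = (r : WithBot ℕ∞))
    (hg : ∀ i : Fin n, (i : ℕ) < r → algebraMap (MvPolynomial (Fin n) k) A (MvPolynomial.X i) ∈ p) :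
    Algebra.IsEtaleAt (MvPolynomial (Fin n) k) p ↔
      Ideal.span ((fun i : Fin n =>
          algebraMap A (Localization.AtPrime p) (algebraMap (MvPolynomial (Fin n) k) A (MvPolynomial.X i))) ''
            {i : Fin n | (i : ℕ) < r}) = IsLocalRing.maximalIdeal (Localization.AtPrime p) ∧
        Submodule.span p.ResidueField ((fun i : Fin n =>
          KaehlerDifferential.D k p.ResidueField
            (IsLocalRing.residue (Localization.AtPrime p)
              (algebraMap A (Localization.AtPrime p) (algebraMap (MvPolynomial (Fin n) k) A (MvPolynomial.X i))))) ''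
            {i : Fin n | r ≤ (i : ℕ)}) = ⊤ := by
  let P := MvPolynomial (Fin n) k
  let L := Localization.AtPrime p
  let K := p.ResidueField
  let pp := p.comap (algebraMap P A)
  haveI : Algebra.FiniteType P A := Algebra.FiniteType.of_restrictScalars_finiteType k P A
  obtain ⟨hrn, htr⟩ := trdeg_of_localDim (k := k) p hn hr
  haveI : p.LiesOver pp := ⟨rfl⟩
  let := Localization.AtPrime.algebraOfLiesOver pp p
  have hres : ∀ i : Fin n, residue (Localization.AtPrime p)
      (algebraMap A (Localization.AtPrime p) (algebraMap (MvPolynomial (Fin n) k) A (X i))) =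
      algebraMap (MvPolynomial (Fin n) k) p.ResidueField (X i) := fun i => by
    show algebraMap L K (algebraMap A L (algebraMap P A (X i))) = _
    rw [← IsScalarTower.algebraMap_apply, ← IsScalarTower.algebraMap_apply]
  have hzero : ∀ i : Fin n, (i : ℕ) < r → algebraMap P K (X i) = 0 := fun i hi => by
    rw [IsScalarTower.algebraMap_apply P A K, Ideal.algebraMap_residueField_eq_zero]
    exact hg i hi
  rw [Set.image_congr fun i (_ : i ∈ {i : Fin n | r ≤ (i : ℕ)}) => congrArg (D k p.ResidueField) (hres i)]
  constructor
  · intro hE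
    haveI : Algebra.FormallyEtale P L := hE
    haveI : Algebra.IsUnramifiedAt P p := inferInstanceAs (Algebra.FormallyUnramified P L)
    have hspan : pp = Ideal.span (X '' {i : Fin n | (i : ℕ) < r}) :=
      eq_span_of_trdeg hrn pp hg (by rw [trdeg_comap_eq p, htr])
    have hmap := ((Algebra.isUnramifiedAt_iff_map_eq P pp p).1 inferInstance).2
    refine ⟨?_, ?_⟩
    · rw [← hmap, hspan, Ideal.map_span, Set.image_image]
      exact congrArg Ideal.span (Set.image_congr fun i _ => (IsScalarTower.algebraMap_apply P A L (X i)).symm)
    · rw [eq_top_iff, ← span_D_residueField_range (k := k) (n := n) p, Submodule.span_le]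
      rintro _ ⟨i, rfl⟩
      by_cases hi : (i : ℕ) < r
      · show D k K (algebraMap P K (X i)) ∈ _
        rw [hzero i hi, map_zero]
        exact zero_mem _
      · exact Submodule.subset_span ⟨i, show r ≤ (i : ℕ) by omega, rfl⟩
  · rintro ⟨hmax, hD⟩
    haveI : Algebra.IsUnramifiedAt P p := by
      rw [Algebra.isUnramifiedAt_iff_map_eq P pp p]
      constructor
      · haveI : Algebra.FormallyUnramified P K := by
          constructor
          rw [← Submodule.subsingleton_iff (R := K), ← subsingleton_iff_bot_eq_top, eq_comm]
          have hsurj := KaehlerDifferential.map_surjective_of_surjective k P K K Function.surjective_id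
          rw [← LinearMap.range_eq_top.2 hsurj, LinearMap.range_eq_map, ← hD, Submodule.map_span,
            Submodule.span_eq_bot]
          rintro _ ⟨_, ⟨i, -, rfl⟩, rfl⟩
          rw [KaehlerDifferential.map_D]
          exact Derivation.map_algebraMap _ _
        haveI : Algebra.FormallyUnramified pp.ResidueField K :=
          Algebra.FormallyUnramified.of_restrictScalars P _ _
        haveI : Algebra.EssFiniteType k K := Algebra.EssFiniteType.comp k A K
        haveI : Algebra.EssFiniteType P K := Algebra.EssFiniteType.of_comp k P K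
        haveI : Algebra.EssFiniteType pp.ResidueField K := Algebra.EssFiniteType.of_comp P _ _
        exact Algebra.FormallyUnramified.isSeparable _ _
      · refine le_antisymm ?_ ?_
        · rw [← Localization.AtPrime.map_eq_maximalIdeal, IsScalarTower.algebraMap_eq P A L, ← Ideal.map_map]
          exact Ideal.map_mono Ideal.map_comap_le
        · rw [← hmax, Ideal.span_le]
          rintro _ ⟨i, hi, rfl⟩
          show algebraMap A L (algebraMap P A (X i)) ∈ pp.map (algebraMap P L)
          rw [← IsScalarTower.algebraMap_apply]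
          exact Ideal.mem_map_of_mem _ (show algebraMap P A (X i) ∈ p from hg i hi)
    obtain ⟨-, hP⟩ := ringKrullDim_atPrime_mvPolynomial (k := k) pp ((trdeg_comap_eq p).trans htr)
    rw [show n - (n - r) = r by omega] at hP
    exact isEtaleAt_of_isUnramifiedAt_of_dim P A p r hP hr.ge

end Ext

/-- A field extension whose differentials need no more generators than its transcendence degree is
geometrically reduced. -/
theorem isGeometricallyReduced_of_span_D (k L : Type u) [Field k] [Field L] [Algebra k L]
    [Algebra.EssFiniteType k L] {ι : Type u} [Finite ι] (z : ι → L) (hle : Cardinal.mk ι ≤ Algebra.trdeg k L)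
    (hspan : Submodule.span L (Set.range fun i => D k L (z i)) = ⊤) :
    Algebra.IsGeometricallyReduced k L := by
  let F := IntermediateField.adjoin k (Set.range z)
  haveI : Algebra.EssFiniteType F L := Algebra.EssFiniteType.of_comp k F L
  haveI : Algebra.FormallyUnramified F L := by
    constructor
    rw [← Submodule.subsingleton_iff (R := L), ← subsingleton_iff_bot_eq_top, eq_comm]
    have hsurj := KaehlerDifferential.map_surjective_of_surjective k F L L Function.surjective_id
    rw [← LinearMap.range_eq_top.2 hsurj, LinearMap.range_eq_map, ← hspan, Submodule.map_span,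
      Submodule.span_eq_bot]
    rintro _ ⟨_, ⟨i, rfl⟩, rfl⟩
    rw [KaehlerDifferential.map_D]
    exact Derivation.map_algebraMap (D F L) (⟨z i, IntermediateField.subset_adjoin k _ ⟨i, rfl⟩⟩ : F)
  haveI : Algebra.IsSeparable F L := Algebra.FormallyUnramified.isSeparable F L
  haveI : Algebra.IsAlgebraic (Algebra.adjoin k (Set.range z)) L :=
    ⟨fun x => IntermediateField.isAlgebraic_adjoin_iff.1 (Algebra.IsAlgebraic.isAlgebraic (R := F) x)⟩
  have hz : IsTranscendenceBasis k z := Algebra.IsAlgebraic.isTranscendenceBasis_of_le_trdeg_of_finite k z hle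
  haveI : Algebra.FormallySmooth k F := Algebra.FormallySmooth.of_equiv hz.1.aevalEquivField
  haveI : Algebra.FormallyEtale F L := Algebra.FormallyEtale.of_isSeparable F L
  exact (S2451.result (k := k) (K := L)).1 (Algebra.FormallySmooth.comp k F L)

/-- A separable finitely generated extension has a basis of exact differentials of size the
transcendence degree. -/
theorem exists_span_D_of_isGeometricallyReduced (k L : Type u) [Field k] [Field L] [Algebra k L]
    [Algebra.EssFiniteType k L] [Algebra.IsGeometricallyReduced k L] (t : ℕ)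
    (ht : Algebra.trdeg k L = (t : Cardinal)) :
    ∃ z : Fin t → L, Submodule.span L (Set.range fun i => D k L (z i)) = ⊤ := by
  obtain ⟨s, hs, hsep⟩ := RegLoc6.exists_separating_transcendence k L
  have hc : s.card = t := by
    have := hs.cardinalMk_eq_trdeg
    rw [Cardinal.mk_coe_finset, ht] at this
    exact_mod_cast this
  let e : Fin t ≃ s := (finCongr hc.symm).trans s.equivFin.symm
  refine ⟨fun i => (e i : L), ?_⟩
  have hfg : ∃ w : Finset L, IntermediateField.adjoin k (w : Set L) = ⊤ :=
    IntermediateField.fg_top_iff.2 inferInstance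
  let F := IntermediateField.adjoin k (s : Set L)
  haveI : Algebra.IsSeparable F L := hsep
  haveI : Algebra.EssFiniteType F L := Algebra.EssFiniteType.of_comp k F L
  have hsurj : Function.Surjective (KaehlerDifferential.mapBaseChange k F L) := fun x =>
    haveI : Algebra.FormallyUnramified F L := Algebra.FormallyUnramified.of_isSeparable F L
    (KaehlerDifferential.exact_mapBaseChange_map k F L x).1 (Subsingleton.elim _ _)
  let S := Submodule.span L (Set.range fun i => D k L (e i : L))
  show S = ⊤
  -- the derivation modulo `S` kills the transcendence basis, hence its field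
  let δ : Derivation k L (Ω[L⁄k] ⧸ S) := S.mkQ.compDer (D k L)
  have hδ : ∀ x ∈ (s : Set L), δ x = 0 := fun x hx => by
    show S.mkQ (D k L x) = 0
    rw [Submodule.mkQ_apply, Submodule.Quotient.mk_eq_zero]
    obtain ⟨i, hi⟩ := e.surjective ⟨x, hx⟩
    exact Submodule.subset_span ⟨i, by show D k L (e i : L) = _; rw [hi]⟩
  have hF : ∀ x ∈ F, δ x = 0 := fun x hx => by
    induction hx using IntermediateField.adjoin_induction with
    | mem x hx => exact hδ x hx
    | algebraMap c => exact δ.map_algebraMap c
    | add x y _ _ hx hy => rw [map_add, hx, hy, add_zero]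
    | inv x _ hx => rw [Derivation.leibniz_inv, hx, smul_zero]
    | mul x y _ _ hx hy => rw [Derivation.leibniz, hx, hy, smul_zero, smul_zero, add_zero]
  rw [eq_top_iff]
  rintro w -
  obtain ⟨y, rfl⟩ := hsurj w
  induction y using TensorProduct.induction_on with
  | zero => rw [map_zero]; exact zero_mem _
  | add a b ha hb => rw [map_add]; exact add_mem ha hb
  | tmul c w =>
    rw [KaehlerDifferential.mapBaseChange_tmul]
    refine Submodule.smul_mem _ _ ?_
    have hw : w ∈ Submodule.span F (Set.range (D k F)) := by
      rw [KaehlerDifferential.span_range_derivation]; trivial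
    induction hw using Submodule.span_induction with
    | mem z hz =>
      obtain ⟨a, rfl⟩ := hz
      rw [KaehlerDifferential.map_D]
      have h := hF (a : L) a.2
      change S.mkQ (D k L (a : L)) = 0 at h
      rwa [Submodule.mkQ_apply, Submodule.Quotient.mk_eq_zero] at h
    | zero => rw [map_zero]; exact zero_mem _
    | add a b _ _ ha hb => rw [map_add]; exact add_mem ha hb
    | smul a z _ hz =>
      rw [map_smul, ← IsScalarTower.algebraMap_smul L a]
      exact Submodule.smul_mem _ _ hz

/-- Regular with separable residue field, in terms of `n` local elements. -/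
theorem regular_separable_iff (k A : Type u) [Field k] [CommRing A] [Algebra k A] [Algebra.FiniteType k A]
    (n r : ℕ) (p : Ideal A) [p.IsPrime]
    (hn : FlatMor.localDim (PrimeSpectrum A) ⟨p, inferInstance⟩ = (n : WithBot ℕ∞))
    (hr : ringKrullDim (Localization.AtPrime p) = (r : WithBot ℕ∞)) :
    (IsRegularLocalRing (Localization.AtPrime p) ∧ Algebra.IsGeometricallyReduced k p.ResidueField) ↔
      ∃ g : Fin n → Localization.AtPrime p,
        Ideal.span (g '' {i : Fin n | (i : ℕ) < r}) = IsLocalRing.maximalIdeal (Localization.AtPrime p) ∧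
          Submodule.span p.ResidueField ((fun i : Fin n =>
            KaehlerDifferential.D k p.ResidueField (IsLocalRing.residue (Localization.AtPrime p) (g i))) ''
              {i : Fin n | r ≤ (i : ℕ)}) = ⊤ := by
  haveI : IsNoetherianRing A := Algebra.FiniteType.isNoetherianRing k A
  haveI : IsNoetherianRing (Localization.AtPrime p) :=
    IsLocalization.isNoetherianRing p.primeCompl _ inferInstance
  haveI : Algebra.EssFiniteType k p.ResidueField := Algebra.EssFiniteType.comp k A _
  obtain ⟨hrn, htr⟩ := trdeg_of_localDim (k := k) p hn hr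
  constructor
  · rintro ⟨hreg, hsep⟩
    haveI := hreg
    haveI := hsep
    have hsf : Submodule.spanFinrank (maximalIdeal (Localization.AtPrime p)) = r := by
      have h := (isRegularLocalRing_iff (Localization.AtPrime p)).1 hreg
      rw [hr] at h
      exact_mod_cast h
    obtain ⟨w, hw, hspan⟩ := Submodule.FG.exists_span_finset_card_eq_spanFinrank
      (IsNoetherian.noetherian (maximalIdeal (Localization.AtPrime p)))
    let ew := w.equivFinOfCardEq (hw.trans hsf)
    let a : Fin r → Localization.AtPrime p := fun i => (ew.symm i : Localization.AtPrime p)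
    have ha : Ideal.span (Set.range a) = maximalIdeal (Localization.AtPrime p) := by
      rw [show Set.range a = (w : Set (Localization.AtPrime p)) from
        (ew.symm.surjective.range_comp ((↑) : w → Localization.AtPrime p)).trans Subtype.range_coe]
      exact hspan
    obtain ⟨z, hz⟩ := exists_span_D_of_isGeometricallyReduced k p.ResidueField (n - r) htr
    choose z' hz' using fun j => IsLocalRing.residue_surjective (R := Localization.AtPrime p) (z j)
    refine ⟨fun i => if h : (i : ℕ) < r then a ⟨i, by omega⟩ else z' ⟨i - r, by omega⟩, ?_, ?_⟩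
    · refine Eq.trans ?_ ha
      show Ideal.span _ = Ideal.span _
      congr 1
      ext w
      constructor
      · rintro ⟨i, hi, rfl⟩
        simp only [dif_pos (show (i : ℕ) < r from hi)]
        exact ⟨_, rfl⟩
      · rintro ⟨j, rfl⟩
        have := j.2
        exact ⟨⟨j, by omega⟩, show (j : ℕ) < r by omega, by simp [show (j : ℕ) < r by omega]⟩
    · rw [eq_top_iff, ← hz, Submodule.span_le]
      rintro _ ⟨j, rfl⟩
      have := j.2
      refine Submodule.subset_span ⟨⟨r + j, by omega⟩, show r ≤ r + (j : ℕ) by omega, ?_⟩
      simp only [dif_neg (show ¬ r + (j : ℕ) < r by omega)]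
      rw [show (⟨r + (j : ℕ) - r, _⟩ : Fin (n - r)) = j from Fin.ext (show r + (j : ℕ) - r = j by omega), hz' j]
  · rintro ⟨g, hmax, hD⟩
    refine ⟨?_, ?_⟩
    · refine IsRegularLocalRing.of_spanFinrank_maximalIdeal_le _ ?_
      rw [hr, ← hmax]
      have h1 := Submodule.spanFinrank_span_le_ncard_of_finite (R := Localization.AtPrime p)
        ((Set.toFinite {i : Fin n | (i : ℕ) < r}).image g)
      have h2 : (g '' {i : Fin n | (i : ℕ) < r}).ncard ≤ r := by
        refine (Set.ncard_image_le (Set.toFinite _)).trans ?_
        refine (Set.ncard_le_ncard_of_injOn (s := {i : Fin n | (i : ℕ) < r}) (t := Set.Iio r)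
          (fun i : Fin n => (i : ℕ)) (fun i hi => hi) (fun a _ b _ h => Fin.ext h)).trans (by simp)
      exact_mod_cast h1.trans h2
    · let T := {i : Fin n // r ≤ (i : ℕ)}
      refine isGeometricallyReduced_of_span_D k p.ResidueField
        (fun i : ULift.{u} T => residue _ (g i.down.1)) ?_ ?_
      · rw [htr, Cardinal.mk_fintype, Fintype.card_ulift]
        have h3 : Fintype.card T ≤ n - r := by
          refine (Fintype.card_le_of_injective (fun i : T => (⟨i.1 - r, by have := i.1.2; have := i.2; omega⟩ : Fin (n - r))) ?_).trans_eq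
            (Fintype.card_fin _)
          intro a b h
          have := a.2
          have := b.2
          have h' : (a.1 : ℕ) - r = (b.1 : ℕ) - r := congrArg Fin.val h
          exact Subtype.ext (Fin.ext (by omega))
        exact_mod_cast h3
      · refine Eq.trans ?_ hD
        congr 1
        ext w
        constructor
        · rintro ⟨⟨i, hi⟩, rfl⟩; exact ⟨i, hi, rfl⟩
        · rintro ⟨i, hi, rfl⟩; exact ⟨⟨i, hi⟩, rfl⟩

end Groth.Agent.CIntLib
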