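import Groth.Agent.QCoh.Support
import Groth.Agent.QCoh.Tilde
import Groth.Agent.QCoh.Sections

/-!
# Isomorphisms of quasi-coherent modules, tested on an affine cover

A copy with small imports of `Nrm34.isIso_of_bijective_cover`.
-/

set_option autoImplicit false

universe u

open CategoryTheory CategoryTheory.Limits AlgebraicGeometry TopologicalSpace Opposite

namespace Groth.Agent.CIntLib

/-- A morphism of quasi-coherent modules bijective on the members of an affine cover is an
isomorphism. -/
theorem isIso_of_bijective_affine_cover {Z : Scheme.{u}} {M N : Z.Modules} (hM : Coh.IsQCoh M)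
    (hN : Coh.IsQCoh N) (φ : M ⟶ N) (W : Z → Z.Opens)
    (hW : ∀ z, IsAffineOpen (W z)) (hcov : ∀ z, z ∈ W z)
    (h : ∀ z, Function.Bijective (φ.app (W z))) : IsIso φ := by
  have hz : ∀ {P : Z.Modules}, Coh.IsQCoh P → (∀ z (s : Γ(P, W z)), s = 0) → IsZero P :=
    fun hP hP0 => QCoh.isZero_of_cover hP W hW (fun z => ⟨z, hcov z⟩)
      fun z => subsingleton_of_forall_eq 0 (hP0 z)
  have : Mono φ := by
    refine Preadditive.mono_of_kernel_zero ?_
    refine IsZero.eq_of_src (hz (QCoh.isQCoh_kernel hM hN φ) fun z s => ?_) _ _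
    refine QCoh.app_injective (kernel.ι φ) (W z) ((h z).1 ?_)
    have := congrArg (fun ψ => Scheme.Modules.Hom.app ψ (W z) s) (kernel.condition φ)
    rw [map_zero, map_zero]
    exact this
  have : Epi φ := by
    refine Preadditive.epi_of_cokernel_zero ?_
    refine IsZero.eq_of_tgt (hz (QCoh.isQCoh_cokernel hM hN φ) fun z s => ?_) _ _
    obtain ⟨y, rfl⟩ := QCoh.app_surjective_of_epi hN (QCoh.isQCoh_cokernel hM hN φ)
      (cokernel.π φ) (hW z) s
    obtain ⟨w, rfl⟩ := (h z).2 y
    exact congrArg (fun ψ => Scheme.Modules.Hom.app ψ (W z) w) (cokernel.condition φ)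
  exact isIso_of_mono_of_epi φ

end Groth.Agent.CIntLib
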