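import Groth.Agent.DRHyp.ExtSheaf
import Groth.Agent.ArtFunLib.FamilyHom
import Groth.Agent.CIntLib.IsoCover
import Groth.Agent.Synt29.ExtBC

/-!
# Exterior powers commute with inverse images

`IsExtPow p E L` pulls back along any morphism of schemes, for quasi-coherent `E`.
-/

set_option autoImplicit false
set_option linter.style.haveILetI false

universe u

open CategoryTheory CategoryTheory.Limits AlgebraicGeometry Opposite TopologicalSpace exteriorPower
open scoped TensorProduct
open Groth.Agent.DRHyp Groth.Agent.DRHyp.ExtSheaf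
open Groth.Agent.LogModGeo (rs rf rs_rs rf_rf rs_refl rf_refl rs_smul)

namespace Groth.Agent.CIntLib

noncomputable section

variable {X X' : Scheme.{u}} (g : X' ⟶ X) {E L : X.Modules} (p : ℕ)

/-- `IsExtPow` only depends on the power up to isomorphism. -/
theorem isExtPow_of_iso {L' : X.Modules} (h : ExtPow.IsExtPow p E L) (i : L ≅ L') :
    ExtPow.IsExtPow p E L' := by
  obtain ⟨φ, hφ⟩ := h
  let e : ∀ U : X.affineOpens, Γ(L', U.1) ≃ₗ[Γ(X, U.1)] Γ(L, U.1) := fun U =>
    { toFun := fun x => i.inv.app U.1 x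
      map_add' := map_add _
      map_smul' := fun r x => Scheme.Modules.Hom.app_smul _ _ _
      invFun := fun x => i.hom.app U.1 x
      left_inv := fun x => show (i.inv ≫ i.hom).app U.1 x = x by rw [i.inv_hom_id]; rfl
      right_inv := fun x => show (i.hom ≫ i.inv).app U.1 x = x by rw [i.hom_inv_id]; rfl }
  refine ⟨fun U => (e U).trans (φ U), fun U V h v => ?_⟩
  refine (QCoh.map_app_comm i.hom (homOfLE h) ((φ U).symm (ιMulti _ p v))).symm.trans ?_
  exact congrArg (fun z => i.hom.app V.1 z) (hφ U V h v)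

/-- `IsExtPow` only depends on the module up to isomorphism. -/
theorem isExtPow_of_iso_left {E' : X.Modules} (h : ExtPow.IsExtPow p E L) (i : E ≅ E') :
    ExtPow.IsExtPow p E' L := by
  obtain ⟨φ, hφ⟩ := h
  let e : ∀ U : X.affineOpens, Γ(E, U.1) ≃ₗ[Γ(X, U.1)] Γ(E', U.1) := fun U =>
    { toFun := fun x => i.hom.app U.1 x
      map_add' := map_add _
      map_smul' := fun r x => Scheme.Modules.Hom.app_smul _ _ _
      invFun := fun x => i.inv.app U.1 x
      left_inv := fun x => show (i.hom ≫ i.inv).app U.1 x = x by rw [i.hom_inv_id]; rfl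
      right_inv := fun x => show (i.inv ≫ i.hom).app U.1 x = x by rw [i.inv_hom_id]; rfl }
  let ψ : ∀ U : X.affineOpens, T E p U.1 ≃ₗ[Γ(X, U.1)] T E' p U.1 := fun U =>
    LinearEquiv.ofLinear (exteriorPower.map p (e U).toLinearMap) (exteriorPower.map p (e U).symm.toLinearMap)
      (by rw [← exteriorPower.map_comp, show (e U).toLinearMap ∘ₗ (e U).symm.toLinearMap = LinearMap.id from
        LinearMap.ext fun x => (e U).apply_symm_apply x, exteriorPower.map_id])
      (by rw [← exteriorPower.map_comp, show (e U).symm.toLinearMap ∘ₗ (e U).toLinearMap = LinearMap.id from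
        LinearMap.ext fun x => (e U).symm_apply_apply x, exteriorPower.map_id])
  refine ⟨fun U => (φ U).trans (ψ U), fun U V hVU v => ?_⟩
  have hs : ∀ (W : X.affineOpens) (w : Fin p → Γ(E', W.1)),
      ((φ W).trans (ψ W)).symm (ιMulti _ p w) = (φ W).symm (ιMulti _ p fun j => (e W).symm (w j)) := fun W w =>
    congrArg (φ W).symm (exteriorPower.map_apply_ιMulti (e W).symm.toLinearMap w)
  refine (congrArg _ (hs U v)).trans ((hφ U V hVU _).trans (Eq.trans ?_ (hs V _).symm))
  exact congrArg (fun w => (φ V).symm (ιMulti _ p w))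
    (funext fun j => (QCoh.map_app_comm i.inv (homOfLE hVU) (v j)).symm)

/-- The inverse image of sections over an open inside the preimage, with its semilinearity. -/
def pullE (E : X.Modules) {U : X.Opens} {V : X'.Opens} (hle : V ≤ g ⁻¹ᵁ U) :
    Γ(E, U) →+ Γ((Scheme.Modules.pullback g).obj E, V) :=
  AddMonoidHom.mk' (QCoh.pullSec g E hle) (QCoh.pullSec_add g E hle)

theorem pullE_smul (E : X.Modules) {U : X.Opens} {V : X'.Opens} (hle : V ≤ g ⁻¹ᵁ U)
    (a : Γ(X, U)) (m : Γ(E, U)) :
    pullE g E hle (a • m) = (g.appLE U V hle).hom a • pullE g E hle m :=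
  QCoh.pullSec_smul g E hle a m

theorem rs_pullE (E : X.Modules) {U : X.Opens} {V W : X'.Opens} (hle : V ≤ g ⁻¹ᵁ U) (h : W ≤ V)
    (m : Γ(E, U)) :
    rs ((Scheme.Modules.pullback g).obj E) h (pullE g E hle m) = pullE g E (h.trans hle) m :=
  QCoh.map_map (homOfLE h) (homOfLE hle) _

theorem pullE_rs (E : X.Modules) {U U₁ : X.Opens} {V : X'.Opens} (h : U₁ ≤ U) (hle : V ≤ g ⁻¹ᵁ U₁)
    (m : Γ(E, U)) :
    pullE g E hle (rs E h m) = pullE g E (hle.trans fun _ hx => h hx) m := by
  let η := ((Scheme.Modules.pullbackPushforwardAdjunction g).unit.app E)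
  show ((Scheme.Modules.pullback g).obj E).presheaf.map (homOfLE hle).op
      (η.app U₁ (E.presheaf.map (homOfLE h).op m)) = _
  exact (congrArg (((Scheme.Modules.pullback g).obj E).presheaf.map (homOfLE hle).op)
    (QCoh.map_app_comm η (homOfLE h) m)).trans
      (QCoh.map_map (M := (Scheme.Modules.pullback g).obj E) _ _ _)

/-- Exterior powers of sections, pulled back. -/
def pullT (E : X.Modules) {U : X.Opens} {V : X'.Opens} (hle : V ≤ g ⁻¹ᵁ U) :
    T E p U →+ T ((Scheme.Modules.pullback g).obj E) p V :=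
  Wedge.semi (g.appLE U V hle).hom (pullE g E hle) (pullE_smul g E hle) p

theorem pullT_smul (E : X.Modules) {U : X.Opens} {V : X'.Opens} (hle : V ≤ g ⁻¹ᵁ U)
    (a : Γ(X, U)) (x : T E p U) :
    pullT g p E hle (a • x) = (g.appLE U V hle).hom a • pullT g p E hle x :=
  Wedge.semi_smul _ _ _ a x

theorem pullT_ιMulti (E : X.Modules) {U : X.Opens} {V : X'.Opens} (hle : V ≤ g ⁻¹ᵁ U)
    (v : Fin p → Γ(E, U)) :
    pullT g p E hle (ιMulti _ p v) = ιMulti _ p (fun i => pullE g E hle (v i)) :=
  Wedge.semi_ιMulti _ _ _ v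

theorem r_pullT (E : X.Modules) {U : X.Opens} {V W : X'.Opens} (hle : V ≤ g ⁻¹ᵁ U) (h : W ≤ V)
    (x : T E p U) :
    r ((Scheme.Modules.pullback g).obj E) p h (pullT g p E hle x) = pullT g p E (h.trans hle) x := by
  induction x using Wedge.induct with
  | h0 => simp only [map_zero]
  | hadd x y hx hy => simp only [map_add, hx, hy]
  | hgen a v =>
    rw [pullT_smul, pullT_smul, r_smul, pullT_ιMulti, pullT_ιMulti, r_ιMulti]
    simp only [rs_pullE]
    exact congrArg (fun (c : Γ(X', W)) => c • ιMulti Γ(X', W) p (fun i => pullE g E (h.trans hle) (v i)))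
      (congrArg (fun f => f.hom a) (g.appLE_map hle (homOfLE h).op))

theorem pullT_r (E : X.Modules) {U U₁ : X.Opens} {V : X'.Opens} (h : U₁ ≤ U) (hle : V ≤ g ⁻¹ᵁ U₁)
    (x : T E p U) :
    pullT g p E hle (r E p h x) = pullT g p E (hle.trans fun _ hx => h hx) x := by
  induction x using Wedge.induct with
  | h0 => simp only [map_zero]
  | hadd x y hx hy => simp only [map_add, hx, hy]
  | hgen a v =>
    rw [r_smul, pullT_smul, pullT_smul, r_ιMulti, pullT_ιMulti, pullT_ιMulti]
    simp only [pullE_rs]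
    exact congrArg (fun (c : Γ(X', V)) => c • ιMulti Γ(X', V) p
        (fun i => pullE g E (hle.trans fun _ hx => h hx) (v i)))
      (congrArg (fun f => f.hom a) (g.map_appLE hle (homOfLE h).op))

/-- Exterior powers commute with base change, for any base change. -/
theorem bijective_of_isBaseChange {A B M M' N N' : Type u} [CommRing A] [CommRing B] [Algebra A B]
    [AddCommGroup M] [Module A M] [AddCommGroup M'] [Module A M'] [Module B M'] [IsScalarTower A B M']
    [AddCommGroup N] [Module A N] [AddCommGroup N'] [Module A N'] [Module B N'] [IsScalarTower A B N']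
    {p : ℕ} {lM : M →ₗ[A] M'} (hM : IsBaseChange B lM) {lN : N →ₗ[A] N'} (hN : IsBaseChange B lN)
    (φ : N ≃ₗ[A] ↥(⋀[A]^p M)) (F : N' →ₗ[B] ↥(⋀[B]^p M'))
    (hF : ∀ v, F (lN (φ.symm (ιMulti A p v))) = ιMulti B p (fun i => lM (v i))) :
    Function.Bijective F := by
  let mM := exteriorPower.map p hM.equiv.toLinearMap
  have hmM : Function.Bijective mM :=
    ⟨exteriorPower.map_injective hM.equiv.symm.toLinearMap
      (LinearMap.ext fun x => hM.equiv.symm_apply_apply x),
      exteriorPower.map_surjective hM.equiv.surjective⟩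
  let G : B ⊗[A] N →ₗ[B] ↥(⋀[B]^p M') :=
    mM ∘ₗ Synt29.ExtBC.fwd A B M p ∘ₗ (LinearEquiv.baseChange A B N _ φ).toLinearMap
  have hG : Function.Bijective G :=
    hmM.comp ((Synt29.ExtBC.bijective_fwd p).comp (LinearEquiv.baseChange A B N _ φ).bijective)
  have key : ∀ (b : B) (z : ↥(⋀[A]^p M)), G (b ⊗ₜ[A] φ.symm z) = b • F (lN (φ.symm z)) := by
    intro b z
    induction z using Wedge.induct generalizing b with
    | h0 => simp
    | hadd x y hx hy =>
      simp only [map_add, TensorProduct.tmul_add, smul_add, hx, hy]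
    | hgen a v =>
      rw [map_smul, ← TensorProduct.smul_tmul, map_smul lN, ← algebraMap_smul B a (lN _),
        map_smul F, hF, smul_smul]
      show mM (Synt29.ExtBC.fwd A B M p (LinearEquiv.baseChange A B N _ φ ((a • b) ⊗ₜ[A] φ.symm (ιMulti A p v)))) = _
      rw [LinearEquiv.baseChange_tmul, LinearEquiv.apply_symm_apply, Synt29.ExtBC.fwd_tmul, map_smul,
        exteriorPower.map_apply_ιMulti, Algebra.smul_def, mul_comm]
      refine congrArg (fun w => (b * algebraMap A B a) • ιMulti B p w) (funext fun i => ?_)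
      exact (hM.equiv_tmul 1 (v i)).trans (one_smul _ _)
  have h : G = F ∘ₗ hN.equiv.toLinearMap := TensorProduct.AlgebraTensorModule.ext fun b n => by
    obtain ⟨z, rfl⟩ := φ.symm.surjective n
    rw [key, LinearMap.comp_apply, LinearEquiv.coe_coe, hN.equiv_tmul, map_smul]
  rw [h] at hG
  exact (Function.Bijective.of_comp_iff _ hN.equiv.bijective).1 hG

section main

variable (hE : Coh.IsQCoh E)

/-- The comparison, as a morphism to the direct image. -/
theorem exists_hom_push {φ : ∀ U : X.affineOpens, Γ(L, U.1) ≃ₗ[Γ(X, U.1)] T E p U.1}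
    (hφ : ∀ (U V : X.affineOpens) (h : V.1 ≤ U.1) (x : Γ(L, U.1)),
      φ V (rs L h x) = r E p h (φ U x)) :
    ∃ α : L ⟶ (Scheme.Modules.pushforward g).obj (mod (QCoh.isQCoh_pullback g hE) p),
      ∀ (U : X.affineOpens) (s : Γ(L, U.1)) (V : Aff (X := X') (g ⁻¹ᵁ U.1)),
        (show ↥(sect ((Scheme.Modules.pullback g).obj E) p (g ⁻¹ᵁ U.1)) from α.app U.1 s).1 V =
          pullT g p E V.2 (φ U s) := by
  let M := mod (QCoh.isQCoh_pullback g hE) p
  let f : ∀ U : X.affineOpens, Γ(L, U.1) →+ Γ((Scheme.Modules.pushforward g).obj M, U.1) := fun U =>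
    AddMonoidHom.mk' (fun s => (show ↥(sect ((Scheme.Modules.pullback g).obj E) p (g ⁻¹ᵁ U.1)) from
      ⟨fun V => pullT g p E V.2 (φ U s), fun V W h => r_pullT g p E V.2 h (φ U s)⟩)) fun s t =>
      Subtype.ext (funext fun V => (congrArg (pullT g p E V.2) (map_add (φ U) s t)).trans (map_add _ _ _))
  obtain ⟨α, hα⟩ := ArtFunLib.FamilyHom.exists_hom_of_family f (fun U W h s => by
    refine Subtype.ext (funext fun V => ?_)
    show pullT g p E _ (φ U s) = pullT g p E V.2 (φ W (rs L h s))
    rw [hφ U W h s, pullT_r]) (fun U a s => by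
    refine Subtype.ext (funext fun V => ?_)
    show pullT g p E V.2 (φ U (a • s)) = _
    rw [map_smul, pullT_smul]
    rfl)
  exact ⟨α, fun U s V => by rw [hα]; rfl⟩

include hE in
set_option maxHeartbeats 1000000 in
/-- **Exterior powers commute with inverse images.** -/
theorem isExtPow_pullback (hL : ExtPow.IsExtPow p E L) :
    ExtPow.IsExtPow p ((Scheme.Modules.pullback g).obj E) ((Scheme.Modules.pullback g).obj L) := by
  have hLq : Coh.IsQCoh L := isQCoh_of_isExtPow hE p hL
  obtain ⟨φ₀, hφ₀⟩ := hL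
  let φ : ∀ U : X.affineOpens, Γ(L, U.1) ≃ₗ[Γ(X, U.1)] T E p U.1 := fun U => φ₀ U
  have hφ : ∀ (U V : X.affineOpens) (h : V.1 ≤ U.1) (x : Γ(L, U.1)),
      φ V (rs L h x) = r E p h (φ U x) := by
    intro U V h x
    obtain ⟨z, rfl⟩ := (φ U).symm.surjective x
    rw [LinearEquiv.apply_symm_apply]
    induction z using Wedge.induct with
    | h0 => simp only [map_zero]
    | hadd x y hx hy => simp only [map_add, hx, hy]
    | hgen a v =>
      rw [map_smul, rs_smul, map_smul, r_smul, r_ιMulti]
      refine congrArg (fun z => rf h a • z) ((φ V).eq_symm_apply.1 ?_)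
      exact hφ₀ U V h v
  have hE' : Coh.IsQCoh ((Scheme.Modules.pullback g).obj E) := QCoh.isQCoh_pullback g hE
  have hM := isExtPow_mod hE' p
  obtain ⟨α, hα⟩ := exists_hom_push g p hE hφ
  let θ := ((Scheme.Modules.pullbackPushforwardAdjunction g).homEquiv L (mod hE' p)).symm α
  suffices IsIso θ from isExtPow_of_iso p hM (asIso θ).symm
  have key : ∀ z : X', ∃ W : X'.Opens, IsAffineOpen W ∧ z ∈ W ∧ Function.Bijective (θ.app W) := by
    intro z
    obtain ⟨_, ⟨U, hU, rfl⟩, hzU, -⟩ :=
      X.isBasis_affineOpens.exists_subset_of_mem_open (Set.mem_univ (g z)) isOpen_univ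
    obtain ⟨_, ⟨W, hW, rfl⟩, hzW, hle'⟩ :=
      X'.isBasis_affineOpens.exists_subset_of_mem_open (show z ∈ g ⁻¹ᵁ U from hzU) (g ⁻¹ᵁ U).2
    have hle : W ≤ g ⁻¹ᵁ U := hle'
    refine ⟨W, hW, hzW, ?_⟩
    let _ : Algebra Γ(X, U) Γ(X', W) := (g.appLE U W hle).hom.toAlgebra
    let _ : Module Γ(X, U) Γ((Scheme.Modules.pullback g).obj L, W) :=
      Module.compHom _ (g.appLE U W hle).hom
    haveI : IsScalarTower Γ(X, U) Γ(X', W) Γ((Scheme.Modules.pullback g).obj L, W) :=
      IsScalarTower.of_algebraMap_smul fun _ _ => rfl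
    let _ : Module Γ(X, U) Γ((Scheme.Modules.pullback g).obj E, W) :=
      Module.compHom _ (g.appLE U W hle).hom
    haveI : IsScalarTower Γ(X, U) Γ(X', W) Γ((Scheme.Modules.pullback g).obj E, W) :=
      IsScalarTower.of_algebraMap_smul fun _ _ => rfl
    let lL : Γ(L, U) →ₗ[Γ(X, U)] Γ((Scheme.Modules.pullback g).obj L, W) :=
      { toFun := pullE g L hle, map_add' := map_add _, map_smul' := pullE_smul g L hle }
    let lE : Γ(E, U) →ₗ[Γ(X, U)] Γ((Scheme.Modules.pullback g).obj E, W) :=
      { toFun := pullE g E hle, map_add' := map_add _, map_smul' := pullE_smul g E hle }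
    have hbL := QCoh.isBaseChange_pullback hU g hW hLq hle (fun _ => rfl) lL fun _ => rfl
    have hbE := QCoh.isBaseChange_pullback hU g hW hE hle (fun _ => rfl) lE fun _ => rfl
    -- `θ` on a generator
    have hgen : ∀ s : Γ(L, U),
        (show ↥(sect ((Scheme.Modules.pullback g).obj E) p W) from θ.app W (pullE g L hle s)).1
          ⟨⟨W, hW⟩, le_rfl⟩ = pullT g p E hle (φ ⟨U, hU⟩ s) := by
      intro s
      have h1 : θ.app W (pullE g L hle s) = (mod hE' p).presheaf.map (homOfLE hle).op (α.app U s) := by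
        refine (QCoh.map_app_comm θ (homOfLE hle) _).trans (congrArg ((mod hE' p).presheaf.map (homOfLE hle).op) ?_)
        have h2 := congrArg (fun ψ => Scheme.Modules.Hom.app ψ U s)
          ((Scheme.Modules.pullbackPushforwardAdjunction g).homEquiv L (mod hE' p) |>.apply_symm_apply α)
        simp only [Adjunction.homEquiv_unit] at h2
        exact h2
      rw [h1]
      exact hα ⟨U, hU⟩ s ⟨⟨W, hW⟩, hle⟩
    -- the base change
    let η : Γ(mod hE' p, W) → T ((Scheme.Modules.pullback g).obj E) p W := fun x =>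
      (show ↥(sect ((Scheme.Modules.pullback g).obj E) p W) from x).1 ⟨⟨W, hW⟩, le_rfl⟩
    have hη : Function.Bijective η := Function.bijective_iff_has_inverse.2
      ⟨fun t => (show ↥(sect ((Scheme.Modules.pullback g).obj E) p W) from
          ⟨fun V => r _ p V.2 t, fun V V' h => r_r _ p V.2 h t⟩),
        fun x => Subtype.ext (funext fun V =>
          (show ↥(sect ((Scheme.Modules.pullback g).obj E) p W) from x).2 ⟨⟨W, hW⟩, le_rfl⟩ V V.2),
        fun t => r_refl _ p t⟩
    let F : Γ((Scheme.Modules.pullback g).obj L, W) →ₗ[Γ(X', W)]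
        T ((Scheme.Modules.pullback g).obj E) p W :=
      { toFun := fun x => η (θ.app W x)
        map_add' := fun x y => (congrArg η (map_add (θ.app W).hom x y)).trans rfl
        map_smul' := fun c x => (congrArg η (Scheme.Modules.Hom.app_smul θ c x)).trans
          (congrArg (fun (b : Γ(X', W)) => b • η (θ.app W x)) (rf_refl c)) }
    have hcomp : Function.Bijective F := bijective_of_isBaseChange hbE hbL (φ ⟨U, hU⟩) F fun v => by
      refine (hgen ((φ ⟨U, hU⟩).symm (ιMulti _ p v))).trans ?_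
      rw [LinearEquiv.apply_symm_apply, pullT_ιMulti]
      rfl
    exact (Function.Bijective.of_comp_iff' hη _).1 hcomp
  choose W hW hzW hb using key
  exact isIso_of_bijective_affine_cover (QCoh.isQCoh_pullback g hLq) (isQCoh_of_isExtPow hE' p hM) θ W hW hzW hb

end main

end

end Groth.Agent.CIntLib
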