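import Groth.Agent.S2062
import Groth.Agent.FibFlat.Core
import Groth.Agent.Triage.CMMor
import Groth.Agent.LC.DepthFlatFibre
import Groth.Agent.LC.ExtDim
import Groth.Agent.NeronA.EtaleDepth
import Groth.Agent.FlatLoc6.DimEq
import Groth.Agent.FibDim.Basic
import Groth.Agent.LC.GorFlat
import Groth.Prelude.Def_CInt

/-!
# Depth and dimension of the local rings of fibres
-/

set_option autoImplicit false
set_option linter.style.haveILetI false
set_option backward.isDefEq.respectTransparency.types false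

universe u

open AlgebraicGeometry CategoryTheory CategoryTheory.Limits IsLocalRing TensorProduct
open Groth.Agent.FibFlat (sm)

namespace Groth.Agent.CIntLib

/-! ## Algebra -/

theorem dim_quot_le_of_flat {R S : Type u} [CommRing R] [CommRing S] [IsLocalRing R] [IsLocalRing S]
    [IsNoetherianRing R] [IsNoetherianRing S] (φ : R →+* S) [IsLocalHom φ] (I : Ideal R) (J : Ideal S)
    (hJ : J ≤ maximalIdeal S) (hle : I ≤ J.comap φ) (hfl : (Ideal.quotientMap J φ hle).Flat) :
    ringKrullDim (R ⧸ I) ≤ ringKrullDim (S ⧸ J) := by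
  have hI : I ≤ maximalIdeal R :=
    hle.trans ((Ideal.comap_mono hJ).trans (maximalIdeal_comap φ).le)
  haveI : Nontrivial (R ⧸ I) := Ideal.Quotient.nontrivial_iff.2
    (ne_top_of_le_ne_top (maximalIdeal.isMaximal R).ne_top hI)
  haveI : Nontrivial (S ⧸ J) := Ideal.Quotient.nontrivial_iff.2
    (ne_top_of_le_ne_top (maximalIdeal.isMaximal S).ne_top hJ)
  haveI : IsLocalRing (R ⧸ I) := IsLocalRing.of_surjective' _ Ideal.Quotient.mk_surjective
  haveI : IsLocalRing (S ⧸ J) := IsLocalRing.of_surjective' _ Ideal.Quotient.mk_surjective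
  letI := (Ideal.quotientMap J φ hle).toAlgebra
  haveI : Module.Flat (R ⧸ I) (S ⧸ J) := hfl
  haveI : IsLocalHom (algebraMap (R ⧸ I) (S ⧸ J)) := by
    constructor
    intro b hb
    obtain ⟨b, rfl⟩ := Ideal.Quotient.mk_surjective b
    have hb' : IsUnit (Ideal.Quotient.mk J (φ b)) := hb
    haveI : IsLocalHom (Ideal.Quotient.mk J) := IsLocalHom.of_surjective _ Ideal.Quotient.mk_surjective
    exact (isUnit_of_map_unit φ b (isUnit_of_map_unit _ _ hb')).map _
  haveI : (maximalIdeal (S ⧸ J)).LiesOver (maximalIdeal (R ⧸ I)) :=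
    ⟨(maximalIdeal_comap (algebraMap (R ⧸ I) (S ⧸ J))).symm⟩
  rw [← maximalIdeal_height_eq_ringKrullDim, ← maximalIdeal_height_eq_ringKrullDim,
    Ideal.height_eq_height_add_of_liesOver_of_hasGoingDown (maximalIdeal (R ⧸ I)) (maximalIdeal (S ⧸ J))]
  exact WithBot.coe_le_coe.2 le_self_add

theorem dim_quot_le_add {R S : Type u} [CommRing R] [CommRing S] [IsLocalRing R] [IsLocalRing S]
    [IsNoetherianRing R] [IsNoetherianRing S] (φ : R →+* S) [IsLocalHom φ] (I : Ideal R) (J : Ideal S)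
    (hJ : J ≤ maximalIdeal S) (hle : I ≤ J.comap φ) :
    ringKrullDim (S ⧸ J) ≤ ringKrullDim (R ⧸ I) + ringKrullDim (S ⧸ (maximalIdeal R).map φ) := by
  have hI : I ≤ maximalIdeal R :=
    hle.trans ((Ideal.comap_mono hJ).trans (maximalIdeal_comap φ).le)
  haveI : Nontrivial (R ⧸ I) := Ideal.Quotient.nontrivial_iff.2
    (ne_top_of_le_ne_top (maximalIdeal.isMaximal R).ne_top hI)
  haveI : Nontrivial (S ⧸ J) := Ideal.Quotient.nontrivial_iff.2
    (ne_top_of_le_ne_top (maximalIdeal.isMaximal S).ne_top hJ)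
  haveI : IsLocalRing (R ⧸ I) := IsLocalRing.of_surjective' _ Ideal.Quotient.mk_surjective
  haveI : IsLocalRing (S ⧸ J) := IsLocalRing.of_surjective' _ Ideal.Quotient.mk_surjective
  letI := (Ideal.quotientMap J φ hle).toAlgebra
  haveI : IsLocalHom (algebraMap (R ⧸ I) (S ⧸ J)) := by
    constructor
    intro b hb
    obtain ⟨b, rfl⟩ := Ideal.Quotient.mk_surjective b
    have hb' : IsUnit (Ideal.Quotient.mk J (φ b)) := hb
    haveI : IsLocalHom (Ideal.Quotient.mk J) := IsLocalHom.of_surjective _ Ideal.Quotient.mk_surjective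
    exact (isUnit_of_map_unit φ b (isUnit_of_map_unit _ _ hb')).map _
  refine (FlatLoc6.ringKrullDim_le_add_fibre (A := R ⧸ I) (B := S ⧸ J)).trans (add_le_add le_rfl ?_)
  have hm : (maximalIdeal (R ⧸ I)).map (algebraMap (R ⧸ I) (S ⧸ J)) =
      ((maximalIdeal R).map φ).map (Ideal.Quotient.mk J) := by
    rw [← map_maximalIdeal_of_surjective (Ideal.Quotient.mk I) Ideal.Quotient.mk_surjective]
    rw [Ideal.map_map, Ideal.map_map]
    rfl
  let e : EGA4.FibRing (R ⧸ I) (S ⧸ J) ≃+* S ⧸ (J ⊔ (maximalIdeal R).map φ) :=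
    (Ideal.quotEquivOfEq hm).trans (DoubleQuot.quotQuotEquivQuotSup _ _)
  rw [ringKrullDim_eq_of_ringEquiv e]
  exact ringKrullDim_le_of_surjective (Ideal.Quotient.factor le_sup_right)
    (Ideal.Quotient.factor_surjective _)

theorem quotientMap_flat_of_map_eq {R S : Type u} [CommRing R] [CommRing S] (φ : R →+* S) (hfl : φ.Flat)
    (I : Ideal R) (J : Ideal S) (hJ : J = I.map φ) (hle : I ≤ J.comap φ) :
    (Ideal.quotientMap J φ hle).Flat := by
  subst hJ
  letI := φ.toAlgebra
  haveI : Module.Flat R S := hfl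
  exact RingHom.flat_algebraMap_iff.2 (LC.exists_quotientMap_flat (A := R) (B := S) I)

/-- The depth of a flat local algebra is at least the depth of its closed fibre. -/
theorem depth_quot_le_of_flat {R S : Type u} [CommRing R] [CommRing S] [IsLocalRing R] [IsLocalRing S]
    [IsNoetherianRing R] [IsNoetherianRing S] (φ : R →+* S) [IsLocalHom φ] (hfl : φ.Flat)
    [IsLocalRing (S ⧸ (maximalIdeal R).map φ)] :
    LocCoh.depth (S ⧸ (maximalIdeal R).map φ) (S ⧸ (maximalIdeal R).map φ) ≤ LocCoh.depth S S := by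
  letI := φ.toAlgebra
  haveI : Module.Flat R S := hfl
  haveI : IsLocalHom (algebraMap R S) := ‹IsLocalHom φ›
  let J := (maximalIdeal R).map φ
  have h := S2062.result (R := R) (S := S) (M := R) (N := S)
  rw [FlatLoc6.depth_congr' (AlgebraTensorModule.rid R S S)] at h
  rw [h]
  refine le_trans (le_of_eq ?_) le_add_self
  refine Eq.trans ?_ (FlatLoc6.depth_congr' (Submodule.quotEquivOfEq
    (J : Submodule S S) (J • ⊤) (by rw [smul_eq_mul, Ideal.mul_top])))
  show LocCoh.idealDepth (maximalIdeal (S ⧸ J)) (S ⧸ J) = LocCoh.idealDepth (maximalIdeal S) (S ⧸ J)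
  rw [LC.idealDepth_quot_self_le J (maximalIdeal S),
    map_maximalIdeal_of_surjective _ Ideal.Quotient.mk_surjective]

theorem depth_le_dim (S : Type u) [CommRing S] [IsLocalRing S] [IsNoetherianRing S] :
    ((LocCoh.depth S S : ℕ∞) : WithBot ℕ∞) ≤ ringKrullDim S := by
  rw [← Module.supportDim_self_eq_ringKrullDim]
  exact LC.depth_le_supportDim (R := S) (M := S)

theorem depth_eq_dim (S : Type u) [CommRing S] [h : LocCoh.IsCohenMacaulayLocalRing S] :
    ((LocCoh.depth S S : ℕ∞) : WithBot ℕ∞) = ringKrullDim S := by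
  rw [← Module.supportDim_self_eq_ringKrullDim]
  exact h.supportDim_eq_depth.symm

/-! ## Schemes -/

variable {X X' S S' : Scheme.{u}}

theorem map_sm_le (f : X ⟶ S) (x : X) (s : S) (h : f x = s) :
    (maximalIdeal (S.presheaf.stalk s)).map (sm f x s h) ≤ maximalIdeal (X.presheaf.stalk x) :=
  map_maximalIdeal_le _

theorem dim_fiberStalk (f : X ⟶ S) (x : X) (s : S) (h : f x = s) :
    ringKrullDim ↑(CInt.fiberStalk f x) =
      ringKrullDim (↑(X.presheaf.stalk x) ⧸ (maximalIdeal (S.presheaf.stalk s)).map (sm f x s h)) := by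
  subst h
  obtain ⟨e⟩ := Triage.CMMor.exists_equiv_fibre_stalk_aux f x (f x) rfl (f.asFiber x) (f.fiberι_asFiber x)
  exact (ringKrullDim_eq_of_ringEquiv e).symm

theorem depth_fiberStalk_le [IsLocallyNoetherian X] [IsLocallyNoetherian S] (f : X ⟶ S) [Flat f] (x : X) :
    LocCoh.depth ↑(CInt.fiberStalk f x) ↑(CInt.fiberStalk f x) ≤
      LocCoh.depth ↑(X.presheaf.stalk x) ↑(X.presheaf.stalk x) := by
  obtain ⟨e⟩ := Triage.CMMor.exists_equiv_fibre_stalk f x
  haveI := e.symm.isLocalRing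
  rw [← NeronA.EtaleDepth.depth_ringEquiv e]
  exact depth_quot_le_of_flat (f.stalkMap x).hom (Flat.stalkMap f x)

theorem dim_fiberStalk_le_depth [IsLocallyNoetherian X] [IsLocallyNoetherian S] (f : X ⟶ S) [Flat f] (x : X)
    [LocCoh.IsCohenMacaulayLocalRing ↑(CInt.fiberStalk f x)] :
    ringKrullDim ↑(CInt.fiberStalk f x) ≤
      ((LocCoh.depth ↑(X.presheaf.stalk x) ↑(X.presheaf.stalk x) : ℕ∞) : WithBot ℕ∞) := by
  rw [← depth_eq_dim]
  exact WithBot.coe_le_coe.2 (depth_fiberStalk_le f x)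

theorem exists_isMax (Z : Scheme.{u}) [Nonempty Z] : ∃ z : Z, IsMax z := by
  let C := irreducibleComponent (Classical.arbitrary Z)
  have hC : IsIrreducible C := isIrreducible_irreducibleComponent
  refine ⟨hC.genericPoint, fun w hw => ?_⟩
  have hwz : w ⤳ hC.genericPoint := hw
  have hgen : closure {hC.genericPoint} = C :=
    hC.isGenericPoint_genericPoint isClosed_irreducibleComponent
  have hle : C ⊆ closure {w} := hgen ▸ closure_minimal
    (Set.singleton_subset_iff.2 (specializes_iff_mem_closure.1 hwz)) isClosed_closure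
  have hmem := (irreducibleComponent_mem_irreducibleComponents (Classical.arbitrary Z)).2
    (isIrreducible_singleton.closure : IsIrreducible (closure {w})) hle
  show hC.genericPoint ⤳ w
  rw [specializes_iff_mem_closure, hgen]
  exact hmem (subset_closure rfl)

/-- Above every point in the image there is a point with zero-dimensional fibre ring. -/
theorem exists_dim_fibre_zero (g : X' ⟶ X) {y : X} (hy : y ∈ Set.range g.base) :
    ∃ (y' : X') (h : g y' = y),
      ringKrullDim (↑(X'.presheaf.stalk y') ⧸ (maximalIdeal (X.presheaf.stalk y)).map (sm g y' y h)) = 0 := by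
  obtain ⟨x', rfl⟩ := hy
  haveI : Nonempty ↥(g.fiber (g x')) := ⟨g.asFiber x'⟩
  obtain ⟨z, hz⟩ := exists_isMax (g.fiber (g x'))
  refine ⟨g.fiberι (g x') z, FibDim.fiber_apply_fiberι g z, ?_⟩
  obtain ⟨e⟩ := Triage.CMMor.exists_equiv_fibre_stalk_aux g (g.fiberι (g x') z) (g x')
    (FibDim.fiber_apply_fiberι g z) z rfl
  rw [ringKrullDim_eq_of_ringEquiv e, ringKrullDim_stalk_eq_coheight, Order.coheight_eq_zero.2 hz]
  rfl

/-- Comparison of fibre rings along a commutative square. -/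
theorem exists_over_dim_fiberStalk_le [IsLocallyNoetherian X] [IsLocallyNoetherian X'] {p : X' ⟶ X}
    {u' : X' ⟶ S'} {f : X ⟶ S} {h : S' ⟶ S} (w : p ≫ f = u' ≫ h) {y : X} (hy : y ∈ Set.range p.base) :
    ∃ y' : X', p y' = y ∧ ringKrullDim ↑(CInt.fiberStalk u' y') ≤ ringKrullDim ↑(CInt.fiberStalk f y) := by
  obtain ⟨y', hy', h0⟩ := exists_dim_fibre_zero p hy
  refine ⟨y', hy', ?_⟩
  have hs : f y = h (u' y') := by
    rw [← hy', ← Scheme.Hom.comp_apply, w, Scheme.Hom.comp_apply]
  rw [dim_fiberStalk u' y' (u' y') rfl, dim_fiberStalk f y _ hs]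
  refine (dim_quot_le_add (sm p y' y hy')
    ((maximalIdeal _).map (sm f y (h (u' y')) hs)) _ (map_sm_le _ _ _ _) ?_).trans
      (by rw [h0, add_zero])
  rw [← Ideal.map_le_iff_le_comap, Ideal.map_map,
    ← FibFlat.sm_comp p f y' y (h (u' y')) hy' hs, FibFlat.sm_congr w y' (h (u' y')),
    FibFlat.sm_comp u' h y' (u' y') (h (u' y')) rfl rfl, ← Ideal.map_map]
  exact Ideal.map_mono (map_maximalIdeal_le _)

theorem dim_fiberStalk_le_comp_of_flat [IsLocallyNoetherian X] [IsLocallyNoetherian X'] (g : X' ⟶ X) [Flat g]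
    (f : X ⟶ S) (y' : X') :
    ringKrullDim ↑(CInt.fiberStalk f (g y')) ≤ ringKrullDim ↑(CInt.fiberStalk (g ≫ f) y') := by
  have hs : (g ≫ f) y' = f (g y') := rfl
  rw [dim_fiberStalk (g ≫ f) y' (f (g y')) hs, dim_fiberStalk f (g y') (f (g y')) rfl]
  have hJ : (maximalIdeal (S.presheaf.stalk (f (g y')))).map (sm (g ≫ f) y' (f (g y')) hs) =
      ((maximalIdeal _).map (sm f (g y') (f (g y')) rfl)).map (sm g y' (g y') rfl) := by
    rw [FibFlat.sm_comp g f y' (g y') (f (g y')) rfl rfl, Ideal.map_map]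
  refine dim_quot_le_of_flat (sm g y' (g y') rfl) _ _ (map_sm_le _ _ _ _)
    (Ideal.map_le_iff_le_comap.1 hJ.ge) ?_
  exact quotientMap_flat_of_map_eq _ ((FibFlat.sm_flat_iff g y' (g y') rfl).2 (Flat.stalkMap g y'))
    _ _ hJ _

theorem dim_fiberStalk_le_of_isPullback [IsLocallyNoetherian X] [IsLocallyNoetherian X'] {p : X' ⟶ X}
    {u' : X' ⟶ S'} {f : X ⟶ S} {h : S' ⟶ S} (sq : IsPullback p u' f h) (y' : X') :
    ringKrullDim ↑(CInt.fiberStalk f (p y')) ≤ ringKrullDim ↑(CInt.fiberStalk u' y') := by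
  have hle : (maximalIdeal _).map (sm f (p y') (f (p y')) rfl) ≤
      ((maximalIdeal _).map (sm u' y' (u' y') rfl)).comap (sm p y' (p y') rfl) := by
    have hs : f (p y') = h (u' y') := by rw [← Scheme.Hom.comp_apply, sq.w, Scheme.Hom.comp_apply]
    rw [FibFlat.map_max_sm f (p y') (h (u' y')) hs, ← Ideal.map_le_iff_le_comap, Ideal.map_map,
      ← FibFlat.sm_comp p f y' (p y') (h (u' y')) rfl hs, FibFlat.sm_congr sq.w y' (h (u' y')),
      FibFlat.sm_comp u' h y' (u' y') (h (u' y')) rfl rfl, ← Ideal.map_map]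
    exact Ideal.map_mono (map_maximalIdeal_le _)
  rw [dim_fiberStalk u' y' (u' y') rfl, dim_fiberStalk f (p y') (f (p y')) rfl]
  exact dim_quot_le_of_flat _ _ _ (map_sm_le _ _ _ _) hle (FibFlat.quotient_flat_of_isPullback sq y' hle)

end Groth.Agent.CIntLib
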