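import Groth.Agent.S1621
import Groth.Agent.S5792
import Groth.Agent.FibDim.Top
import Groth.Prelude.Def_Flat

/-!
# Local and fibre dimensions of irreducible schemes of finite type over a field
-/

set_option autoImplicit false

universe u

open CategoryTheory AlgebraicGeometry

namespace Groth.Agent.CIntLib

theorem localDim_eq_of_irreducible (k : Type u) [Field k] (X : Scheme.{u}) [X.Over (Spec (CommRingCat.of k))]
    [LocallyOfFiniteType (X ↘ (Spec (CommRingCat.of k)))] [IrreducibleSpace X] (n : ℕ)
    (hn : topologicalKrullDim ↥X = (n : WithBot ℕ∞)) (x : X) : FlatMor.localDim X x = (n : WithBot ℕ∞) := by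
  set f := X ↘ (Spec (CommRingCat.of k))
  have h : ∀ y : X, FlatMor.localDim X y = (VarDim.deg f (genericPoint X) : WithBot ℕ∞) := fun y => by
    obtain ⟨b, hb, ⟨η, hη, hηd⟩, hmax⟩ := VarDim.exists_deg_add_stalk f y
    rw [S1621.localDim_eq k X y b hb]
    have h1 : VarDim.deg f η ≤ VarDim.deg f (genericPoint X) := by
      by_cases hne : η = genericPoint X
      · rw [hne]
      · have hs : genericPoint X ⤳ η := genericPoint_specializes η
        exact (VarDim.deg_strictMono f (lt_iff_le_not_ge.2
          ⟨hs, fun h => hne (Inseparable.eq (Specializes.antisymm h hs))⟩)).le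
    have h2 := hmax _ (genericPoint_specializes y)
    exact_mod_cast (show VarDim.deg f y + b = VarDim.deg f (genericPoint X) by omega)
  rw [h x, ← hn, S5792.result X]
  have : Nonempty X := ⟨x⟩
  rw [iSup_congr h, iSup_const]

theorem fibreDimAt_eq_localDim (k : Type u) [Field k] {X : Scheme.{u}} (f : X ⟶ Spec (CommRingCat.of k))
    (x : X) : FlatMor.fibreDimAt f x = FlatMor.localDim X x := by
  have : Subsingleton ↥(Spec (CommRingCat.of k)) := inferInstanceAs (Subsingleton (PrimeSpectrum k))
  let e : ↥(f.fiber (f x)) ≃ₜ ↥X := (f.fiberι (f x)).isEmbedding.toHomeomorphOfSurjective fun z => by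
    show z ∈ Set.range (f.fiberι (f x))
    rw [Scheme.Hom.range_fiberι]
    exact Subsingleton.elim _ _
  rw [FlatMor.fibreDimAt, ← FibDim.localDim_homeomorph e]
  exact congrArg (FlatMor.localDim ↥X) (f.fiberι_asFiber x)

end Groth.Agent.CIntLib
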