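import Groth.Agent.S12124
import Groth.Agent.BrnchLib.Split
import Groth.Prelude.Def_FEt
import Mathlib.RingTheory.Ideal.Height
import Mathlib.AlgebraicGeometry.AffineScheme
import Mathlib.RingTheory.Ideal.GoingUp

/-!
# Functions on the punctured spectrum are integral when no branch is one-dimensional
-/

set_option autoImplicit false
set_option linter.style.haveILetI false
set_option backward.isDefEq.respectTransparency.types false

universe u

open CategoryTheory AlgebraicGeometry TopologicalSpace IsLocalRing Opposite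

namespace Groth.Agent.CIntLib.PuncturedInt

section Key

variable {D : Type u} [CommRing D] [IsDomain D] [IsNoetherianRing D] [IsLocalRing D]

/-- Local Noetherian domain all of whose normalization branches have dimension at least two. -/
theorem isIntegral_of_pow_mul
    (hht : ∀ M : Ideal (integralClosure D (FractionRing D)), M.IsMaximal → ¬ M.height ≤ 1)
    (x : FractionRing D) (hx : ∀ b ∈ maximalIdeal D, ∃ (N : ℕ) (a : D),
      algebraMap D (FractionRing D) (b ^ N) * x = algebraMap D (FractionRing D) a) :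
    IsIntegral D x := by
  classical
  obtain ⟨C, hfin, -, hmem, -⟩ := Groth.Agent.S12124.result (A := D)
  refine (mem_integralClosure_iff D (FractionRing D)).1 ((hmem x).2 fun p hp hp1 => ?_)
  have hle : C ≤ integralClosure D (FractionRing D) := fun c hc => by
    haveI : Algebra.IsIntegral D C := Algebra.IsIntegral.of_finite D C
    exact (Algebra.IsIntegral.isIntegral (R := D) (⟨c, hc⟩ : C)).map C.val
  by_cases hm : maximalIdeal D ≤ p.comap (algebraMap D C)
  swap
  · obtain ⟨b, hb, hbp⟩ := SetLike.not_le_iff_exists.1 hm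
    obtain ⟨N, a, ha⟩ := hx b hb
    refine ⟨algebraMap D C (b ^ N), ?_, ?_⟩
    · rw [map_pow]
      exact fun h => hbp (hp.mem_of_pow_mem N h)
    · show IsIntegral C (algebraMap D (FractionRing D) (b ^ N) * x)
      rw [ha]
      exact (isIntegral_algebraMap (R := C) (x := algebraMap D C a))
  exfalso
  letI : Algebra C (integralClosure D (FractionRing D)) := (Subalgebra.inclusion hle).toRingHom.toAlgebra
  haveI : IsScalarTower D C (integralClosure D (FractionRing D)) :=
    IsScalarTower.of_algebraMap_eq fun _ => rfl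
  haveI : Algebra.IsIntegral D (integralClosure D (FractionRing D)) :=
    ⟨fun y => integralClosure.isIntegral y⟩
  haveI : Algebra.IsIntegral C (integralClosure D (FractionRing D)) :=
    ⟨fun y => IsIntegral.tower_top (R := D) (Algebra.IsIntegral.isIntegral y)⟩
  obtain ⟨M, -, hM, hMp⟩ := Ideal.exists_ideal_over_prime_of_isIntegral
    (S := integralClosure D (FractionRing D)) p ⊥ (fun c hc => by
      have h0 : algebraMap C (integralClosure D (FractionRing D)) c = 0 := (Ideal.mem_bot).1 hc
      have : c = 0 := Subtype.ext (congrArg Subtype.val h0 :)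
      rw [this]; exact p.zero_mem)
  haveI := hM
  have hMD : (M.comap (algebraMap D _)).IsMaximal := by
    have e : M.comap (algebraMap D (integralClosure D (FractionRing D))) = p.comap (algebraMap D C) := by
      rw [← hMp]; rfl
    rw [e]
    exact ((maximalIdeal.isMaximal D).eq_of_le (Ideal.comap_ne_top _ hp.ne_top) hm) ▸
      maximalIdeal.isMaximal D
  refine hht M (Ideal.isMaximal_of_isIntegral_of_isMaximal_comap M hMD) ?_
  rw [← hp1, PrimeSpectrum.height_eq_orderHeight ⟨M, hM⟩, PrimeSpectrum.height_eq_orderHeight ⟨p, hp⟩]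
  refine Order.height_le fun s hs => ?_
  let f : PrimeSpectrum (integralClosure D (FractionRing D)) → PrimeSpectrum C :=
    PrimeSpectrum.comap (algebraMap C _)
  have hf : StrictMono f := fun P Q h => by
    obtain ⟨y, hyQ, hyP⟩ := SetLike.exists_of_lt (show P.asIdeal < Q.asIdeal from h)
    exact Ideal.comap_lt_comap_of_integral_mem_sdiff (R := C) h.le ⟨hyQ, hyP⟩
      (Algebra.IsIntegral.isIntegral y)
  have := Order.length_le_height_last (p := s.map f hf)
  refine this.trans (le_of_eq ?_)
  congr 1
  rw [LTSeries.last_map, hs]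
  exact PrimeSpectrum.ext hMp

end Key

section Reduced

variable (A : Type u) [CommRing A]

abbrev Min := {q : Ideal A // q ∈ minimalPrimes A}

variable [IsNoetherianRing A]

instance : Finite (Min A) := (minimalPrimes.finite_of_isNoetherianRing A).to_subtype

instance (q : Min A) : q.1.IsPrime := q.2.1.1

variable [IsReduced A]

/-- A reduced Noetherian ring inside the product of its irreducible components. -/
def comps : BrnchLib.Comps A (fun q : Min A => A ⧸ q.1) where
  π q := Ideal.Quotient.mk q.1
  surj q := Ideal.Quotient.mk_surjective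
  zero x hx := by
    have : x ∈ sInf (minimalPrimes A) := by
      rw [Submodule.mem_sInf]
      exact fun q hq => Ideal.Quotient.eq_zero_iff_mem.1 (hx ⟨q, hq⟩)
    rw [minimalPrimes, Ideal.sInf_minimalPrimes] at this
    obtain ⟨n, hn⟩ := this
    exact (IsReduced.eq_zero x ⟨n, (Ideal.mem_bot).1 hn⟩)
  incomp q r hqr := by
    by_contra! hall
    have hle : r.1 ≤ q.1 := fun x hx => by
      by_contra hxq
      exact hall x (fun h => hxq (Ideal.Quotient.eq_zero_iff_mem.1 h)) (Ideal.Quotient.eq_zero_iff_mem.2 hx)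
    exact hqr (Subtype.ext (le_antisymm (q.2.2 r.2.1 hle) hle))

variable [IsLocalRing A]

instance (q : Min A) : IsLocalRing (A ⧸ q.1) :=
  IsLocalRing.of_surjective' (Ideal.Quotient.mk q.1) Ideal.Quotient.mk_surjective

variable {A}
variable (hdim : ∀ (m' : Ideal ↥(integralClosure A (FractionRing A))) [m'.IsMaximal],
      m'.comap (algebraMap A ↥(integralClosure A (FractionRing A))) = IsLocalRing.maximalIdeal A →
        2 ≤ ringKrullDim (Localization.AtPrime m'))

include hdim in
theorem height_branch (q : Min A) (M : Ideal (integralClosure (A ⧸ q.1) (FractionRing (A ⧸ q.1))))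
    (hM : M.IsMaximal) : ¬ M.height ≤ 1 := by
  intro hle
  let S := comps A
  let m' := S.pull ⟨q, ⟨M, hM⟩⟩
  haveI := m'.isMaximal
  have hm' : m'.asIdeal.comap (algebraMap A _) = maximalIdeal A := by
    haveI : Algebra.IsIntegral A (integralClosure A (FractionRing A)) := ⟨fun y => integralClosure.isIntegral y⟩
    exact IsLocalRing.eq_maximalIdeal (Ideal.isMaximal_comap_of_isIntegral_of_isMaximal m'.asIdeal)
  have h2 := hdim m'.asIdeal hm'
  rw [IsLocalization.AtPrime.ringKrullDim_eq_height m'.asIdeal (Localization.AtPrime m'.asIdeal)] at h2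
  have h3 : m'.asIdeal.height ≤ M.height := by
    rw [PrimeSpectrum.height_eq_orderHeight ⟨m'.asIdeal, m'.isMaximal.isPrime⟩,
      PrimeSpectrum.height_eq_orderHeight ⟨M, hM.isPrime⟩]
    refine Order.height_le fun s hs => ?_
    obtain ⟨e, he, he'⟩ := S.exists_idem q
    have hem : e ∉ m'.asIdeal := fun h => by
      have : S.proj q e ∈ M := h
      rw [he] at this
      exact hM.ne_top ((Ideal.eq_top_iff_one _).2 this)
    have hker : ∀ i, RingHom.ker (S.proj q) ≤ (s i).asIdeal := fun i z hz => by
      have hz0 : e * z = 0 := S.proj_ext fun j => by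
        rw [map_mul, map_zero]
        by_cases hj : j = q
        · subst hj; rw [RingHom.mem_ker.1 hz, mul_zero]
        · rw [he' j hj, zero_mul]
      refine ((s i).isPrime.mem_or_mem (hz0 ▸ zero_mem _)).resolve_left fun h => hem ?_
      have hi : (s i).asIdeal ≤ m'.asIdeal := by
        have : s i ≤ s.last := s.monotone (Fin.le_last i)
        rw [hs] at this
        exact this
      exact hi h
    have hsurj := S.proj_surjective q
    let s' : LTSeries (PrimeSpectrum (integralClosure (A ⧸ q.1) (FractionRing (A ⧸ q.1)))) :=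
      LTSeries.mk s.length (fun i => ⟨(s i).asIdeal.map (S.proj q),
        Ideal.map_isPrime_of_surjective hsurj (hker i)⟩) (fun i j hij => by
          have hlt : (s i).asIdeal < (s j).asIdeal := s.strictMono hij
          refine lt_of_le_of_ne (Ideal.map_mono hlt.le) fun heq => hlt.ne ?_
          have h := congrArg (fun P : PrimeSpectrum _ => P.asIdeal.comap (S.proj q)) heq
          simp only [Ideal.comap_map_of_surjective _ hsurj, ← RingHom.ker_eq_comap_bot,
            sup_eq_left.2 (hker i), sup_eq_left.2 (hker j)] at h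
          exact h)
    refine (Order.length_le_height_last (p := s')).trans (le_of_eq ?_)
    congr 1
    refine PrimeSpectrum.ext ?_
    show (s.last).asIdeal.map (S.proj q) = M
    rw [hs]
    exact Ideal.map_comap_of_surjective _ hsurj M
  have h4 : (m'.asIdeal.height : WithBot ℕ∞) ≤ ((1 : ℕ∞) : WithBot ℕ∞) := by exact_mod_cast h3.trans hle
  exact absurd (h2.trans h4) (by decide)

include hdim in
/-- An element with `b ^ N x ∈ A` for every `b ∈ m` is integral. -/
theorem isIntegral_of_pow_mul_mem (x : FractionRing A) (hx : ∀ b ∈ maximalIdeal A, ∃ (N : ℕ) (a : A),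
      algebraMap A (FractionRing A) (b ^ N) * x = algebraMap A (FractionRing A) a) :
    IsIntegral A x := by
  refine (comps A).isIntegral_of_frac fun q => isIntegral_of_pow_mul (height_branch hdim q) _ ?_
  intro b hb
  obtain ⟨b, rfl⟩ := Ideal.Quotient.mk_surjective b
  obtain ⟨N, a, ha⟩ := hx b ((mem_maximalIdeal _).2 fun hu => (mem_maximalIdeal _).1 hb (hu.map _))
  refine ⟨N, Ideal.Quotient.mk q.1 a, ?_⟩
  have h := congrArg ((comps A).frac q) ha
  rw [map_mul, BrnchLib.Comps.frac_algebraMap, BrnchLib.Comps.frac_algebraMap, map_pow] at h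
  exact h

include hdim in
theorem exists_regular_mem : ∃ t ∈ maximalIdeal A, t ∈ nonZeroDivisors A := by
  classical
  by_contra! hall
  have hsub : (maximalIdeal A : Set A) ⊆
      ⋃ q ∈ (↑(minimalPrimes.finite_of_isNoetherianRing A).toFinset : Set (Ideal A)), (id q : Set A) := by
    intro t ht
    have h := hall t ht
    rw [(comps A).mem_nonZeroDivisors_iff] at h
    push Not at h
    obtain ⟨q, hq⟩ := h
    exact Set.mem_biUnion (Set.Finite.mem_toFinset _ |>.2 q.2) (Ideal.Quotient.eq_zero_iff_mem.1 hq)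
  obtain ⟨q, hq, hle⟩ := (Ideal.subset_union_prime (f := id) ⊥ ⊥ fun q hq _ _ =>
    ((Set.Finite.mem_toFinset _).1 hq).1.1).1 hsub
  rw [Set.Finite.mem_toFinset] at hq
  have hqm : q = maximalIdeal A := le_antisymm (IsLocalRing.le_maximalIdeal hq.1.1.ne_top) hle
  haveI : q.IsPrime := hq.1.1
  obtain ⟨M, hM⟩ := Ideal.exists_maximal (integralClosure (A ⧸ q) (FractionRing (A ⧸ q)))
  refine height_branch hdim ⟨q, hq⟩ M hM ?_
  haveI : (⟨q, hq⟩ : Min A).1.IsMaximal := hqm ▸ maximalIdeal.isMaximal A
  have hfd : IsField (A ⧸ q) := (Ideal.Quotient.maximal_ideal_iff_isField_quotient q).1 this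
  haveI : Algebra.IsIntegral (A ⧸ q) (integralClosure (A ⧸ q) (FractionRing (A ⧸ q))) :=
    ⟨fun y => integralClosure.isIntegral y⟩
  have hfield := isField_of_isIntegral_of_isField'
    (S := integralClosure (A ⧸ q) (FractionRing (A ⧸ q))) hfd
  letI := hfield.toField
  rw [show M = ⊥ from (Ideal.eq_bot_or_top M).resolve_right hM.ne_top, Ideal.height_bot]
  exact zero_le

end Reduced

section Sections

variable {R : CommRingCat.{u}}

/-- Extending sections on a punctured spectrum into the total ring of fractions. -/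
theorem exists_ringHom [IsNoetherianRing R] [IsLocalRing R] [IsReduced R]
    (U : (Spec R).Opens) (hU : ∀ b ∈ maximalIdeal R, PrimeSpectrum.basicOpen b ≤ U)
    (hUm : ∀ P ∈ U, ∃ b ∈ maximalIdeal R, P ∈ PrimeSpectrum.basicOpen b)
    (t : R) (ht : t ∈ maximalIdeal R) (htn : t ∈ nonZeroDivisors R) :
    ∃ ψ : Γ(Spec R, U) →+* FractionRing R, Function.Injective ψ ∧
      (∀ a, ψ (algebraMap R Γ(Spec R, U) a) = algebraMap R (FractionRing R) a) ∧
      ∀ s, ∀ b ∈ maximalIdeal R, ∃ (N : ℕ) (a : R),
        algebraMap R (FractionRing R) (b ^ N) * ψ s = algebraMap R (FractionRing R) a := by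
  let res : ∀ {V W : (Spec R).Opens}, V ≤ W → (Γ(Spec R, W) →+* Γ(Spec R, V)) := fun h =>
    ((Spec R).presheaf.map (homOfLE h).op).hom
  have res_alg : ∀ {V W : (Spec R).Opens} (h : V ≤ W) (a : R),
      res h (algebraMap R Γ(Spec R, W) a) = algebraMap R Γ(Spec R, V) a := fun _ _ => rfl
  have res_res : ∀ {V W Z : (Spec R).Opens} (h : V ≤ W) (h' : W ≤ Z) (s : Γ(Spec R, Z)),
      res h (res h' s) = res (h.trans h') s := fun _ _ _ => rfl
  have hunit : IsUnit (algebraMap R (FractionRing R) t) :=
    IsLocalization.map_units (FractionRing R) (⟨t, htn⟩ : nonZeroDivisors R)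
  let lift : Γ(Spec R, PrimeSpectrum.basicOpen t) →+* FractionRing R := IsLocalization.Away.lift t hunit
  let ψ := lift.comp (res (hU t ht))
  have hψ : ∀ a, ψ (algebraMap R Γ(Spec R, U) a) = algebraMap R (FractionRing R) a := fun a => by
    show lift (res (hU t ht) (algebraMap R Γ(Spec R, U) a)) = _
    rw [res_alg]
    exact IsLocalization.Away.lift_eq t hunit a
  have hclear : ∀ s, ∀ b ∈ maximalIdeal R, ∃ (N : ℕ) (a : R),
      (∀ hb : b ∈ maximalIdeal R,
        algebraMap R Γ(Spec R, PrimeSpectrum.basicOpen b) (b ^ N) * res (hU b hb) s =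
          algebraMap R Γ(Spec R, PrimeSpectrum.basicOpen b) a) ∧
      algebraMap R (FractionRing R) (b ^ N) * ψ s = algebraMap R (FractionRing R) a := by
    intro s b hb
    obtain ⟨n, c, hc⟩ := IsLocalization.Away.surj b (res (hU b hb) s)
    obtain ⟨k, a, ha⟩ := IsLocalization.Away.surj t (res (hU t ht) s)
    have h1 : PrimeSpectrum.basicOpen (b * t) ≤ PrimeSpectrum.basicOpen b :=
      PrimeSpectrum.basicOpen_mul_le_left b t
    have h2 : PrimeSpectrum.basicOpen (b * t) ≤ PrimeSpectrum.basicOpen t :=
      PrimeSpectrum.basicOpen_mul_le_right b t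
    have hc' := congrArg (res h1) hc
    have ha' := congrArg (res h2) ha
    simp only [← map_pow, map_mul, res_alg, res_res] at hc' ha'
    have hcr : algebraMap R Γ(Spec R, PrimeSpectrum.basicOpen (b * t)) (b ^ n * a) =
        algebraMap R Γ(Spec R, PrimeSpectrum.basicOpen (b * t)) (t ^ k * c) := by
      rw [map_mul, map_mul, ← ha', ← hc']
      ring
    obtain ⟨⟨_, j, rfl⟩, hj⟩ := (IsLocalization.eq_iff_exists (Submonoid.powers (b * t))
      Γ(Spec R, PrimeSpectrum.basicOpen (b * t))).1 hcr
    have hbk : b ^ j * (b ^ n * a) = b ^ j * (t ^ k * c) := by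
      have h0 : (t ^ j) * (b ^ j * (b ^ n * a) - b ^ j * (t ^ k * c)) = 0 := by
        have h : (b * t) ^ j * (b ^ n * a) = (b * t) ^ j * (t ^ k * c) := hj
        rw [mul_sub, sub_eq_zero]
        calc t ^ j * (b ^ j * (b ^ n * a)) = (b * t) ^ j * (b ^ n * a) := by ring
          _ = (b * t) ^ j * (t ^ k * c) := h
          _ = t ^ j * (b ^ j * (t ^ k * c)) := by ring
      exact sub_eq_zero.1 ((mem_nonZeroDivisors_iff_left.1 (pow_mem htn j)) _ h0)
    refine ⟨j + n, b ^ j * c, fun _ => ?_, ?_⟩
    · rw [pow_add, map_mul, map_mul, ← hc, ← map_pow]; ring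
    · refine (hunit.pow k).mul_right_cancel ?_
      have hat : ψ s * algebraMap R (FractionRing R) t ^ k = algebraMap R (FractionRing R) a := by
        have := congrArg lift ha
        rw [map_mul, map_pow, IsLocalization.Away.lift_eq, IsLocalization.Away.lift_eq] at this
        exact this
      rw [mul_assoc, hat, ← map_pow, ← map_mul, ← map_mul, pow_add, mul_assoc, hbk]
      congr 1
      ring
  refine ⟨ψ, (injective_iff_map_eq_zero ψ).2 fun s hs => ?_, hψ, fun s b hb => by
    obtain ⟨N, a, -, h⟩ := hclear s b hb; exact ⟨N, a, h⟩⟩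
  refine (Spec R).sheaf.eq_of_locally_eq' (fun b : {b // b ∈ maximalIdeal R} => PrimeSpectrum.basicOpen b.1)
    U (fun b => homOfLE (hU b.1 b.2)) (fun P hP => ?_) s 0 fun b => ?_
  · obtain ⟨b, hb, hPb⟩ := hUm P hP
    exact Opens.mem_iSup.2 ⟨⟨b, hb⟩, hPb⟩
  · obtain ⟨N, a, h1, h2⟩ := hclear s b.1 b.2
    rw [hs, mul_zero, eq_comm] at h2
    have ha0 : a = 0 := IsFractionRing.injective R (FractionRing R) (h2.trans (map_zero _).symm)
    replace h1 := h1 b.2
    rw [ha0, map_zero] at h1
    show res (hU b.1 b.2) s = res (hU b.1 b.2) 0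
    rw [map_zero]
    exact ((IsLocalization.Away.algebraMap_isUnit b.1).pow N).mul_right_eq_zero.1 (by rwa [← map_pow])

end Sections

end Groth.Agent.CIntLib.PuncturedInt

namespace Groth.Agent.CIntLib.PuncturedInt

theorem main {R : CommRingCat.{u}} [IsNoetherianRing R] [IsLocalRing R] [IsReduced R]
    (hdim : ∀ (m' : Ideal ↥(integralClosure R (FractionRing R))) [m'.IsMaximal],
      m'.comap (algebraMap R ↥(integralClosure R (FractionRing R))) = IsLocalRing.maximalIdeal R →
        2 ≤ ringKrullDim (Localization.AtPrime m'))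
    (U : (Spec R).Opens) (hU : (SetLike.coe U : Set (PrimeSpectrum R)) = {IsLocalRing.closedPoint R}ᶜ) :
    (algebraMap R Γ(Spec R, U)).IsIntegral ∧
      ∃ φ : Γ(Spec R, U) →+* ↥(integralClosure R (FractionRing R)), Function.Injective φ ∧
        φ.comp (algebraMap R Γ(Spec R, U)) = algebraMap R _ := by
  have hmem : ∀ P : PrimeSpectrum R, P ∈ U ↔ P ≠ IsLocalRing.closedPoint R := fun P =>
    Set.ext_iff.1 hU P
  have h1 : ∀ b ∈ maximalIdeal R, PrimeSpectrum.basicOpen b ≤ U := fun b hb P hP =>
    (hmem P).2 fun h => (h ▸ hP : IsLocalRing.closedPoint R ∈ PrimeSpectrum.basicOpen b) hb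
  have h2 : ∀ P ∈ U, ∃ b ∈ maximalIdeal R, P ∈ PrimeSpectrum.basicOpen b := fun P hP => by
    have hne : ¬ maximalIdeal R ≤ P.asIdeal := fun h => (hmem P).1 hP
      (PrimeSpectrum.ext (le_antisymm (IsLocalRing.le_maximalIdeal P.isPrime.ne_top) h))
    obtain ⟨b, hb, hbP⟩ := SetLike.not_le_iff_exists.1 hne
    exact ⟨b, hb, hbP⟩
  obtain ⟨t, ht, htn⟩ := exists_regular_mem hdim
  obtain ⟨ψ, hinj, halg, hclear⟩ := exists_ringHom U h1 h2 t ht htn
  have hint : ∀ s, IsIntegral R (ψ s) := fun s => isIntegral_of_pow_mul_mem hdim _ (hclear s)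
  refine ⟨fun s => ?_, ψ.codRestrict (integralClosure R (FractionRing R)).toSubring hint,
    fun a b h => hinj (congrArg Subtype.val h), RingHom.ext fun a => Subtype.ext (halg a)⟩
  obtain ⟨p, hp, hp0⟩ := hint s
  refine ⟨p, hp, hinj ?_⟩
  rw [Polynomial.hom_eval₂, map_zero, show ψ.comp (algebraMap R Γ(Spec R, U)) = algebraMap R _ from
    RingHom.ext halg]
  exact hp0

end Groth.Agent.CIntLib.PuncturedInt
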