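import Groth.Agent.CIntLib.QRegSection

/-!
# Differentially smooth: the diagonal is a quasi-regular immersion
-/

set_option autoImplicit false
set_option linter.style.haveILetI false
set_option backward.isDefEq.respectTransparency.types false

universe u

open CategoryTheory CategoryTheory.Limits AlgebraicGeometry

namespace Groth.Agent.CIntLib

/-- Quasi-regularity at a point only depends on the immersion near it. -/
theorem regImmAt_quasi_of_comp_ι {Z X : Scheme.{u}} (i : Z ⟶ X) [IsImmersion i] (V : Z.Opens) (z : Z)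
    (hz : z ∈ V) (h : RegImm.IsRegularImmersionAt RegImm.Kind.quasi (V.ι ≫ i) ⟨z, hz⟩) :
    RegImm.IsRegularImmersionAt RegImm.Kind.quasi i z := by
  obtain ⟨U, hU, hzU, hci, n, rs, hrs, hker⟩ := (AlgSpMor.isSeqAt_iff (Or.inr rfl) _ _).1 h
  obtain ⟨O, hO, hOV⟩ := i.isEmbedding.isInducing.isOpen_iff.mp V.2
  obtain ⟨g, hg, hzg⟩ := hU.exists_basicOpen_le (V := ⟨O, hO⟩ ⊓ U)
    ⟨i z, (Set.ext_iff.mp hOV z).mpr hz, hzU⟩ hzU
  haveI := hci
  obtain ⟨rs', hrs', hker'⟩ := AlgSpMor.seq_restrict_basicOpen (V.ι ≫ i) hU g hrs hker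
  haveI hclosed := KRegLib.isClosedImmersion_restrict_of_le (V.ι ≫ i) (X.basicOpen_le g)
  have hle : i ⁻¹ᵁ X.basicOpen g ≤ V := fun y hy => (Set.ext_iff.mp hOV y).mp (hg hy).1
  rw [KRegLib.ker_app_comp_ι i V hle] at hker'
  have hcl : IsClosedImmersion (i ∣_ X.basicOpen g) := by
    haveI : Surjective (V.ι ∣_ (i ⁻¹ᵁ X.basicOpen g)) := ⟨fun y => ⟨⟨⟨y.1, hle y.2⟩, y.2⟩, Subtype.ext (by
      simp [morphismRestrict_base_coe])⟩⟩
    have hiso : IsIso (V.ι ∣_ (i ⁻¹ᵁ X.basicOpen g)) :=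
      (isIso_iff_isOpenImmersion_and_surjective _).2 ⟨inferInstance, inferInstance⟩
    rw [morphismRestrict_comp] at hclosed
    exact (@MorphismProperty.cancel_left_of_respectsIso _ _ @IsClosedImmersion _ _ _ _ _ _ hiso).1 hclosed
  exact (AlgSpMor.isSeqAt_iff (Or.inr rfl) i z).2
    ⟨X.basicOpen g, hU.basicOpen g, hzg, hcl, n, rs', hrs', hker'⟩

theorem diagonal_quasiRegular_iff {X Y : Scheme.{u}} (f : X ⟶ Y) [LocallyOfFinitePresentation f] :
    RegImm.IsRegularImmersion RegImm.Kind.quasi (pullback.diagonal f) ↔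
      ∀ x : X, (pullback.diagonal f).base x ∈ (pullback.snd f f).smoothLocus := by
  haveI : LocallyOfFinitePresentation (pullback.snd f f) := inferInstance
  have hu : pullback.diagonal f ≫ pullback.snd f f = 𝟙 X := pullback.diagonal_snd f
  constructor
  · intro h x
    refine (mem_smoothLocus_iff_quasiRegular _ _ hu x).2 ⟨⊤, trivial, inferInstance, fun z => ?_⟩
    obtain ⟨⟨U, hU⟩, hzU, hci, rs, hrs, hker⟩ := h.2 z.1
    haveI := hci
    refine ⟨⟨U, hU⟩, hzU, KRegLib.isClosedImmersion_restrict_comp_ι _ ⊤ le_top, rs, hrs, ?_⟩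
    rw [KRegLib.ker_app_comp_ι _ ⊤ le_top]
    exact hker
  · intro h
    refine ⟨inferInstance, fun x => ?_⟩
    obtain ⟨V, hxV, -, hreg⟩ := (mem_smoothLocus_iff_quasiRegular _ _ hu x).1 (h x)
    exact regImmAt_quasi_of_comp_ι _ V x hxV (hreg ⟨x, hxV⟩)

end Groth.Agent.CIntLib
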