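import Mathlib
import Groth.Prelude.Def_EGA4b
import Groth.Agent.LinType.Basic
import Groth.Agent.CIntLib.NormFlatLocal

/-!
# Weakly regular sequences are normally flat, with free graded pieces
-/

universe u

open MvPolynomial

namespace Groth.Agent.CIntLib

/-- The graded pieces of an ideal generated by a weakly regular sequence are free. -/
theorem free_piece_of_weaklyRegular {B : Type u} [CommRing B] {n : ℕ} (r : Fin n → B)
    (hr : RingTheory.Sequence.IsWeaklyRegular B (List.ofFn r)) (J : Ideal B)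
    (hJ : J = Ideal.span (Set.range r)) (m : ℕ) :
    Module.Free (B ⧸ J) (↥(J ^ m • (⊤ : Submodule B B)) ⧸
      (J • (⊤ : Submodule B ↥(J ^ m • (⊤ : Submodule B B))))) := by
  classical
  subst hJ
  set J := Ideal.span (Set.range r)
  let W := (J ^ m • (⊤ : Submodule B B))
  let σ := {e : Fin n →₀ ℕ // e.degree = m}
  have hpre : LinType.pre r n = J := by
    rw [LinType.pre]
    congr 1
    ext y
    simp only [Set.mem_image, Set.mem_range]
    exact ⟨fun ⟨i, _, e⟩ => ⟨i, e⟩, fun ⟨i, e⟩ => ⟨i, i.2, e⟩⟩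
  have hWmem : ∀ z : B, z ∈ W ↔ ∃ P : MvPolynomial (Fin n) B, P.IsHomogeneous m ∧ aeval r P = z := by
    intro z
    rw [show W = J ^ m from by simp [W], ← hpre, ← LinType.map_lin_pow, ← LinType.homogeneous_eq]
    rfl
  have hmem : ∀ e : σ, aeval r (monomial e.1 (1 : B)) ∈ W := fun e =>
    (hWmem _).mpr ⟨_, isHomogeneous_monomial _ e.2, rfl⟩
  let v : σ → ↥W ⧸ (J • (⊤ : Submodule B ↥W)) := fun e => Submodule.Quotient.mk ⟨_, hmem e⟩
  have hzero : ∀ y : ↥W, (Submodule.Quotient.mk y : ↥W ⧸ (J • (⊤ : Submodule B ↥W))) = 0 ↔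
      (y : B) ∈ J ^ (m + 1) := by
    intro y
    rw [Submodule.Quotient.mk_eq_zero]
    refine Iff.trans ?_ (show (y : B) ∈ NFlat6.Pw J B (m + 1) ↔ _ by simp [NFlat6.Pw])
    exact NFlat6.mem_smul_top_iff_val y
  refine Module.Free.of_basis (Module.Basis.mk (v := v) ?_ ?_)
  · rw [linearIndependent_iff']
    intro s c hc e he
    choose b hb using fun e => Ideal.Quotient.mk_surjective (c e)
    have h0 : (Submodule.Quotient.mk (∑ e ∈ s, b e • (⟨_, hmem e⟩ : ↥W)) :
        ↥W ⧸ (J • (⊤ : Submodule B ↥W))) = 0 := by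
      rw [← Submodule.mkQ_apply, map_sum]
      refine Eq.trans (Finset.sum_congr rfl fun e _ => ?_) hc
      rw [← hb e]
      rfl
    rw [hzero] at h0
    let P : MvPolynomial (Fin n) B := ∑ e ∈ s, monomial e.1 (b e)
    have hP : P.IsHomogeneous m := IsHomogeneous.sum _ _ _ fun e _ => isHomogeneous_monomial _ e.2
    have hev : eval r P ∈ J ^ (m + 1) := by
      convert h0 using 1
      simp only [P, map_sum, Submodule.coe_sum]
      refine Finset.sum_congr rfl fun e _ => ?_
      simp [aeval_monomial, eval_monomial]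
    have := LinType.quasiRegular r hr hP hev e.1
    rw [← hb e, Ideal.Quotient.eq_zero_iff_mem]
    convert this using 1
    simp only [P, coeff_sum, coeff_monomial]
    rw [Finset.sum_eq_single e (fun e' _ hne => if_neg (fun h => hne (Subtype.ext h))) (fun h => absurd he h),
      if_pos rfl]
  · rintro z -
    obtain ⟨⟨z, hz⟩, rfl⟩ := Submodule.Quotient.mk_surjective _ z
    obtain ⟨P, hP, rfl⟩ := (hWmem z).mp hz
    have hPd : ∀ e ∈ P.support, e.degree = m := fun e he => by
      by_contra h
      exact mem_support_iff.mp he (hP.coeff_eq_zero h)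
    have heq : (⟨aeval r P, hz⟩ : ↥W) = ∑ e ∈ P.support.attach,
        P.coeff e.1 • (⟨_, hmem ⟨e.1, hPd e.1 e.2⟩⟩ : ↥W) := by
      refine Subtype.ext ?_
      simp only [Submodule.coe_sum]
      conv_lhs => rw [P.as_sum, map_sum]
      rw [← Finset.sum_attach]
      refine Finset.sum_congr rfl fun e _ => ?_
      simp [aeval_monomial]
    rw [heq, ← Submodule.mkQ_apply, map_sum]
    refine Submodule.sum_mem _ fun e _ => ?_
    rw [map_smul]
    exact Submodule.smul_mem (Submodule.span (B ⧸ J) (Set.range v)) (Ideal.Quotient.mk J (P.coeff e.1))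
      (Submodule.subset_span ⟨⟨e.1, hPd e.1 e.2⟩, rfl⟩)

/-- Ideals generated by weakly regular sequences are normally flat. -/
theorem isNormallyFlat_of_weaklyRegular {B : Type u} [CommRing B] (rs : List B)
    (hr : RingTheory.Sequence.IsWeaklyRegular B rs) : EGA4.IsNormallyFlat (Ideal.ofList rs) B := by
  intro m
  obtain ⟨n, r, rfl⟩ : ∃ n, ∃ r : Fin n → B, rs = List.ofFn r := ⟨_, _, (List.ofFn_get _).symm⟩
  have hJ : Ideal.ofList (List.ofFn r) = Ideal.span (Set.range r) :=
    congrArg Ideal.span (Set.ext fun x => List.mem_ofFn)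
  have := free_piece_of_weaklyRegular r hr _ hJ m
  infer_instance

end Groth.Agent.CIntLib
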