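import Groth.Prelude.Def_CAlgX
import Groth.Agent.LinType.QReg
import Mathlib

/-!
# An algebra with a quasi-regular section is smooth along the section
-/

set_option autoImplicit false
set_option linter.style.haveILetI false

universe u

open MvPolynomial IsLocalRing TrivSqZeroExt

namespace Groth.Agent.CIntLib

section Poly

variable {N : ℕ}

/-- The prime of the origin above a prime of the coefficient ring. -/
noncomputable def origin {R : Type u} [CommRing R] (p : Ideal R) : Ideal (MvPolynomial (Fin N) R) :=
  p.comap constantCoeff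

instance {R : Type u} [CommRing R] (p : Ideal R) [p.IsPrime] : (origin (N := N) p).IsPrime := by
  unfold origin; infer_instance

/-- The ideal of the origin in a localization of the polynomial ring. -/
noncomputable def varIdeal {R : Type u} [CommRing R] (p : Ideal R) [p.IsPrime] :
    Ideal (Localization.AtPrime (origin (N := N) p)) :=
  Ideal.span (Set.range fun i => algebraMap (MvPolynomial (Fin N) R) _ (X i))

theorem algebraMap_mem_varIdeal {R : Type u} [CommRing R] (p : Ideal R) [p.IsPrime]
    {x : MvPolynomial (Fin N) R} (hx : constantCoeff x = 0) :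
    algebraMap _ (Localization.AtPrime (origin (N := N) p)) x ∈ varIdeal p := by
  have h : x ∈ idealOfVars (Fin N) R := by
    rw [← pow_one (idealOfVars (Fin N) R), mem_pow_idealOfVars_iff']
    intro d hd
    have hd0 : d = 0 := (Finsupp.degree_eq_zero_iff d).1 (by omega)
    rw [hd0]
    exact hx
  have := Ideal.mem_map_of_mem (algebraMap _ (Localization.AtPrime (origin (N := N) p))) h
  rwa [idealOfVars, Ideal.map_span, ← Set.range_comp] at this

theorem varIdeal_ne_top {R : Type u} [CommRing R] (p : Ideal R) [p.IsPrime] :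
    varIdeal (N := N) p ≠ ⊤ := by
  refine ne_top_of_le_ne_top (maximalIdeal.isMaximal _).ne_top (Ideal.span_le.2 ?_)
  rintro _ ⟨i, rfl⟩
  refine (IsLocalization.AtPrime.to_map_mem_maximal_iff _ (origin p) _).2 ?_
  show constantCoeff (X i) ∈ p
  rw [constantCoeff_X]
  exact zero_mem _

theorem sup_pow_le_sup {R : Type u} [CommRing R] (I J : Ideal R) (n : ℕ) : (I ⊔ J) ^ n ≤ I ⊔ J ^ n := by
  induction n with
  | zero => rw [pow_zero, pow_zero, Ideal.one_eq_top, sup_top_eq]
  | succ n ih =>
    rw [pow_succ, pow_succ]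
    refine (Ideal.mul_mono_left ih).trans ?_
    rw [Ideal.sup_mul]
    refine sup_le ((show I * (I ⊔ J) ≤ I from Ideal.mul_le_left).trans le_sup_left) ?_
    rw [Ideal.mul_sup (J ^ n) I J]
    exact sup_le ((show J ^ n * I ≤ I from Ideal.mul_le_right).trans le_sup_left) le_sup_right

end Poly

variable {A : Type u} [CommRing A] [IsLocalRing A] {N : ℕ}

local notation "P" => MvPolynomial (Fin N) A
local notation "D" => Localization.AtPrime (origin (N := N) (maximalIdeal A))

theorem isUnit_constantCoeff {s : P} (hs : s ∈ (origin (N := N) (maximalIdeal A)).primeCompl) :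
    IsUnit (constantCoeff s) := IsLocalRing.notMem_maximalIdeal.1 hs

/-- Evaluation at the origin. -/
noncomputable def evZero : D →+* A :=
  IsLocalization.lift (M := (origin (N := N) (maximalIdeal A)).primeCompl)
    (g := (constantCoeff : P →+* A)) fun s => isUnit_constantCoeff s.2

theorem evZero_algebraMap (x : P) : evZero (algebraMap P D x) = constantCoeff x :=
  IsLocalization.lift_eq _ x

theorem mem_varIdeal_of_evZero {x : D} (hx : evZero x = 0) : x ∈ varIdeal (maximalIdeal A) := by
  obtain ⟨⟨q, s⟩, rfl⟩ := IsLocalization.mk'_surjective (origin (N := N) (maximalIdeal A)).primeCompl x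
  simp only at hx ⊢
  rw [evZero, IsLocalization.lift_mk'_spec, mul_zero] at hx
  rw [IsLocalization.mk'_eq_mul_mk'_one]
  exact Ideal.mul_mem_right _ _ (algebraMap_mem_varIdeal _ hx)

/-- The value and linear part at the origin, on polynomials. -/
noncomputable def jetP : P →ₐ[A] TrivSqZeroExt A (Fin N → A) :=
  aeval fun i => inr (Pi.single i 1)

theorem fst_jetP (x : P) : (jetP x).fst = constantCoeff x := by
  induction x using MvPolynomial.induction_on with
  | C a => simp [jetP, TrivSqZeroExt.algebraMap_eq_inl]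
  | add p q hp hq => simp [map_add, hp, hq]
  | mul_X p i hp => simp [map_mul, jetP]

/-- The value and linear part at the origin. -/
noncomputable def jet : D →+* TrivSqZeroExt A (Fin N → A) :=
  IsLocalization.lift (M := (origin (N := N) (maximalIdeal A)).primeCompl)
    (g := (jetP : P →ₐ[A] TrivSqZeroExt A (Fin N → A)).toRingHom) fun s => by
      rw [TrivSqZeroExt.isUnit_iff_isUnit_fst]
      show IsUnit (jetP (s : P)).fst
      rw [fst_jetP]
      exact isUnit_constantCoeff s.2

theorem jet_algebraMap (x : P) : jet (algebraMap P D x) = jetP x :=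
  IsLocalization.lift_eq _ x

theorem fst_jet (x : D) : (jet x).fst = evZero x := by
  have : ((fstHom A A (Fin N → A)).toRingHom).comp jet = evZero :=
    IsLocalization.ringHom_ext (origin (N := N) (maximalIdeal A)).primeCompl (RingHom.ext fun x => by
      show (jet (algebraMap P D x)).fst = evZero (algebraMap P D x)
      rw [jet_algebraMap, evZero_algebraMap, fst_jetP])
  exact congr($this x)

theorem snd_jet_mul (a b : D) :
    (jet (a * b)).snd = evZero a • (jet b).snd + evZero b • (jet a).snd := by
  rw [map_mul, snd_mul, fst_jet, fst_jet]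
  simp [op_smul_eq_smul]

theorem snd_jet_X (i : Fin N) : (jet (algebraMap P D (X i))).snd = Pi.single i 1 := by
  simp [jet_algebraMap, jetP]

theorem snd_jet_C (a : A) : (jet (algebraMap P D (C a))).snd = 0 := by
  simp [jet_algebraMap, jetP, TrivSqZeroExt.algebraMap_eq_inl]

/-- An element without value and linear part at the origin. -/
theorem mem_varIdeal_sq {x : D} (h0 : evZero x = 0) (h1 : (jet x).snd = 0) :
    x ∈ varIdeal (maximalIdeal A) ^ 2 := by
  classical
  obtain ⟨c, hc⟩ := (Ideal.mem_span_range_iff_exists_fun).1 (mem_varIdeal_of_evZero h0)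
  have hlin : (jet x).snd = fun i => evZero (c i) := by
    funext j
    rw [← hc, map_sum, snd_sum, Finset.sum_apply, Finset.sum_eq_single j]
    · rw [snd_jet_mul, snd_jet_X, evZero_algebraMap]
      simp
    · intro i _ hij
      rw [snd_jet_mul, snd_jet_X, evZero_algebraMap]
      simp [Pi.single_eq_of_ne (Ne.symm hij)]
    · simp
  rw [← hc, pow_two]
  refine Ideal.sum_mem _ fun i _ => Ideal.mul_mem_mul (mem_varIdeal_of_evZero ?_)
    (Ideal.subset_span ⟨i, rfl⟩)
  exact (congrFun (hlin.symm.trans h1) i)

section Descent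

variable (S : Subalgebra ℤ A)

/-- The prime of `S` under the closed point. -/
noncomputable def primeBelow : Ideal S := (maximalIdeal A).comap S.val.toRingHom

instance : (primeBelow S).IsPrime := by unfold primeBelow; infer_instance

local notation "D₀" => Localization.AtPrime (origin (N := N) (primeBelow S))

theorem map_notMem {s : MvPolynomial (Fin N) S} (hs : s ∈ (origin (N := N) (primeBelow S)).primeCompl) :
    MvPolynomial.map S.val.toRingHom s ∈ (origin (N := N) (maximalIdeal A)).primeCompl := fun h =>
  hs (by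
    show S.val.toRingHom (constantCoeff s) ∈ maximalIdeal A
    rw [← constantCoeff_map]
    exact h)

/-- From a finitely generated model to the local ring at the origin. -/
noncomputable def descMap : D₀ →+* D :=
  IsLocalization.lift (M := (origin (N := N) (primeBelow S)).primeCompl)
    (g := (algebraMap P D).comp (MvPolynomial.map S.val.toRingHom)) fun s =>
      IsLocalization.map_units D ⟨_, map_notMem S s.2⟩

theorem descMap_algebraMap (x : MvPolynomial (Fin N) S) :
    descMap S (algebraMap _ D₀ x) = algebraMap P D (MvPolynomial.map S.val.toRingHom x) :=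
  IsLocalization.lift_eq _ x

theorem mem_varIdeal_desc {x : D₀} (hx : evZero (descMap S x) = 0) : x ∈ varIdeal (primeBelow S) := by
  obtain ⟨⟨q, s⟩, rfl⟩ := IsLocalization.mk'_surjective (origin (N := N) (primeBelow S)).primeCompl x
  have h := congrArg (evZero.comp (descMap S)) (IsLocalization.mk'_spec D₀ q s)
  rw [map_mul] at h
  have hz : (evZero.comp (descMap S)) (IsLocalization.mk' D₀ q s) = 0 := hx
  rw [hz, zero_mul, RingHom.comp_apply, descMap_algebraMap, evZero_algebraMap, constantCoeff_map] at h
  simp only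
  rw [IsLocalization.mk'_eq_mul_mk'_one]
  exact Ideal.mul_mem_right _ _ (algebraMap_mem_varIdeal _ (Subtype.ext h.symm))

/-- Elements come from a finitely generated model. -/
theorem exists_coeffs (x : D) :
    ∃ F : Finset A, ∀ S : Subalgebra ℤ A, (F : Set A) ⊆ S →
      ∃ y : Localization.AtPrime (origin (N := N) (primeBelow S)), descMap S y = x := by
  classical
  obtain ⟨⟨q, s⟩, rfl⟩ := IsLocalization.mk'_surjective (origin (N := N) (maximalIdeal A)).primeCompl x
  refine ⟨q.support.image q.coeff ∪ (s : P).support.image (s : P).coeff, fun S hS => ?_⟩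
  have hlift : ∀ p : P, (∀ d ∈ p.support, p.coeff d ∈ S) →
      ∃ p' : MvPolynomial (Fin N) S, MvPolynomial.map S.val.toRingHom p' = p := by
    intro p hp
    refine ⟨∑ d ∈ p.support.attach, monomial d.1 ⟨p.coeff d.1, hp d.1 d.2⟩, ?_⟩
    rw [map_sum]
    conv_rhs => rw [p.as_sum, ← Finset.sum_attach]
    exact Finset.sum_congr rfl fun d _ => by rw [map_monomial]; rfl
  obtain ⟨q', hq⟩ := hlift q fun d hd => hS
    (Finset.mem_coe.2 (Finset.mem_union_left _ (Finset.mem_image_of_mem _ hd)))
  obtain ⟨s', hs⟩ := hlift s fun d hd => hS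
    (Finset.mem_coe.2 (Finset.mem_union_right _ (Finset.mem_image_of_mem _ hd)))
  have hs' : s' ∈ (origin (N := N) (primeBelow S)).primeCompl := fun h => s.2 (by
    show constantCoeff (s : P) ∈ maximalIdeal A
    rw [← hs, constantCoeff_map]
    exact h)
  refine ⟨IsLocalization.mk' _ q' (⟨s', hs'⟩ : (origin (N := N) (primeBelow S)).primeCompl), ?_⟩
  rw [descMap, IsLocalization.lift_mk'_spec]
  show algebraMap P D (MvPolynomial.map S.val.toRingHom q') =
    algebraMap P D (MvPolynomial.map S.val.toRingHom s') * IsLocalization.mk' D q s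
  rw [hq, hs, IsLocalization.mk'_spec']

/-- Elements of a model whose linear parts generate, generate the ideal of the origin. -/
theorem varIdeal_eq_span_desc [IsNoetherianRing D₀] {ι : Type*} [Fintype ι] (G₀ : ι → D₀)
    (hG0 : ∀ s, evZero (descMap S (G₀ s)) = 0) (c : Fin N → ι → S)
    (hc : ∀ j, ∑ s, (c j s : A) • (jet (descMap S (G₀ s))).snd = Pi.single j 1) :
    varIdeal (primeBelow S) = Ideal.span (Set.range G₀) := by
  classical
  have hG₀I : ∀ s, G₀ s ∈ varIdeal (primeBelow S) := fun s => mem_varIdeal_desc S (hG0 s)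
  refine le_antisymm ?_ (Ideal.span_le.2 (by rintro _ ⟨s, rfl⟩; exact hG₀I s))
  refine Submodule.le_of_le_smul_of_le_jacobson_bot (R := D₀) (M := D₀) (I := varIdeal (primeBelow S))
    ((isNoetherianRing_iff_ideal_fg D₀).1 inferInstance _)
    ((IsLocalRing.le_maximalIdeal (varIdeal_ne_top _)).trans (IsLocalRing.maximalIdeal_le_jacobson _)) ?_
  refine Ideal.span_le.2 ?_
  rintro _ ⟨j, rfl⟩
  let t : D₀ := ∑ s, algebraMap (MvPolynomial (Fin N) S) D₀ (C (c j s)) * G₀ s
  let xj : D₀ := algebraMap (MvPolynomial (Fin N) S) D₀ (X j)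
  have ht : t ∈ Ideal.span (Set.range G₀) :=
    Ideal.sum_mem _ fun s _ => Ideal.mul_mem_left _ _ (Ideal.subset_span ⟨s, rfl⟩)
  have hy0 : xj - t ∈ varIdeal (primeBelow S) := sub_mem (Ideal.subset_span ⟨j, rfl⟩)
    (Ideal.sum_mem _ fun s _ => Ideal.mul_mem_left _ _ (hG₀I s))
  have hlt : (jet (descMap S t)).snd = Pi.single j 1 := by
    rw [← hc j, map_sum, map_sum, snd_sum]
    refine Finset.sum_congr rfl fun s _ => ?_
    rw [map_mul, descMap_algebraMap, map_C, snd_jet_mul, snd_jet_C, evZero_algebraMap, constantCoeff_C,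
      hG0, zero_smul, add_zero]
    rfl
  have hlin : (jet (descMap S (xj - t))).snd = 0 := by
    rw [map_sub, map_sub, snd_sub, hlt, descMap_algebraMap, map_X, snd_jet_X, sub_self]
  obtain ⟨e, he⟩ := (Ideal.mem_span_range_iff_exists_fun).1 hy0
  have hev : ∀ i, evZero (descMap S (e i)) = 0 := by
    intro i
    have := congrFun hlin i
    rw [← he, map_sum, map_sum, snd_sum, Finset.sum_apply] at this
    simp only [map_mul (descMap S), snd_jet_mul, descMap_algebraMap, map_X, snd_jet_X,
      evZero_algebraMap, constantCoeff_X, zero_smul, add_zero] at this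
    rw [Finset.sum_eq_single i (fun l _ hl => by simp [Pi.single_eq_of_ne (Ne.symm hl)]) (by simp)]
      at this
    simpa using this
  have hsq : xj - t ∈ varIdeal (N := N) (primeBelow S) • varIdeal (N := N) (primeBelow S) := by
    rw [← he]
    exact Ideal.sum_mem _ fun i _ => Submodule.smul_mem_smul (mem_varIdeal_desc S (hev i))
      (Ideal.subset_span ⟨i, rfl⟩)
  show xj ∈ Ideal.span (Set.range G₀) ⊔ varIdeal (N := N) (primeBelow S) • varIdeal (N := N) (primeBelow S)
  rw [← add_sub_cancel t xj]
  exact Submodule.add_mem_sup ht hsq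

end Descent

variable {Q : Type u} [CommRing Q] (π : Localization.AtPrime (origin (N := N) (maximalIdeal A)) →+* Q)
  (σ : Q →+* A) {r : ℕ} (f : Fin r → Q)

set_option maxHeartbeats 1000000 in
/-- Lifts of the generators and of a complement in the kernel give the kernel. -/
theorem ker_eq_span (hσ : ∀ x, σ (π x) = evZero x)
    (hf : CAlgX.IsQuasiRegular f) (hker : Ideal.span (Set.range f) = RingHom.ker σ)
    (F : Fin r → D) (hF : ∀ i, π (F i) = f i) {κ : Type} [Finite κ] (g : κ → D) (hg : ∀ k, π (g k) = 0)
    (b : Module.Basis (Fin r ⊕ κ) A (Fin N → A))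
    (hb : ∀ s, b s = (jet (Sum.elim F g s)).snd) :
    RingHom.ker π = Ideal.span (Set.range g) := by
  classical
  haveI := Fintype.ofFinite κ
  refine le_antisymm (fun k hk => ?_) (Ideal.span_le.2 (by rintro _ ⟨j, rfl⟩; exact hg j))
  have hF0 : ∀ i, evZero (F i) = 0 := fun i => by
    rw [← hσ, hF]
    exact RingHom.mem_ker.1 (hker ▸ Ideal.subset_span (Set.mem_range_self i))
  have hg0 : ∀ j, evZero (g j) = 0 := fun j => by rw [← hσ, hg, map_zero]
  have hG0 : ∀ s, evZero (Sum.elim F g s) = 0 := by rintro (i | j) <;> simp [hF0, hg0]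
  -- a noetherian model
  choose Fc hFc using fun x : D => exists_coeffs x
  let T : Finset A := Fc k ∪ (Finset.univ.biUnion fun s => Fc (Sum.elim F g s)) ∪
    Finset.univ.image (fun p : Fin N × (Fin r ⊕ κ) => b.repr (Pi.single p.1 1) p.2)
  let S : Subalgebra ℤ A := Algebra.adjoin ℤ (T : Set A)
  have hTS : (T : Set A) ⊆ S := Algebra.subset_adjoin
  haveI : Algebra.FiniteType ℤ S := (Subalgebra.fg_iff_finiteType S).1 ⟨T, rfl⟩
  haveI : IsNoetherianRing S := Algebra.FiniteType.isNoetherianRing ℤ S
  let D₀ := Localization.AtPrime (origin (N := N) (primeBelow S))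
  haveI : IsNoetherianRing D₀ := IsLocalization.isNoetherianRing
    (origin (N := N) (primeBelow S)).primeCompl D₀ inferInstance
  obtain ⟨k₀, hk₀⟩ := hFc k S fun a ha => hTS (Finset.mem_coe.2
    (Finset.mem_union_left _ (Finset.mem_union_left _ ha)))
  choose G₀ hG₀ using fun s : Fin r ⊕ κ => hFc (Sum.elim F g s) S fun a ha => hTS (Finset.mem_coe.2
    (Finset.mem_union_left _ (Finset.mem_union_right _ (Finset.mem_biUnion.2 ⟨s, Finset.mem_univ _, ha⟩))))
  let c : Fin N → (Fin r ⊕ κ) → S := fun j s => ⟨b.repr (Pi.single j 1) s, hTS (Finset.mem_coe.2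
    (Finset.mem_union_right _ (Finset.mem_image.2 ⟨(j, s), Finset.mem_univ _, rfl⟩)))⟩
  let I₀ := varIdeal (N := N) (primeBelow S)
  -- the model elements generate the ideal of the origin
  have hG₀I : ∀ s, G₀ s ∈ I₀ := fun s => mem_varIdeal_desc S (by rw [hG₀]; exact hG0 s)
  have hgen : I₀ = Ideal.span (Set.range G₀) :=
    varIdeal_eq_span_desc S G₀ (fun s => by rw [hG₀]; exact hG0 s) c fun j => by
      simp only [hG₀, ← hb, c]
      exact b.sum_repr _
  let J₀ := Ideal.span (Set.range fun j => G₀ (Sum.inr j))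
  let F₀ : Fin r → D₀ := fun i => G₀ (Sum.inl i)
  have hI₀ : I₀ = J₀ ⊔ Ideal.span (Set.range F₀) := by
    rw [hgen, ← Ideal.span_union]
    congr 1
    ext x
    constructor
    · rintro ⟨i | j, rfl⟩
      exacts [Or.inr ⟨i, rfl⟩, Or.inl ⟨j, rfl⟩]
    · rintro (⟨j, rfl⟩ | ⟨i, rfl⟩) <;> exact ⟨_, rfl⟩
  let θ : D₀ →+* Q := π.comp (descMap S)
  have hθJ : ∀ x ∈ J₀, θ x = 0 := fun x hx => RingHom.mem_ker.1 (Ideal.span_le.2 (by
    rintro _ ⟨j, rfl⟩
    show π (descMap S (G₀ (Sum.inr j))) = 0
    rw [hG₀]
    exact hg j) hx : x ∈ RingHom.ker θ)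
  have hθF : ∀ i, θ (F₀ i) = f i := fun i => by
    show π (descMap S (G₀ (Sum.inl i))) = f i
    rw [hG₀]
    exact hF i
  -- `k₀` lies in all `J₀ + I₀ ^ d`
  have hstep : ∀ d, k₀ ∈ J₀ ⊔ I₀ ^ d := by
    intro d
    induction d with
    | zero => rw [pow_zero, Ideal.one_eq_top, sup_top_eq]; trivial
    | succ d ih =>
      have hle : J₀ ⊔ I₀ ^ d ≤ J₀ ⊔ Ideal.span (Set.range F₀) ^ d := by
        rw [hI₀]
        exact sup_le le_sup_left (sup_pow_le_sup _ _ _)
      obtain ⟨h, hh, e, he, hsum⟩ := Submodule.mem_sup.1 (hle ih)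
      obtain ⟨H, hH, rfl⟩ := LinType.exists_homogeneous_of_mem_pow F₀ he
      have hev : MvPolynomial.eval f (MvPolynomial.map θ H) = 0 := by
        rw [eval_map, show f = θ ∘ F₀ from funext fun i => (hθF i).symm, ← eval₂_comp]
        have h2 : θ (h + eval F₀ H) = 0 := by
          rw [hsum]
          show π (descMap S k₀) = 0
          rw [hk₀]
          exact hk
        rw [map_add, hθJ h hh, zero_add] at h2
        exact h2
      have hcoef : ∀ m, H.coeff m ∈ I₀ := fun m => by
        refine mem_varIdeal_desc S ?_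
        rw [← hσ]
        refine RingHom.mem_ker.1 ?_
        rw [← hker]
        have := hf d (MvPolynomial.map θ H) (hH.map _) (by rw [hev]; exact zero_mem _) m
        rw [coeff_map] at this
        exact this
      rw [← hsum]
      refine Submodule.add_mem_sup hh ?_
      rw [eval_eq, pow_succ']
      refine Ideal.sum_mem _ fun m hm => Ideal.mul_mem_mul (hcoef m) ?_
      have hdeg : ∑ i ∈ m.support, m i = d := by
        have := hH (mem_support_iff.1 hm)
        rw [Finsupp.weight_apply, Finsupp.sum] at this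
        simpa using this
      rw [← hdeg, ← Finset.prod_pow_eq_pow_sum]
      exact Ideal.prod_mem_prod fun i _ => Ideal.pow_mem_pow (hG₀I _) _
  -- Krull intersection
  have hk₀J : k₀ ∈ J₀ := by
    rcases eq_or_ne J₀ ⊤ with htop | htop
    · exact htop ▸ trivial
    haveI : Nontrivial (D₀ ⧸ J₀) := Ideal.Quotient.nontrivial_iff.2 htop
    haveI : IsLocalRing (D₀ ⧸ J₀) := IsLocalRing.of_surjective' _ Ideal.Quotient.mk_surjective
    rw [← Ideal.Quotient.eq_zero_iff_mem, ← Ideal.mem_bot]
    have hne : I₀.map (Ideal.Quotient.mk J₀) ≠ ⊤ := fun h => varIdeal_ne_top (primeBelow S) (by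
      have h2 := congrArg (Ideal.comap (Ideal.Quotient.mk J₀)) h
      rw [Ideal.comap_map_of_surjective _ Ideal.Quotient.mk_surjective, Ideal.comap_top,
        ← RingHom.ker_eq_comap_bot, Ideal.mk_ker, sup_eq_left.2 (hI₀ ▸ le_sup_left)] at h2
      exact h2)
    rw [← Ideal.iInf_pow_eq_bot_of_isLocalRing (I₀.map (Ideal.Quotient.mk J₀)) hne, Ideal.mem_iInf]
    intro d
    rw [← Ideal.map_pow]
    have := Ideal.mem_map_of_mem (Ideal.Quotient.mk J₀) (hstep d)
    rwa [Ideal.map_sup, Ideal.map_quotient_self, bot_sup_eq] at this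
  have hfin := Ideal.mem_map_of_mem (descMap S) hk₀J
  rw [hk₀, Ideal.map_span] at hfin
  refine Ideal.span_mono ?_ hfin
  rintro _ ⟨_, ⟨j, rfl⟩, rfl⟩
  exact ⟨j, (hG₀ (Sum.inr j)).symm⟩

/-- A complement: the linear parts of the kernel. -/
theorem exists_basis (hπ : Function.Surjective π) (hσ : ∀ x, σ (π x) = evZero x)
    (hf : CAlgX.IsQuasiRegular f) (hker : Ideal.span (Set.range f) = RingHom.ker σ)
    (F : Fin r → D) (hF : ∀ i, π (F i) = f i) :
    ∃ (κ : Type) (_ : Finite κ) (g : κ → D) (_ : ∀ k, π (g k) = 0)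
      (b : Module.Basis (Fin r ⊕ κ) A (Fin N → A)), ∀ s, b s = (jet (Sum.elim F g s)).snd := by
  classical
  have hev : ∀ x, π x = 0 → evZero x = 0 := fun x hx => by rw [← hσ, hx, map_zero]
  have hF0 : ∀ i, evZero (F i) = 0 := fun i => by
    rw [← hσ, hF]
    exact RingHom.mem_ker.1 (hker ▸ Ideal.subset_span (Set.mem_range_self i))
  let v : Fin r → (Fin N → A) := fun i => (jet (F i)).snd
  let L : Submodule A (Fin N → A) :=
    { carrier := {w | ∃ x, π x = 0 ∧ (jet x).snd = w}
      add_mem' := by
        rintro _ _ ⟨x, hx, rfl⟩ ⟨y, hy, rfl⟩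
        exact ⟨x + y, by rw [map_add, hx, hy, add_zero], by rw [map_add, snd_add]⟩
      zero_mem' := ⟨0, map_zero _, by rw [map_zero, snd_zero]⟩
      smul_mem' := by
        rintro a _ ⟨x, hx, rfl⟩
        refine ⟨algebraMap P D (C a) * x, by rw [map_mul, hx, mul_zero], ?_⟩
        rw [snd_jet_mul, evZero_algebraMap, constantCoeff_C, hev x hx, zero_smul, add_zero] }
  have hindep : ∀ a : Fin r → A, ∑ i, a i • v i ∈ L → a = 0 := by
    rintro a ⟨h, hh, hhe⟩
    let x := (∑ i, algebraMap P D (C (a i)) * F i) - h
    have hx0 : evZero x = 0 := by simp [x, hF0, hev h hh]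
    have hx1 : (jet x).snd = 0 := by
      simp only [x, map_sub, map_sum, snd_sub, snd_sum, snd_jet_mul, snd_jet_C, evZero_algebraMap,
        constantCoeff_C, hF0, zero_smul, add_zero, hhe, v, sub_self]
    have hsq : π x ∈ Ideal.span (Set.range f) ^ 2 := by
      refine Ideal.pow_right_mono ?_ 2 (by
        have := Ideal.mem_map_of_mem π (mem_varIdeal_sq hx0 hx1)
        rwa [Ideal.map_pow] at this)
      rw [hker, Ideal.map_le_iff_le_comap]
      refine Ideal.span_le.2 ?_
      rintro _ ⟨i, rfl⟩
      show σ (π (algebraMap P D (X i))) = 0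
      rw [hσ, evZero_algebraMap, constantCoeff_X]
    let H : MvPolynomial (Fin r) Q := ∑ i, C (π (algebraMap P D (C (a i)))) * X i
    have hH : H.IsHomogeneous 1 :=
      IsHomogeneous.sum _ _ _ fun i _ => (isHomogeneous_X Q i).C_mul _
    funext i
    have hc := hf 1 H hH (by
      have : MvPolynomial.eval f H = π x := by simp [H, x, hF, hh, map_sum]
      rw [this]
      exact hsq) (Finsupp.single i 1)
    rw [show H.coeff (Finsupp.single i 1) = π (algebraMap P D (C (a i))) by
      simp [H, coeff_sum, coeff_C_mul, coeff_X', Finsupp.single_left_inj], hker, RingHom.mem_ker,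
      hσ, evZero_algebraMap, constantCoeff_C] at hc
    exact hc
  have hspan : ∀ j : Fin N, ∃ a : Fin r → A, Pi.single j 1 - ∑ i, a i • v i ∈ L := by
    intro j
    have hmem : π (algebraMap P D (X j)) ∈ Ideal.span (Set.range f) := by
      rw [hker, RingHom.mem_ker, hσ, evZero_algebraMap, constantCoeff_X]
    obtain ⟨e, he⟩ := (Ideal.mem_span_range_iff_exists_fun).1 hmem
    choose e' he' using fun i => hπ (e i)
    refine ⟨fun i => evZero (e' i), algebraMap P D (X j) - ∑ i, e' i * F i, ?_, ?_⟩
    · simp [map_sum, he', hF, he]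
    · simp only [map_sub, map_sum, snd_sub, snd_sum, snd_jet_X, snd_jet_mul, hF0, zero_smul, add_zero, v]
  let lv : (Fin r → A) →ₗ[A] (Fin N → A) := Fintype.linearCombination A v
  have hlv : ∀ a, lv a = ∑ i, a i • v i := fun a => Fintype.linearCombination_apply A v a
  have hinj : Function.Injective lv := by
    rw [injective_iff_map_eq_zero]
    exact fun a ha => hindep a (by rw [← hlv, ha]; exact zero_mem _)
  let S := LinearMap.range lv
  have hcompl : IsCompl S L := by
    refine ⟨Submodule.disjoint_def.2 ?_, codisjoint_iff.2 (top_le_iff.1 ?_)⟩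
    · rintro _ ⟨a, rfl⟩ hL
      rw [hindep a (hlv a ▸ hL), map_zero]
    · rw [← (Pi.basisFun A (Fin N)).span_eq, Submodule.span_le]
      rintro _ ⟨j, rfl⟩
      obtain ⟨a, ha⟩ := hspan j
      rw [Pi.basisFun_apply, SetLike.mem_coe,
        show (Pi.single j 1 : Fin N → A) = ∑ i, a i • v i + (Pi.single j 1 - ∑ i, a i • v i) from
          (add_sub_cancel _ _).symm]
      exact Submodule.add_mem_sup ⟨a, hlv a⟩ ha
  let e : (S × L) ≃ₗ[A] (Fin N → A) := Submodule.prodEquivOfIsCompl S L hcompl
  haveI : Module.Projective A L := Module.Projective.of_split (L.subtype) (L.projectionOnto S hcompl.symm)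
    (LinearMap.ext fun x => Submodule.projectionOnto_apply_left hcompl.symm x)
  haveI : Module.Finite A L := Module.Finite.of_surjective (L.projectionOnto S hcompl.symm)
    fun x => ⟨x, Submodule.projectionOnto_apply_left hcompl.symm x⟩
  haveI : Module.Free A L := Module.free_of_flat_of_isLocalRing
  let bL := Module.finBasis A L
  let bS : Module.Basis (Fin r) A S := (Pi.basisFun A (Fin r)).map (LinearEquiv.ofInjective lv hinj)
  choose g hg hg' using fun k => (bL k).2
  refine ⟨Fin (Module.finrank A L), inferInstance, g, hg, (bS.prod bL).map e, ?_⟩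
  rintro (i | k)
  · rw [Module.Basis.map_apply]
    simp [e, bS]
    rw [show ((LinearEquiv.ofInjective lv hinj) (Pi.single i 1) : Fin N → A) = lv (Pi.single i 1) from rfl,
      hlv, Finset.sum_eq_single i]
    · simp [v]
    · intro l _ hl
      simp [Pi.single_eq_of_ne hl]
    · simp
  · rw [Module.Basis.map_apply]
    simp [e, hg']

/-- A local algebra with a section cut out by a quasi-regular sequence is formally smooth. -/
theorem formallySmooth_of_quasiRegular [Algebra A Q] (π : D →ₐ[A] Q) (hπ : Function.Surjective π)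
    (σ : Q →+* A) (hσ : ∀ x, σ (π x) = evZero x)
    (hf : CAlgX.IsQuasiRegular f) (hker : Ideal.span (Set.range f) = RingHom.ker σ) :
    Algebra.FormallySmooth A Q := by
  classical
  choose F hF using fun i => hπ (f i)
  obtain ⟨κ, hκ, g, hg, b, hb⟩ := exists_basis π.toRingHom σ f hπ hσ hf hker F hF
  have hJ := ker_eq_span π.toRingHom σ f hσ hf hker F hF g hg b hb
  haveI := Fintype.ofFinite κ
  letI : Algebra D Q := π.toRingHom.toAlgebra
  haveI : IsScalarTower A D Q := IsScalarTower.of_algebraMap_eq fun a => (π.commutes a).symm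
  haveI : Nontrivial Q := σ.domain_nontrivial
  haveI : IsLocalRing Q := IsLocalRing.of_surjective' π.toRingHom hπ
  haveI : Algebra.FormallyEtale P D :=
    Algebra.FormallyEtale.of_isLocalization (origin (N := N) (maximalIdeal A)).primeCompl
  haveI : Algebra.FormallySmooth A D := Algebra.FormallySmooth.comp A P D
  let bΩ : Module.Basis (Fin N) D (Ω[D⁄A]) :=
    ((KaehlerDifferential.mvPolynomialBasis A (Fin N)).baseChange D).map
      (KaehlerDifferential.tensorKaehlerEquivOfFormallyEtale A P D)
  haveI : Module.Free D (Ω[D⁄A]) := Module.Free.of_basis bΩ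
  haveI : Module.Finite D (Ω[D⁄A]) := Module.Finite.of_basis bΩ
  have hJ' : RingHom.ker (algebraMap D Q) = Ideal.span (Set.range g) := hJ
  rw [Algebra.FormallySmooth.iff_injective_cotangentComplexBaseChange_residueField D hπ
    (hJ' ▸ Submodule.fg_span (Set.finite_range g))]
  let K := ResidueField Q
  let ρ : A →+* K := (residue Q).comp (algebraMap A Q)
  have hres : ∀ x : D, algebraMap D K x = ρ (evZero x) := by
    intro x
    have hx : x - algebraMap A D (evZero x) ∈ varIdeal (maximalIdeal A) := mem_varIdeal_of_evZero (by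
      rw [map_sub, IsScalarTower.algebraMap_apply A P D, evZero_algebraMap, sub_eq_zero]
      exact (constantCoeff_C _ _).symm)
    have h2 : residue Q (π (x - algebraMap A D (evZero x))) = 0 := by
      rw [residue_eq_zero_iff]
      intro hu
      have h3 := hu.map σ
      rw [hσ, map_sub, IsScalarTower.algebraMap_apply A P D, evZero_algebraMap] at h3
      simp at h3
    rw [map_sub, π.commutes, map_sub, sub_eq_zero] at h2
    exact h2
  -- coordinates of the linear part, in the residue field
  let δ : κ → Derivation A D K := fun k =>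
    Derivation.mk'
      { toFun := fun x => ρ (b.repr (jet x).snd (Sum.inr k))
        map_add' := fun x y => by
          rw [map_add, snd_add, map_add, Finsupp.add_apply, map_add]
        map_smul' := fun a x => by
          rw [RingHom.id_apply, Algebra.smul_def, snd_jet_mul,
            IsScalarTower.algebraMap_apply A P D, evZero_algebraMap, MvPolynomial.algebraMap_eq,
            constantCoeff_C, snd_jet_C, smul_zero, add_zero, map_smul, Finsupp.smul_apply,
            smul_eq_mul, map_mul, Algebra.smul_def]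
          rfl }
      fun x y => by
        show ρ _ = x • ρ _ + y • ρ _
        rw [Algebra.smul_def, Algebra.smul_def, hres, hres, snd_jet_mul, map_add, map_smul, map_smul,
          Finsupp.add_apply, Finsupp.smul_apply, Finsupp.smul_apply, map_add, smul_eq_mul, smul_eq_mul,
          map_mul, map_mul]
  rw [injective_iff_map_eq_zero]
  intro x hx
  have hspan : ∀ y : TensorProduct D K (RingHom.ker (algebraMap D Q)),
      ∃ c : κ → K, y = ∑ j, c j ⊗ₜ[D] (⟨g j, hJ' ▸ Ideal.subset_span ⟨j, rfl⟩⟩ :
        RingHom.ker (algebraMap D Q)) := by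
    intro y
    induction y with
    | zero => exact ⟨0, by simp⟩
    | add y z hy hz =>
      obtain ⟨c, rfl⟩ := hy
      obtain ⟨c', rfl⟩ := hz
      exact ⟨c + c', by simp [TensorProduct.add_tmul, Finset.sum_add_distrib]⟩
    | tmul a z =>
      obtain ⟨z, hz⟩ := z
      obtain ⟨e, he⟩ := (Ideal.mem_span_range_iff_exists_fun).1 (hJ' ▸ hz)
      refine ⟨fun j => e j • a, ?_⟩
      rw [Finset.sum_congr rfl fun j _ => TensorProduct.smul_tmul (e j) a _, ← TensorProduct.tmul_sum]
      congr 1
      refine Subtype.ext ?_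
      simpa [Submodule.coe_sum] using he.symm
  obtain ⟨c, rfl⟩ := hspan x
  have hc : c = 0 := by
    funext l
    have h := congrArg (LinearMap.liftBaseChange K (δ l).liftKaehlerDifferential) hx
    simp only [map_sum, KaehlerDifferential.cotangentComplexBaseChange_tmul, map_zero, map_smul,
      KaehlerDifferential.kerToTensor_apply, LinearMap.liftBaseChange_tmul, Derivation.liftKaehlerDifferential_comp_D] at h
    rw [Finset.sum_eq_single l ?_ (by simp)] at h
    · simp only [δ, Derivation.mk', Derivation.mk_coe, LinearMap.coe_mk, AddHom.coe_mk] at h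
      rw [show (jet (g l)).snd = b (Sum.inr l) from (hb (Sum.inr l)).symm] at h
      simpa using h
    · intro j _ hj
      simp only [δ, Derivation.mk', Derivation.mk_coe, LinearMap.coe_mk, AddHom.coe_mk]
      rw [show (jet (g j)).snd = b (Sum.inr j) from (hb (Sum.inr j)).symm]
      simp [Finsupp.single_eq_of_ne, hj, Ne.symm hj]
  simp [hc]

end Groth.Agent.CIntLib
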