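import Groth.Agent.CIntLib.QRegJac
import Groth.Agent.CIntLib.SmoothNhd
import Groth.Agent.AlgSpMor.RegImmSch
import Groth.Agent.Div57.ImmKinds
import Groth.Agent.KRegLib.Smooth
import Groth.Agent.KRegLib.TwoImm
import Groth.Agent.S8905

/-!
# Sections: smoothness is quasi-regularity
-/

set_option autoImplicit false
set_option linter.style.haveILetI false
set_option backward.isDefEq.respectTransparency.types false

universe u

open MvPolynomial IsLocalRing CategoryTheory CategoryTheory.Limits AlgebraicGeometry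

namespace Groth.Agent.CIntLib

/-- A quasi-regular section is smooth at its points. -/
theorem isSmoothAt_of_quasiRegular_section {A B : Type u} [CommRing A] [CommRing B] [Algebra A B]
    [Algebra.FiniteType A B] (σ : B →ₐ[A] A) (p : Ideal A) [p.IsPrime] {r : ℕ} (f : Fin r → B)
    (hf : CAlgX.IsQuasiRegular f) (hker : Ideal.span (Set.range f) = RingHom.ker σ.toRingHom) :
    Algebra.IsSmoothAt A (p.comap σ.toRingHom) := by
  classical
  let q : Ideal B := p.comap σ.toRingHom
  let A' := Localization.AtPrime p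
  let Q := Localization.AtPrime q
  have hpq : p = q.comap (algebraMap A B) := by
    ext a
    show a ∈ p ↔ σ (algebraMap A B a) ∈ p
    rw [σ.commutes]
    rfl
  letI : Algebra A' Q := (Localization.localRingHom p q (algebraMap A B) hpq).toAlgebra
  haveI : IsScalarTower A A' Q := IsScalarTower.of_algebraMap_eq fun a => by
    rw [IsScalarTower.algebraMap_apply A B Q]
    exact (Localization.localRingHom_to_map p q (algebraMap A B) hpq a).symm
  let σQ : Q →+* A' := Localization.localRingHom q p σ.toRingHom rfl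
  have hσQ : ∀ b, σQ (algebraMap B Q b) = algebraMap A A' (σ b) := fun b =>
    Localization.localRingHom_to_map q p σ.toRingHom rfl b
  have hσQA : ∀ a : A', σQ (algebraMap A' Q a) = a := by
    have h : σQ.comp (algebraMap A' Q) = RingHom.id A' :=
      IsLocalization.ringHom_ext p.primeCompl (RingHom.ext fun a => by
        show σQ (algebraMap A' Q (algebraMap A A' a)) = algebraMap A A' a
        rw [← IsScalarTower.algebraMap_apply, IsScalarTower.algebraMap_apply A B Q, hσQ, σ.commutes]
        rfl)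
    exact fun a => congr($h a)
  -- generators vanishing on the section
  obtain ⟨N, h, hh⟩ := Algebra.FiniteType.iff_quotient_mvPolynomial''.1 ‹Algebra.FiniteType A B›
  let t : Fin N → B := fun i => h (X i) - algebraMap A B (σ (h (X i)))
  have ht : ∀ i, σ (t i) = 0 := fun i => by
    simp only [t, map_sub, AlgHom.commutes, Algebra.algebraMap_self, RingHom.id_apply, sub_self]
  let φ : MvPolynomial (Fin N) A →ₐ[A] B := aeval t
  have hφ : Function.Surjective φ := by
    intro b
    obtain ⟨P, rfl⟩ := hh b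
    refine ⟨aeval (fun i => X i + C (σ (h (X i)))) P, ?_⟩
    have : φ.comp (aeval fun i => X i + C (σ (h (X i)))) = h :=
      MvPolynomial.algHom_ext fun i => by simp [φ, t]
    exact congr($this P)
  let ψ : MvPolynomial (Fin N) A' →ₐ[A'] Q := aeval fun i => algebraMap B Q (t i)
  have hψσ : ∀ x, σQ (ψ x) = constantCoeff x := by
    have : σQ.comp ψ.toRingHom = constantCoeff :=
      MvPolynomial.ringHom_ext (fun a => by simp [ψ, hσQA]) fun i => by simp [ψ, hσQ, ht]
    exact fun x => congr($this x)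
  haveI : IsLocalHom σQ := Localization.isLocalHom_localRingHom _ _ _ _
  have hunit : ∀ s : (origin (N := N) (maximalIdeal A')).primeCompl,
      IsUnit (ψ.toRingHom (s : MvPolynomial (Fin N) A')) := fun s =>
    isUnit_of_map_unit σQ _ (show IsUnit (σQ (ψ (s : MvPolynomial (Fin N) A'))) by
      rw [hψσ]
      exact isUnit_constantCoeff s.2)
  let D := Localization.AtPrime (origin (N := N) (maximalIdeal A'))
  let π : D →ₐ[A'] Q :=
    { IsLocalization.lift hunit with
      commutes' := fun a => by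
        show IsLocalization.lift hunit (algebraMap A' D a) = _
        rw [IsScalarTower.algebraMap_apply A' (MvPolynomial (Fin N) A') D, IsLocalization.lift_eq]
        exact ψ.commutes a }
  have hπσ : ∀ x, σQ (π x) = evZero x := by
    have : σQ.comp π.toRingHom = evZero :=
      IsLocalization.ringHom_ext (origin (N := N) (maximalIdeal A')).primeCompl (RingHom.ext fun x => by
        show σQ (IsLocalization.lift hunit (algebraMap _ D x)) = evZero (algebraMap _ D x)
        rw [IsLocalization.lift_eq, evZero_algebraMap]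
        exact hψσ x)
    exact fun x => congr($this x)
  have hψφ : ∀ P, ψ (MvPolynomial.map (algebraMap A A') P) = algebraMap B Q (φ P) := by
    have : ψ.toRingHom.comp (MvPolynomial.map (algebraMap A A')) = (algebraMap B Q).comp φ.toRingHom :=
      MvPolynomial.ringHom_ext (fun a => by
        simp only [RingHom.comp_apply, AlgHom.toRingHom_eq_coe, RingHom.coe_coe, MvPolynomial.map_C, φ, ψ,
          aeval_C]
        rw [← IsScalarTower.algebraMap_apply A A' Q, IsScalarTower.algebraMap_apply A B Q])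
        fun i => by simp [φ, ψ]
    exact fun P => congr($this P)
  have hπ : Function.Surjective π := by
    intro x
    obtain ⟨⟨b, s⟩, rfl⟩ := IsLocalization.mk'_surjective q.primeCompl x
    obtain ⟨P, hP⟩ := hφ b
    obtain ⟨P', hP'⟩ := hφ (s : B)
    have hs : MvPolynomial.map (algebraMap A A') P' ∈ (origin (N := N) (maximalIdeal A')).primeCompl := by
      intro hm
      have h2 : IsUnit (σQ (algebraMap B Q (s : B))) := (IsLocalization.map_units Q s).map σQ
      rw [← hP', ← hψφ, hψσ] at h2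
      exact h2 |> fun hu => (mem_maximalIdeal _).1 hm hu
    refine ⟨IsLocalization.mk' D (MvPolynomial.map (algebraMap A A') P)
      (⟨_, hs⟩ : (origin (N := N) (maximalIdeal A')).primeCompl), ?_⟩
    show IsLocalization.lift hunit _ = _
    rw [IsLocalization.lift_mk'_spec]
    show ψ (MvPolynomial.map (algebraMap A A') P) = ψ (MvPolynomial.map (algebraMap A A') P') * IsLocalization.mk' Q b s
    rw [hψφ, hψφ, hP, hP', IsLocalization.mk'_spec']
  -- the sequence in the local ring
  let f' : Fin r → Q := fun i => algebraMap B Q (f i)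
  have hker' : Ideal.span (Set.range f') = RingHom.ker σQ := by
    refine le_antisymm (Ideal.span_le.2 ?_) fun x hx => ?_
    · rintro _ ⟨i, rfl⟩
      show σQ (algebraMap B Q (f i)) = 0
      rw [hσQ, show σ (f i) = 0 from RingHom.mem_ker.1 (hker ▸ Ideal.subset_span ⟨i, rfl⟩), map_zero]
    · obtain ⟨⟨b, s⟩, rfl⟩ := IsLocalization.mk'_surjective q.primeCompl x
      simp only at hx ⊢
      have h0 : algebraMap A A' (σ b) = 0 := by
        have h1 := congrArg σQ (IsLocalization.mk'_spec Q b s)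
        rw [map_mul, RingHom.mem_ker.1 hx, zero_mul, hσQ] at h1
        exact h1.symm
      obtain ⟨⟨a, ha⟩, hab⟩ := (IsLocalization.map_eq_zero_iff p.primeCompl A' _).1 h0
      have hmem : algebraMap A B a * b ∈ Ideal.span (Set.range f) := by
        rw [hker, RingHom.mem_ker]
        show σ (algebraMap A B a * b) = 0
        rw [map_mul, σ.commutes]
        exact hab
      have h3 := Ideal.mem_map_of_mem (algebraMap B Q) hmem
      rw [Ideal.map_span, ← Set.range_comp] at h3
      have hua : IsUnit (algebraMap B Q (algebraMap A B a)) := IsLocalization.map_units Q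
        (⟨algebraMap A B a, fun hm => ha (hpq ▸ hm)⟩ : q.primeCompl)
      rw [map_mul, Ideal.unit_mul_mem_iff_mem _ hua] at h3
      rw [IsLocalization.mk'_eq_mul_mk'_one]
      exact Ideal.mul_mem_right _ _ h3
  have hqf : CAlgX.IsQuasiRegular f' := by
    haveI : Module.Flat B Q := IsLocalization.flat _ q.primeCompl
    have hl : (List.ofFn f).map (algebraMap B Q) = List.ofFn f' := List.map_ofFn
    have hne : Ideal.ofList ((List.ofFn f).map (algebraMap B Q)) ≠ ⊤ := by
      rw [hl]
      show Ideal.span {y | y ∈ List.ofFn f'} ≠ ⊤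
      rw [show {y | y ∈ List.ofFn f'} = Set.range f' by ext y; simp [List.mem_ofFn], hker']
      exact RingHom.ker_ne_top σQ
    have h1 := Div57.seq_flat (S := Q) RegImm.Kind.quasi (List.ofFn f) (Div57.quasi_ofFn.2 hf) hne
    rw [hl] at h1
    exact Div57.quasi_ofFn.1 h1
  haveI : Algebra.FormallySmooth A' Q := formallySmooth_of_quasiRegular f' π hπ σQ hπσ hqf hker'
  haveI : Algebra.FormallyEtale A A' := Algebra.FormallyEtale.of_isLocalization p.primeCompl
  show Algebra.FormallySmooth A Q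
  exact Algebra.FormallySmooth.comp A A' Q

theorem isExact_empty {R : Type u} [CommRing R] (g : Fin 0 → R) : WiebeLib.IsExact g := fun k x _ => by
  haveI := WiebeLib.subsingleton_ko R (Nat.succ_pos k)
  exact ⟨0, Subsingleton.elim _ _⟩

theorem appLE_of_eq_id {Z : Scheme.{u}} {t : Z ⟶ Z} (ht : t = 𝟙 Z) (W : Z.Opens) (h : W ≤ t ⁻¹ᵁ W)
    (a : Γ(Z, W)) : t.appLE W W h a = a := by
  subst ht
  show ((𝟙 Z : Z ⟶ Z).app W ≫ Z.presheaf.map (homOfLE h).op) a = a
  rw [Scheme.Hom.id_app, show (homOfLE h).op = 𝟙 _ from Subsingleton.elim _ _]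
  exact congr($(Z.presheaf.map_id _) a)

variable {X S : Scheme.{u}} (f : X ⟶ S) (u : S ⟶ X)

/-- A chart at a point of a section. -/
theorem exists_section_chart (hu : u ≫ f = 𝟙 S) {U : X.Opens} (hU : IsAffineOpen U) {V : S.Opens}
    (hV : IsAffineOpen V) (e : U ≤ f ⁻¹ᵁ V) (s : S) (hs : u s ∈ U) :
    ∃ (W : S.Opens) (D : X.Opens) (e' : D ≤ f ⁻¹ᵁ W) (g : Γ(X, U)), IsAffineOpen W ∧ u ⁻¹ᵁ D = W ∧
      D = X.basicOpen g ∧ u s ∈ D ∧ W ≤ u ⁻¹ᵁ U ⊓ V := by
  have hfu : ∀ y : S, f (u y) = y := fun y => congr($(hu) y)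
  have hsV : s ∈ V := hfu s ▸ e hs
  obtain ⟨a, ha, hsa⟩ := hV.exists_basicOpen_le (V := u ⁻¹ᵁ U) ⟨s, hs⟩ hsV
  refine ⟨S.basicOpen a, X.basicOpen (f.appLE V U e a), ?_, _, hV.basicOpen a, ?_, rfl, ?_,
    le_inf ha (S.basicOpen_le a)⟩
  · rw [Scheme.basicOpen_appLE]; exact inf_le_right
  · rw [Scheme.basicOpen_appLE]
    ext y
    show u y ∈ U ∧ f (u y) ∈ S.basicOpen a ↔ y ∈ S.basicOpen a
    rw [hfu]
    exact ⟨And.right, fun h => ⟨ha h, h⟩⟩
  · rw [Scheme.basicOpen_appLE]
    exact ⟨hs, by show f (u s) ∈ S.basicOpen a; rw [hfu]; exact hsa⟩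

theorem mem_smoothLocus_iff_quasiRegular [LocallyOfFinitePresentation f] (hu : u ≫ f = 𝟙 S) (s : S) :
    u.base s ∈ f.smoothLocus ↔
      ∃ V : S.Opens, s ∈ V ∧ RegImm.IsRegularImmersion RegImm.Kind.quasi (V.ι ≫ u) := by
  haveI : IsImmersion (u ≫ f) := by rw [hu]; infer_instance
  haveI : IsImmersion u := IsImmersion.of_comp u f
  constructor
  · intro hx
    obtain ⟨V, hV, U, hU, e, hxU, hsm⟩ :=
      exists_smooth_of_formallySmooth_stalk f (u s) ((Scheme.Hom.mem_smoothLocus).1 hx)
    obtain ⟨W, D, e', g, hW, huD, hDg, hsD, -⟩ := exists_section_chart f u hu hU hV e s hxU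
    have hD : IsAffineOpen D := hDg ▸ hU.basicOpen g
    haveI : IsAffine (D : Scheme.{u}) := hD
    haveI : IsAffine (W : Scheme.{u}) := hW
    letI := (f.appLE W D e').hom.toAlgebra
    haveI : Algebra.Smooth Γ(S, W) Γ(X, D) := by
      haveI : IsAffine (V : Scheme.{u}) := hV
      haveI : IsAffine (U : Scheme.{u}) := hU
      have h1 : Smooth (f.resLE V U e) := by
        rw [HasRingHomProperty.iff_of_isAffine (P := @Smooth)]
        exact (RingHom.Smooth.propertyIsLocal.respectsIso.arrow_mk_iso_iff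
          (arrowResLEAppIso f V U e)).mpr hsm
      haveI : Smooth (U.ι ≫ f) := by rw [← Scheme.Hom.resLE_comp_ι f e]; infer_instance
      have hDU : D ≤ U := hDg ▸ X.basicOpen_le g
      haveI : Smooth (D.ι ≫ f) := by rw [← X.homOfLE_ι hDU, Category.assoc]; infer_instance
      have h2 : Smooth (f.resLE W D e') := by
        have h3 : Smooth (f.resLE W D e' ≫ W.ι) := by rw [Scheme.Hom.resLE_comp_ι]; infer_instance
        exact MorphismProperty.of_postcomp (W := @Smooth) (W' := @IsOpenImmersion) _ W.ι inferInstance h3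
      rw [HasRingHomProperty.iff_of_isAffine (P := @Smooth)] at h2
      exact (RingHom.Smooth.propertyIsLocal.respectsIso.arrow_mk_iso_iff
        (arrowResLEAppIso f W D e')).mp h2
    let σ : Γ(X, D) →ₐ[Γ(S, W)] Γ(S, W) :=
      ⟨(u.appLE D W huD.ge).hom, fun a => by
        show (u.appLE D W huD.ge) (f.appLE W D e' a) = a
        rw [← CommRingCat.comp_apply, Scheme.Hom.appLE_comp_appLE]
        exact appLE_of_eq_id hu W _ a⟩
    have hσs : Function.Surjective σ := fun a => ⟨algebraMap _ _ a, σ.commutes a⟩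
    haveI : IsClosedImmersion (u ∣_ D) := by
      haveI : IsAffine ((u ⁻¹ᵁ D) : Scheme.{u}) := by rw [huD]; exact hW
      haveI : IsSeparated (f.resLE W D e') := inferInstance
      have hc : (u ∣_ D) ≫ f.resLE W D e' = S.homOfLE huD.le := by
        rw [← cancel_mono W.ι, Category.assoc, Scheme.Hom.resLE_comp_ι, ← Category.assoc,
          morphismRestrict_ι, Category.assoc, hu, Category.comp_id, Scheme.homOfLE_ι]
      haveI : IsIso (S.homOfLE huD.le) := ⟨S.homOfLE huD.ge, by simp, by simp⟩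
      haveI : IsClosedImmersion ((u ∣_ D) ≫ f.resLE W D e') := by rw [hc]; infer_instance
      exact IsClosedImmersion.of_comp (u ∣_ D) (f.resLE W D e')
    let P := (hD.primeIdealOf ⟨u s, hsD⟩).asIdeal
    have hgen : ∀ (O : S.Opens) (hO : O ≤ u ⁻¹ᵁ D), O = u ⁻¹ᵁ D →
        RingHom.ker (u.appLE D O hO).hom = RingHom.ker (u.app D).hom := by
      rintro _ hO rfl
      rw [← Scheme.Hom.app_eq_appLE]
    have hker : RingHom.ker σ.toRingHom = RingHom.ker (u.app D).hom := hgen W huD.ge huD.symm
    have hP : RingHom.ker σ.toRingHom ≤ P := by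
      have hsW : s ∈ W := huD.le hsD
      rw [show P = (hW.primeIdealOf ⟨s, hsW⟩).asIdeal.comap σ.toRingHom from
        (congrArg PrimeSpectrum.asIdeal
          (IsAffineOpen.comap_primeIdealOf_appLE (f := u) D hD W hW huD.ge hsW)).symm]
      exact Ideal.ker_le_comap _
    have hK : KRegLib.KReg (RingHom.ker σ.toRingHom) P := by
      refine (KRegLib.kReg_smooth_iff (C := Γ(S, W)) (R := Γ(S, W)) (fun a => ⟨a, rfl⟩) σ P hP).2 ?_
      refine ⟨1, fun h1 => (inferInstance : (P.comap (algebraMap Γ(S, W) Γ(X, D))).IsPrime).ne_top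
        ((Ideal.eq_top_iff_one _).2 h1), 0, Fin.elim0, isExact_empty _, ?_⟩
      rw [show RingHom.ker (algebraMap Γ(S, W) Γ(S, W)) = ⊥ from
        (RingHom.injective_iff_ker_eq_bot _).1 Function.injective_id]
      simp
    rw [hker] at hK
    obtain ⟨V', hsV', hreg⟩ := KRegLib.exists_regImm_nhd_of_kReg u s hD hsD hK
    obtain ⟨h₁, h₂⟩ := AlgSpMor.isRegularImmersion_mono (V'.ι ≫ u)
    exact ⟨V', hsV', h₂ (h₁ hreg)⟩
  · rintro ⟨V₀, hsV₀, -, hreg⟩
    let i := V₀.ι ≫ u
    have h := (AlgSpMor.isSeqAt_iff (k := .quasi) (Or.inr rfl) i ⟨s, hsV₀⟩).1 (hreg ⟨s, hsV₀⟩)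
    obtain ⟨U, hU, hsU, hci, n, rs, hrs, hker⟩ := h
    haveI := hci
    obtain ⟨V, hV, hsV, hVle⟩ := exists_isAffineOpen_mem_and_subset (x := s) (U := V₀) hsV₀
    have hfu : ∀ y : S, f (u y) = y := fun y => congr($(hu) y)
    obtain ⟨g₀, hg₀, hsg₀⟩ := hU.exists_basicOpen_le (V := f ⁻¹ᵁ V)
      ⟨u s, by show f (u s) ∈ V; rw [hfu]; exact hsV⟩ hsU
    obtain ⟨r₀, hr₀, hker₀⟩ := AlgSpMor.seq_restrict_basicOpen i hU g₀ hrs hker
    haveI := KRegLib.isClosedImmersion_restrict_of_le i (X.basicOpen_le g₀)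
    obtain ⟨W, D, e', g, hW, huD, hDg, hsD, hWle⟩ :=
      exists_section_chart f u hu (hU.basicOpen g₀) hV hg₀ s hsg₀
    subst hDg
    obtain ⟨r₁, hr₁, hker₁⟩ := AlgSpMor.seq_restrict_basicOpen i (hU.basicOpen g₀) g hr₀ hker₀
    have hD : IsAffineOpen (X.basicOpen g) := (hU.basicOpen g₀).basicOpen g
    have hle : u ⁻¹ᵁ X.basicOpen g ≤ V₀ := fun y hy => hVle ((hWle (huD.le hy)).2)
    rw [KRegLib.ker_app_comp_ι u V₀ hle] at hker₁
    rw [Scheme.Hom.mem_smoothLocus, formallySmooth_stalkMap_iff W hW (X.basicOpen g) hD e' hsD]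
    letI := (f.appLE W (X.basicOpen g) e').hom.toAlgebra
    haveI : Algebra.FinitePresentation Γ(S, W) Γ(X, X.basicOpen g) := f.finitePresentation_appLE hW hD e'
    let σ : Γ(X, X.basicOpen g) →ₐ[Γ(S, W)] Γ(S, W) :=
      ⟨(u.appLE (X.basicOpen g) W huD.ge).hom, fun a => by
        show (u.appLE (X.basicOpen g) W huD.ge) (f.appLE W (X.basicOpen g) e' a) = a
        rw [← CommRingCat.comp_apply, Scheme.Hom.appLE_comp_appLE]
        exact appLE_of_eq_id hu W _ a⟩
    have hgen : ∀ (O : S.Opens) (hO : O ≤ u ⁻¹ᵁ X.basicOpen g), O = u ⁻¹ᵁ X.basicOpen g →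
        RingHom.ker (u.appLE (X.basicOpen g) O hO).hom = RingHom.ker (u.app (X.basicOpen g)).hom := by
      rintro _ hO rfl
      rw [← Scheme.Hom.app_eq_appLE]
    have hsW : s ∈ W := huD.le hsD
    have h2 := isSmoothAt_of_quasiRegular_section σ (hW.primeIdealOf ⟨s, hsW⟩).asIdeal r₁ hr₁
      (hker₁.symm.trans (hgen W huD.ge huD.symm).symm)
    have hcomap : (hW.primeIdealOf ⟨s, hsW⟩).asIdeal.comap σ.toRingHom = (hD.primeIdealOf ⟨u s, hsD⟩).asIdeal :=
      congrArg PrimeSpectrum.asIdeal (IsAffineOpen.comap_primeIdealOf_appLE (f := u) _ hD W hW huD.ge hsW)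
    simp only [hcomap] at h2
    exact h2

end Groth.Agent.CIntLib
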