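import Mathlib
import Groth.Agent.LinType.Basic

/-!
# Smoothness near a regularly cut out smooth closed subscheme

If `B → B'` is a surjection of local algebras whose kernel is generated by a weakly regular
sequence and `B'` is formally smooth over `R`, then so is `B` (for `B` essentially of finite
presentation). No Noetherian or flatness hypothesis.
-/

namespace Groth.Agent.CIntLib

open MvPolynomial TensorProduct IsLocalRing

/-- A linear relation between lifts of a weakly regular sequence lies in `ker * (f)`. -/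
lemma sum_mul_mem_ker_mul {P B : Type*} [CommRing P] [CommRing B] {n : ℕ} (π : P →+* B)
    (hπ : Function.Surjective π) (f : Fin n → P)
    (hr : RingTheory.Sequence.IsWeaklyRegular B (List.ofFn fun i => π (f i)))
    (c : Fin n → P) (h : π (∑ i, c i * f i) = 0) :
    ∑ i, c i * f i ∈ RingHom.ker π * Ideal.span (Set.range f) := by
  classical
  let Q : MvPolynomial (Fin n) P := ∑ i, MvPolynomial.C (c i) * X i
  have hQ : map π Q ∈ LinType.rel (fun i => π (f i)) := by
    refine LinType.mem_rel_of_homogeneous _ hr (d := 1) ?_ ?_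
    · refine IsHomogeneous.map ?_ π
      exact IsHomogeneous.sum _ _ _ fun i _ => IsHomogeneous.C_mul (isHomogeneous_X P i) (c i)
    · simpa [Q, map_sum, map_mul] using h
  have hsurj : Function.Surjective (map (σ := Fin n) π) := map_surjective π hπ
  have hrel : LinType.rel (fun i => π (f i)) = (LinType.rel f).map (map π) := by
    rw [LinType.rel, LinType.rel, Ideal.map_span]
    congr 1
    ext q
    constructor
    · rintro ⟨i, j, rfl⟩
      exact ⟨_, ⟨i, j, rfl⟩, by simp⟩
    · rintro ⟨_, ⟨i, j, rfl⟩, rfl⟩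
      exact ⟨i, j, by simp⟩
  rw [hrel, Ideal.mem_map_iff_of_surjective _ hsurj] at hQ
  obtain ⟨R, hR, hRQ⟩ := hQ
  have hev : aeval f R = 0 ∧ constantCoeff R = 0 := by
    have hle : LinType.rel f ≤ RingHom.ker (aeval f : MvPolynomial (Fin n) P →ₐ[P] P) ⊓
        RingHom.ker (constantCoeff : MvPolynomial (Fin n) P →+* P) := by
      rw [LinType.rel, Ideal.span_le]
      rintro q ⟨i, j, rfl⟩
      exact ⟨by simp; ring, by simp⟩
    exact hle hR
  set N := Q - R
  have hN : ∀ m, N.coeff m ∈ RingHom.ker π := by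
    intro m
    have : map π N = 0 := by rw [map_sub, hRQ, sub_self]
    rw [RingHom.mem_ker, ← coeff_map, this, coeff_zero]
  have hN0 : N.coeff 0 = 0 := by
    rw [← constantCoeff_eq, map_sub, hev.2, sub_zero]
    simp [Q]
  have hsum : ∑ i, c i * f i = aeval f N := by
    rw [map_sub, hev.1, sub_zero]
    simp [Q, map_sum, map_mul]
  rw [hsum, N.as_sum, map_sum]
  refine Ideal.sum_mem _ fun m hm => ?_
  have hm0 : m ≠ 0 := fun e => mem_support_iff.mp hm (e ▸ hN0)
  obtain ⟨i, hi⟩ : ∃ i, m i ≠ 0 := by simpa using Finsupp.ne_iff.mp hm0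
  rw [aeval_monomial, Algebra.algebraMap_self, RingHom.id_apply]
  refine Ideal.mul_mem_mul (hN m) ?_
  rw [Finsupp.prod_fintype _ _ (by simp), ← Finset.mul_prod_erase _ _ (Finset.mem_univ i)]
  exact Ideal.mul_mem_right _ _ (Ideal.pow_mem_of_mem (Ideal.span (Set.range f))
    (Ideal.subset_span ⟨i, rfl⟩) _ (Nat.pos_of_ne_zero hi))

/-- Tensoring with a quotient field detects membership in `q • M`. -/
lemma mem_smul_of_one_tmul_eq_zero {P k M : Type*} [CommRing P] [CommRing k] [Algebra P k]
    [AddCommGroup M] [Module P M] (hk : Function.Surjective (algebraMap P k)) (a : M)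
    (h : (1 : k) ⊗ₜ[P] a = 0) : a ∈ RingHom.ker (algebraMap P k) • (⊤ : Submodule P M) := by
  let q := RingHom.ker (algebraMap P k)
  let e : (P ⧸ q) ≃ₐ[P] k := Ideal.quotientKerAlgEquivOfSurjective (f := Algebra.ofId P k) hk
  have h1 : (1 : P ⧸ q) ⊗ₜ[P] a = 0 := by
    have := congrArg (e.symm.toLinearMap.rTensor M) h
    simpa using this
  have h2 := congrArg (quotTensorEquivQuotSMul M q) h1
  rw [map_zero, ← (Ideal.Quotient.mk q).map_one, quotTensorEquivQuotSMul_mk_tmul, one_smul,
    Submodule.Quotient.mk_eq_zero] at h2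
  exact h2

/-- Key algebra: formal smoothness lifts along a quotient by a weakly regular sequence. -/
theorem formallySmooth_of_regular_quotient {R P B B' : Type*} [CommRing R] [CommRing P]
    [CommRing B] [IsLocalRing B] [CommRing B'] [Algebra R P] [Algebra R B] [Algebra R B'] [Algebra P B]
    [IsScalarTower R P B] [Algebra.FormallySmooth R P]
    [Module.Free P Ω[P⁄R]] [Module.Finite P Ω[P⁄R]]
    (hP : Function.Surjective (algebraMap P B)) (hK : (RingHom.ker (algebraMap P B)).FG)
    {n : ℕ} (f : Fin n → P) (hmax : ∀ i, algebraMap P B (f i) ∈ maximalIdeal B)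
    (hreg : RingTheory.Sequence.IsWeaklyRegular B (List.ofFn fun i => algebraMap P B (f i)))
    (g : B →ₐ[R] B') (hg : Function.Surjective g)
    (hker : RingHom.ker g = Ideal.span (Set.range fun i => algebraMap P B (f i)))
    [Algebra.FormallySmooth R B'] : Algebra.FormallySmooth R B := by
  classical
  have hle : RingHom.ker g ≤ maximalIdeal B := by
    rw [hker, Ideal.span_le]
    rintro _ ⟨i, rfl⟩
    exact hmax i
  have : Nontrivial B' := by
    refine nontrivial_of_ne (0 : B') 1 fun e => ?_
    have h1 : (1 : B) ∈ RingHom.ker g := by rw [RingHom.mem_ker, map_one, e]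
    exact (maximalIdeal.isMaximal B).ne_top ((Ideal.eq_top_iff_one _).mpr (hle h1))
  have : IsLocalRing B' := .of_surjective' g.toRingHom hg
  algebraize [g.toRingHom, g.toRingHom.comp (algebraMap P B)]
  have : IsScalarTower R B B' := IsScalarTower.of_algebraMap_eq fun x => (g.commutes x).symm
  have : IsScalarTower R P B' := IsScalarTower.of_algebraMap_eq fun x => by
    rw [IsScalarTower.algebraMap_apply P B B', ← IsScalarTower.algebraMap_apply R P B,
      ← IsScalarTower.algebraMap_apply R B B']
  let k := ResidueField B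
  let φ : B' →+* k := RingHom.liftOfSurjective g.toRingHom hg
    ⟨residue B, fun x hx => RingHom.mem_ker.mpr ((residue_eq_zero_iff x).mpr (hle hx))⟩
  have hφ : ∀ x, φ (g x) = residue B x := fun x =>
    RingHom.liftOfRightInverse_comp_apply _ _ _ _ x
  let : Algebra B' k := φ.toAlgebra
  have : IsScalarTower P B' k := IsScalarTower.of_algebraMap_eq fun x => by
    rw [IsScalarTower.algebraMap_apply P B k]
    exact (hφ _).symm
  have hP' : Function.Surjective (algebraMap P B') := hg.comp hP
  have hK'eq : RingHom.ker (algebraMap P B') =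
      RingHom.ker (algebraMap P B) ⊔ Ideal.span (Set.range f) := by
    rw [IsScalarTower.algebraMap_eq P B B']
    ext x
    rw [RingHom.mem_ker, RingHom.comp_apply]
    change g (algebraMap P B x) = 0 ↔ _
    have e := Ideal.comap_map_of_surjective _ hP (Ideal.span (Set.range f))
    rw [Ideal.map_span, ← Set.range_comp, ← RingHom.ker_eq_comap_bot, sup_comm] at e
    rw [← RingHom.mem_ker, hker, ← e]
    rfl
  have hK' : (RingHom.ker (algebraMap P B')).FG := by
    rw [hK'eq]
    exact Submodule.FG.sup hK (Submodule.fg_span (Set.finite_range f))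
  have hm' : maximalIdeal B' ≤ RingHom.ker (algebraMap B' k) := by
    intro y hy
    obtain ⟨x, rfl⟩ := hg y
    rw [RingHom.mem_ker]
    change φ (g x) = 0
    rw [hφ, residue_eq_zero_iff]
    exact fun hu => hy (hu.map g)
  have hinj := (Algebra.FormallySmooth.iff_injective_cotangentComplexBaseChange
    (R := R) P k hP' hK' hm').mp inferInstance
  rw [Algebra.FormallySmooth.iff_injective_cotangentComplexBaseChange_residueField (R := R) P hP hK]
  let ι : RingHom.ker (algebraMap P B) →ₗ[P] RingHom.ker (algebraMap P B') :=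
    Submodule.inclusion (hK'eq ▸ le_sup_left)
  have hcomp : ∀ x, KaehlerDifferential.cotangentComplexBaseChange R B P k x =
      KaehlerDifferential.cotangentComplexBaseChange R B' P k (ι.lTensor k x) := by
    intro x
    induction x with
    | zero => simp
    | add x y hx hy => simp [hx, hy]
    | tmul a b => rfl
  refine (injective_iff_map_eq_zero _).mpr fun x hx => ?_
  rw [hcomp] at hx
  have hx' : ι.lTensor k x = 0 := hinj (by rw [hx, map_zero])
  have hkP : Function.Surjective (algebraMap P k) := by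
    rw [IsScalarTower.algebraMap_eq P B k]
    exact residue_surjective.comp hP
  obtain ⟨a, rfl⟩ := TensorProduct.mk_surjective P _ _ hkP x
  rw [TensorProduct.mk_apply, LinearMap.lTensor_tmul] at hx'
  set q := RingHom.ker (algebraMap P k)
  have haK' : (a : P) ∈ q * RingHom.ker (algebraMap P B') := by
    have h1 := Submodule.mem_map_of_mem (f := (RingHom.ker (algebraMap P B')).subtype)
      (mem_smul_of_one_tmul_eq_zero hkP (ι a) hx')
    rw [Submodule.map_smul'', Submodule.map_subtype_top] at h1
    exact h1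
  rw [hK'eq, Ideal.mul_sup] at haK'
  obtain ⟨y, hy, z, hz, hyz⟩ := Submodule.mem_sup.mp haK'
  obtain ⟨c, hc, hcz⟩ : ∃ c : Fin n → P, (∀ i, c i ∈ q) ∧ ∑ i, c i * f i = z := by
    obtain ⟨c, hc, hcz⟩ := (Submodule.mem_ideal_smul_span_iff_exists_sum q f z).mp hz
    refine ⟨fun i => c i, hc, ?_⟩
    rw [← hcz, Finsupp.sum_fintype _ _ (by simp)]
    simp
  have hqK : RingHom.ker (algebraMap P B) * Ideal.span (Set.range f) ≤
      q * RingHom.ker (algebraMap P B) := by
    rw [mul_comm]
    refine Ideal.mul_mono_left ?_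
    rw [Ideal.span_le]
    rintro _ ⟨i, rfl⟩
    rw [SetLike.mem_coe, RingHom.mem_ker, IsScalarTower.algebraMap_apply P B k]
    exact (residue_eq_zero_iff _).mpr (hmax i)
  have hzK : z ∈ RingHom.ker (algebraMap P B) := by
    rw [eq_sub_of_add_eq' hyz]
    exact sub_mem a.2 (Ideal.mul_le_right (I := q) (J := RingHom.ker (algebraMap P B)) hy)
  have hzq : z ∈ q * RingHom.ker (algebraMap P B) := by
    rw [← hcz] at hzK ⊢
    exact hqK (sum_mul_mem_ker_mul _ hP f hreg c hzK)
  have haq : a ∈ q • (⊤ : Submodule P (RingHom.ker (algebraMap P B))) := by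
    have h1 : (a : P) ∈ (q • (⊤ : Submodule P (RingHom.ker (algebraMap P B)))).map
        (RingHom.ker (algebraMap P B)).subtype := by
      rw [Submodule.map_smul'', Submodule.map_subtype_top, ← hyz]
      exact add_mem hy hzq
    obtain ⟨w, hw, hwa⟩ := h1
    exact (Subtype.ext hwa : w = a) ▸ hw
  refine Submodule.smul_induction_on (p := fun m => (1 : k) ⊗ₜ[P] m = 0) haq
    (fun r hr m _ => ?_) (fun m₁ m₂ h₁ h₂ => ?_)
  · rw [← TensorProduct.smul_tmul, Algebra.smul_def, RingHom.mem_ker.mp hr, zero_mul, TensorProduct.zero_tmul]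
  · rw [TensorProduct.tmul_add, h₁, h₂, add_zero]

/-- A finitely presented algebra is smooth at a prime containing a weakly regular sequence as soon
as the quotient by that sequence is smooth there. -/
theorem isSmoothAt_of_regular_quotient {R B : Type*} [CommRing R] [CommRing B] [Algebra R B]
    [Algebra.FinitePresentation R B] {n : ℕ} (r : Fin n → B)
    (hreg : RingTheory.Sequence.IsWeaklyRegular B (List.ofFn r))
    (p' : Ideal (B ⧸ Ideal.span (Set.range r))) [p'.IsPrime] [Algebra.IsSmoothAt R p'] :
    Algebra.IsSmoothAt R (p'.comap (Ideal.Quotient.mk (Ideal.span (Set.range r)))) := by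
  classical
  let J := Ideal.span (Set.range r)
  let p := p'.comap (Ideal.Quotient.mk J)
  have hp : p = p'.comap (Ideal.Quotient.mk J) := rfl
  have : p.IsPrime := Ideal.IsPrime.comap _
  change Algebra.IsSmoothAt R p
  let Bp := Localization.AtPrime p
  obtain ⟨m, f₀, hf₀, hker₀⟩ := Algebra.FinitePresentation.out (R := R) (A := B)
  let M' := p.primeCompl.comap f₀
  let P := Localization M'
  let fP : P →ₐ[R] Bp := IsLocalization.liftAlgHom (M := M')
      (f := (IsScalarTower.toAlgHom R B Bp).comp f₀) fun x ↦ by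
    simpa using IsLocalization.map_units (M := p.primeCompl) Bp ⟨f₀ x.1, x.2⟩
  have hfP : ∀ x, fP (algebraMap _ P x) = algebraMap B Bp (f₀ x) := fun x => by
    simp [fP]
  have hf₁ : Function.Surjective fP := by
    intro x
    obtain ⟨x, ⟨s, hs⟩, rfl⟩ := IsLocalization.exists_mk'_eq p.primeCompl x
    obtain ⟨x, rfl⟩ := hf₀ x
    obtain ⟨s, rfl⟩ := hf₀ s
    refine ⟨IsLocalization.mk' (M := M') _ x ⟨s, hs⟩, ?_⟩
    simp [fP, IsLocalization.lift_mk', Units.mul_inv_eq_iff_eq_mul, IsUnit.liftRight]
  have hK : (RingHom.ker fP).FG := by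
    convert! hker₀.map (algebraMap _ P)
    refine le_antisymm ?_ (Ideal.map_le_iff_le_comap.mpr fun x hx ↦ by simp_all [fP])
    intro x hx
    obtain ⟨x, s, rfl⟩ := IsLocalization.exists_mk'_eq M' x
    obtain ⟨a, ha, e⟩ : ∃ a ∈ p.primeCompl, a * f₀ x = 0 := by
      simpa [fP, IsLocalization.lift_mk', IsLocalization.map_eq_zero_iff p.primeCompl] using hx
    obtain ⟨a, rfl⟩ := hf₀ a
    rw [IsLocalization.mk'_mem_map_algebraMap_iff]
    exact ⟨a, ha, by simpa⟩
  have : Algebra.FormallyEtale (MvPolynomial (Fin m) R) P := .of_isLocalization M'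
  have : Algebra.FormallySmooth R P := .comp _ (MvPolynomial (Fin m) R) _
  have : Module.Free P Ω[P⁄R] :=
    .of_equiv (KaehlerDifferential.tensorKaehlerEquivOfFormallyEtale R (MvPolynomial (Fin m) R) P)
  have : Module.Finite P Ω[P⁄R] :=
    .equiv (KaehlerDifferential.tensorKaehlerEquivOfFormallyEtale R (MvPolynomial (Fin m) R) P)
  algebraize [fP.toRingHom]
  have : IsScalarTower R P Bp := IsScalarTower.of_algebraMap_eq fun x => (fP.commutes x).symm
  let g : Bp →ₐ[R] Localization.AtPrime p' := IsLocalization.liftAlgHom (M := p.primeCompl)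
    (f := (IsScalarTower.toAlgHom R (B ⧸ J) (Localization.AtPrime p')).comp (Ideal.Quotient.mkₐ R J))
    fun x => by
      simpa using IsLocalization.map_units (M := p'.primeCompl) (Localization.AtPrime p')
        ⟨Ideal.Quotient.mk J x.1, x.2⟩
  have hgB : ∀ x, g (algebraMap B Bp x) =
      algebraMap (B ⧸ J) (Localization.AtPrime p') (Ideal.Quotient.mk J x) := fun x =>
    IsLocalization.lift_eq _ x
  choose l hl using fun i => hf₀ (r i)
  have hfr : ∀ i, algebraMap P Bp (algebraMap _ P (l i)) = algebraMap B Bp (r i) := fun i => by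
    rw [← hl]
    exact hfP _
  refine formallySmooth_of_regular_quotient (P := P) (B' := Localization.AtPrime p') hf₁ hK
    (fun i => algebraMap _ P (l i)) (fun i => ?_) ?_ g ?_ ?_
  · rw [hfr, IsLocalization.AtPrime.to_map_mem_maximal_iff Bp p, hp, Ideal.mem_comap,
      Ideal.Quotient.eq_zero_iff_mem.mpr (show r i ∈ J from Ideal.subset_span ⟨i, rfl⟩)]
    exact zero_mem _
  · rw [show (fun i => algebraMap P Bp (algebraMap _ P (l i))) = fun i => algebraMap B Bp (r i) from funext hfr]
    have := hreg.of_isLocalization Bp p.primeCompl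
    rwa [List.map_ofFn] at this
  · intro y
    obtain ⟨y, ⟨s, hs⟩, rfl⟩ := IsLocalization.exists_mk'_eq p'.primeCompl y
    obtain ⟨y, rfl⟩ := Ideal.Quotient.mk_surjective y
    obtain ⟨s, rfl⟩ := Ideal.Quotient.mk_surjective s
    refine ⟨IsLocalization.mk' Bp y (⟨s, hs⟩ : p.primeCompl), ?_⟩
    refine (IsLocalization.lift_mk'_spec _ _ _ _).mpr ?_
    exact (IsLocalization.mk'_spec' (Localization.AtPrime p') _ (⟨_, hs⟩ : p'.primeCompl)).symm
  · rw [show (fun i => algebraMap P Bp (algebraMap _ P (l i))) = fun i => algebraMap B Bp (r i) from funext hfr]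
    rw [Set.range_comp' (algebraMap B Bp) r, ← Ideal.map_span]
    refine le_antisymm ?_ (Ideal.map_le_iff_le_comap.mpr fun x hx => ?_)
    · intro x hx
      obtain ⟨x, s, rfl⟩ := IsLocalization.exists_mk'_eq p.primeCompl x
      have h0 : algebraMap (B ⧸ J) (Localization.AtPrime p') (Ideal.Quotient.mk J x) = 0 := by
        rw [← hgB, ← IsLocalization.mk'_spec Bp x s, map_mul, RingHom.mem_ker.mp hx, zero_mul]
      obtain ⟨⟨a, ha⟩, e⟩ := (IsLocalization.map_eq_zero_iff p'.primeCompl _ _).mp h0
      obtain ⟨a, rfl⟩ := Ideal.Quotient.mk_surjective a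
      rw [IsLocalization.mk'_mem_map_algebraMap_iff]
      exact ⟨a, ha, Ideal.Quotient.eq_zero_iff_mem.mp (by simpa using e)⟩
    · rw [Ideal.mem_comap, RingHom.mem_ker]
      rw [hgB, Ideal.Quotient.eq_zero_iff_mem.mpr hx, map_zero]

end Groth.Agent.CIntLib
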