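import Groth.Prelude.Def_Mor2
import Groth.Prelude.Def_Pi1
import Groth.Agent.KRegLib.Regular
import Groth.Agent.CIntLib.ClosedStalk
import Groth.Agent.CIntLib.SmoothRegular
import Groth.Agent.RegExch.Basic
import Groth.Agent.RegLoc6.Seq
import Groth.Agent.AvramovLib.Quot

/-!
# Regular immersions at a point

A closed immersion into a locally Noetherian scheme is regular near a point iff the kernel of the
stalk map there is generated by a regular sequence.
-/

set_option linter.style.haveILetI false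

universe u

open CategoryTheory AlgebraicGeometry RingTheory.Sequence

namespace Groth.Agent.CIntLib

/-- The ideal of a closed immersion at a point is generated by a weakly regular sequence. -/
def RegAt {Z X : Scheme.{u}} (j : Z ⟶ X) (z : Z) : Prop :=
  ∃ rs : List (X.presheaf.stalk (j z)), IsWeaklyRegular (X.presheaf.stalk (j z)) rs ∧
    Ideal.ofList rs = RingHom.ker (j.stalkMap z).hom

theorem regAt_of_affine {Z X : Scheme.{u}} (j : Z ⟶ X) [IsClosedImmersion j] (z : Z) (U : X.affineOpens)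
    (hzU : j z ∈ U.1) (rs : List Γ(X, U.1)) (hrs : IsWeaklyRegular Γ(X, U.1) rs)
    (hI : j.ker.ideal U = Ideal.ofList rs) : RegAt j z := by
  letI := (X.presheaf.germ U.1 (j z) hzU).hom.toAlgebra
  haveI : IsLocalization.AtPrime (X.presheaf.stalk (j z)) (U.2.primeIdealOf ⟨j z, hzU⟩).asIdeal :=
    U.2.isLocalization_stalk ⟨_, hzU⟩
  refine ⟨rs.map (algebraMap Γ(X, U.1) (X.presheaf.stalk (j z))),
    hrs.of_isLocalization _ (U.2.primeIdealOf ⟨j z, hzU⟩).asIdeal.primeCompl, ?_⟩
  rw [ker_stalkMap_eq_map_germ j z U hzU, hI, Ideal.map_ofList]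
  rfl

theorem regAt_iff {Z X : Scheme.{u}} [IsLocallyNoetherian X] (j : Z ⟶ X) [IsClosedImmersion j] (z : Z) :
    RegAt j z ↔ ∃ V : X.Opens, j z ∈ V ∧ Mor2.IsRegularClosedImmersion (j ∣_ V) := by
  constructor
  · rintro ⟨rs, hreg, hrs⟩
    obtain ⟨D, hD, hzD, -⟩ := exists_isAffineOpen_mem_and_subset (U := ⊤) (x := j z) trivial
    have : IsNoetherianRing Γ(X, D) := IsLocallyNoetherian.component_noetherian ⟨D, hD⟩
    let I := j.ker.ideal ⟨D, hD⟩
    letI := (X.presheaf.germ D (j z) hzD).hom.toAlgebra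
    let p := (hD.primeIdealOf ⟨j z, hzD⟩).asIdeal
    have : IsLocalization.AtPrime (X.presheaf.stalk (j z)) p := hD.isLocalization_stalk ⟨j z, hzD⟩
    let e : X.presheaf.stalk (j z) ≃ₐ[Γ(X, D)] Localization.AtPrime p :=
      IsLocalization.algEquiv p.primeCompl _ _
    have hker := ker_stalkMap_eq_map_germ j z ⟨D, hD⟩ hzD
    have hIp : I ≤ p := fun a ha => by
      by_contra hap
      refine RingHom.ker_ne_top (j.stalkMap z).hom (Ideal.eq_top_of_isUnit_mem _ ?_
        (IsLocalization.map_units (X.presheaf.stalk (j z)) (⟨a, hap⟩ : p.primeCompl)))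
      rw [hker]
      exact Ideal.mem_map_of_mem _ ha
    obtain ⟨g, hg, ls, hls, hlsI⟩ := KRegLib.exists_away_isRegular_of_atPrime I p hIp
      (rs.map e).get (by
        rw [List.ofFn_get]
        exact (AddEquiv.isWeaklyRegular_congr (e := e.toRingEquiv.toAddEquiv) (as := rs)
          (bs := rs.map e) (List.forall₂_map_right_iff.2 (List.forall₂_same.2 fun x _ y =>
            map_mul e x y))).1 hreg) (by
        have h1 : Ideal.span (Set.range (rs.map e).get) = Ideal.ofList (rs.map e) := by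
          rw [Ideal.ofList]; congr 1; ext w; simp [List.mem_iff_get]
        rw [h1, show Ideal.ofList (rs.map e) = (Ideal.ofList rs).map (e : _ →+* Localization.AtPrime p) from
          (Ideal.map_ofList _ _).symm, hrs, hker, Ideal.map_map]
        exact congrArg (fun f => Ideal.map f I) (RingHom.ext fun a => e.commutes a))
    letI : Algebra Γ(X, D) Γ(X, X.basicOpen g) :=
      (X.presheaf.map (homOfLE (X.basicOpen_le g)).op).hom.toAlgebra
    have : IsLocalization.Away g Γ(X, X.basicOpen g) := hD.isLocalization_basicOpen g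
    let e' : Localization.Away g ≃ₐ[Γ(X, D)] Γ(X, X.basicOpen g) :=
      IsLocalization.algEquiv (Submonoid.powers g) _ _
    have hzg : j z ∈ X.basicOpen g := by
      rw [← hD.fromSpec_image_basicOpen g]
      exact ⟨hD.primeIdealOf ⟨j z, hzD⟩, hg, hD.fromSpec_primeIdealOf _⟩
    have hG : IsAffineOpen (X.basicOpen g) := hD.basicOpen g
    have hregG : RingTheory.Sequence.IsRegular Γ(X, X.basicOpen g) (ls.map e') :=
      (AddEquiv.isRegular_congr (e := e'.toRingEquiv.toAddEquiv) (as := ls) (bs := ls.map e')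
        (List.forall₂_map_right_iff.2 (List.forall₂_same.2 fun x _ y => map_mul e' x y))).1 hls
    have hideal : j.ker.ideal ⟨X.basicOpen g, hG⟩ = Ideal.ofList (ls.map e') := by
      rw [← j.ker.map_ideal (U := ⟨X.basicOpen g, hG⟩) (V := ⟨D, hD⟩) (X.basicOpen_le g),
        show Ideal.ofList (ls.map e') = (Ideal.ofList ls).map (e' : _ →+* Γ(X, X.basicOpen g)) from
          (Ideal.map_ofList _ _).symm, hlsI, Ideal.map_map]
      exact congrArg (fun f => Ideal.map f I) (RingHom.ext fun a => (e'.commutes a).symm)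
    refine ⟨X.basicOpen g, hzg, inferInstance, fun w => ?_⟩
    have haff : IsAffineOpen (⊤ : (X.basicOpen g).toScheme.Opens) :=
      haveI : IsAffine (X.basicOpen g).toScheme := hG
      isAffineOpen_top _
    refine ⟨⊤, haff, trivial, ?_⟩
    have himg : (X.basicOpen g).ι ''ᵁ ⊤ = X.basicOpen g := (X.basicOpen g).ι_image_top
    have key : ∀ (W : X.Opens) (hW : IsAffineOpen W), W = X.basicOpen g →
        ∃ l : List Γ(X, W), RingTheory.Sequence.IsRegular Γ(X, W) l ∧ j.ker.ideal ⟨W, hW⟩ = Ideal.ofList l := by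
      rintro W hW rfl
      exact ⟨_, hregG, hideal⟩
    obtain ⟨l, hl1, hl2⟩ := key _ (haff.image_of_isOpenImmersion (X.basicOpen g).ι) himg
    refine ⟨l, hl1, ?_⟩
    rw [Scheme.ker_morphismRestrict_ideal]
    exact hl2
  · rintro ⟨V, hzV, -, h⟩
    obtain ⟨U, hU, hzU, rs, hrs, hI⟩ := h ⟨z, hzV⟩
    rw [Scheme.ker_morphismRestrict_ideal] at hI
    refine regAt_of_affine j z ⟨V.ι ''ᵁ U, hU.image_of_isOpenImmersion _⟩ ?_ rs hrs.1 hI
    exact ⟨_, hzU, morphismRestrict_base_coe j V ⟨z, hzV⟩⟩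

/-- A closed immersion between points with regular local rings is regular at the point. -/
theorem regAt_of_regular {Z X : Scheme.{u}} (j : Z ⟶ X) [IsClosedImmersion j] (z : Z)
    [IsRegularLocalRing (X.presheaf.stalk (j z))] [IsRegularLocalRing (Z.presheaf.stalk z)] : RegAt j z := by
  obtain ⟨rs, -, h1, h2⟩ := RegLoc6.exists_list_of_quotient _ (X.presheaf.stalk (j z))
    (RingHom.ker (j.stalkMap z).hom) le_rfl
    (IsRegularLocalRing.of_ringEquiv (stalkQuotEquiv j z).symm)
  exact ⟨rs, h1, h2⟩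

theorem mem_maximalIdeal_of_regAt {A B : Type*} [CommRing A] [IsLocalRing A] [CommRing B] [Nontrivial B]
    (φ : A →+* B) {rs : List A} (hrs : Ideal.ofList rs = RingHom.ker φ) :
    ∀ r ∈ rs, r ∈ IsLocalRing.maximalIdeal A := fun r hr =>
  IsLocalRing.le_maximalIdeal (RingHom.ker_ne_top φ) (hrs ▸ Ideal.subset_span hr)

/-- A regularly immersed regular point is a regular point of the ambient scheme. -/
theorem isRegularLocalRing_of_regAt {Z X : Scheme.{u}} [IsLocallyNoetherian X] (j : Z ⟶ X)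
    [IsClosedImmersion j] (z : Z) [IsRegularLocalRing (Z.presheaf.stalk z)] (h : RegAt j z) :
    IsRegularLocalRing (X.presheaf.stalk (j z)) := by
  obtain ⟨rs, h1, h2⟩ := h
  refine RegLoc6.of_quotient_list rs.length _ rs rfl (mem_maximalIdeal_of_regAt _ h2) h1 ?_
  exact IsRegularLocalRing.of_ringEquiv ((Ideal.quotEquivOfEq h2).trans (stalkQuotEquiv j z)).symm

/-- In a regular local ring, being regularly immersed is being a complete intersection. -/
theorem regAt_iff_isCI {Z X : Scheme.{u}} (j : Z ⟶ X) [IsClosedImmersion j] (z : Z)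
    [IsRegularLocalRing (X.presheaf.stalk (j z))] :
    RegAt j z ↔ Pi1.IsCompleteIntersection (Z.presheaf.stalk z) := by
  rw [CILib.isCI_iff_regular (j.stalkMap z).hom (j.stalkMap_surjective z)]
  refine ⟨fun ⟨rs, h1, h2⟩ => ⟨rs, ?_, h2.symm⟩, fun ⟨rs, h1, h2⟩ => ⟨rs, h1.1, h2.symm⟩⟩
  exact RegLoc6.isRegular_iff_weakly rs (mem_maximalIdeal_of_regAt _ h2) h1

/-- `ker π ∩ 𝔪 ker (τ ∘ π) ≤ 𝔪 ker π` when `ker τ` is generated by a regular sequence. -/
theorem ker_inf_mul_le {A B C : Type*} [CommRing A] [IsLocalRing A] [CommRing B] [CommRing C] [Nontrivial C]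
    (π : A →+* B) (τ : B →+* C) (hπ : Function.Surjective π) (gs : List B)
    (hg : IsWeaklyRegular B gs) (hker : Ideal.ofList gs = RingHom.ker τ) :
    RingHom.ker π ⊓ IsLocalRing.maximalIdeal A * RingHom.ker (τ.comp π) ≤
      IsLocalRing.maximalIdeal A * RingHom.ker π := by
  obtain ⟨n, r, rfl⟩ : ∃ n, ∃ r : Fin n → B, gs = List.ofFn r := ⟨_, _, (List.ofFn_get _).symm⟩
  choose y hy using fun i => hπ (r i)
  have hJ : RingHom.ker (τ.comp π) = RingHom.ker π ⊔ Ideal.span (Set.range y) := by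
    have h1 := Ideal.comap_map_of_surjective π hπ (Ideal.span (Set.range y))
    rw [Ideal.map_span, ← Set.range_comp, show π ∘ y = r from funext hy, ← RingHom.ker_eq_comap_bot,
      sup_comm] at h1
    rw [← h1, ← RingHom.comap_ker, ← hker]
    congr 1
    exact congrArg Ideal.span (Set.ext fun x => List.mem_ofFn)
  have hym : Ideal.span (Set.range y) ≤ IsLocalRing.maximalIdeal A :=
    le_sup_right.trans (hJ.ge.trans (IsLocalRing.le_maximalIdeal (RingHom.ker_ne_top (τ.comp π))))
  rintro x ⟨hx, hxm⟩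
  rw [SetLike.mem_coe, hJ, Ideal.mul_sup] at hxm
  obtain ⟨a, ha, b, hb, rfl⟩ := Submodule.mem_sup.mp hxm
  obtain ⟨c, -, rfl⟩ : ∃ c : Fin n → A, True ∧ ∑ i, c i * y i = b := by
    obtain ⟨c, hc⟩ := Ideal.mem_span_range_iff_exists_fun.mp (Ideal.mul_le_right hb)
    exact ⟨c, trivial, hc⟩
  refine add_mem ha ?_
  have hbK : π (∑ i, c i * y i) = 0 := by
    have := RingHom.mem_ker.mp hx
    rwa [map_add, RingHom.mem_ker.mp (Ideal.mul_le_right ha), zero_add] at this
  have := sum_mul_mem_ker_mul π hπ y (by rw [show (fun i => π (y i)) = r from funext hy]; exact hg) c hbK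
  rw [mul_comm] at this
  exact Ideal.mul_mono_left hym this

/-- Composition: at a point, regular immersions compose, and cancel on the left. -/
theorem regAt_comp_iff {X Y Z : Scheme.{u}} [IsLocallyNoetherian X] (f : Y ⟶ X) (g : Z ⟶ Y)
    [IsClosedImmersion f] [IsClosedImmersion g] (z : Z) (hg : RegAt g z) :
    RegAt (g ≫ f) z ↔ RegAt f (g z) := by
  obtain ⟨gs, hg1, hg2⟩ := hg
  have hπ : Function.Surjective (f.stalkMap (g z)).hom := f.stalkMap_surjective (g z)
  have hcomp : ((g ≫ f).stalkMap z).hom = (g.stalkMap z).hom.comp (f.stalkMap (g z)).hom := by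
    rw [Scheme.Hom.stalkMap_comp]; rfl
  constructor
  · rintro ⟨hs, hh1, hh2⟩
    rw [hcomp] at hh2
    set π := (f.stalkMap (g z)).hom
    set τ := (g.stalkMap z).hom
    set J := RingHom.ker (τ.comp π)
    have hle : RingHom.ker π ≤ J := fun x hx => by
      rw [RingHom.mem_ker, RingHom.comp_apply, RingHom.mem_ker.mp hx, map_zero]
    obtain ⟨xs, rest, hxs, -, hw⟩ := RegExch.exists_split (RingHom.ker_ne_top (τ.comp π)) hle
      (ker_inf_mul_le π τ hπ gs hg1 hg2) ⟨hs, hh2, hh1⟩
    exact ⟨xs, ((isWeaklyRegular_append_iff _ xs rest).1 hw).1, hxs⟩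
  · rintro ⟨fs, hf1, hf2⟩
    obtain ⟨rs, h1, h2⟩ := AvramovLib.regular_comp (f.stalkMap (g z)).hom (g.stalkMap z).hom hπ fs
      hf2.symm hf1 gs hg2.symm hg1
    exact ⟨rs, h2, h1.symm.trans (congrArg RingHom.ker hcomp.symm)⟩

end Groth.Agent.CIntLib
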