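import Groth.Agent.CotTLib.SmoothField
import Groth.Agent.EGA41Lib.FieldFS
import Groth.Agent.S2451
import Groth.Agent.RegLoc6.Basic
import Mathlib.RingTheory.Nilpotent.GeometricallyReduced
import Mathlib.RingTheory.Smooth.Locus

/-!
# Smoothness at minimal primes
-/

set_option autoImplicit false
set_option linter.style.haveILetI false

universe u

open IsLocalRing

namespace Groth.Agent.CIntLib

theorem krullDimLE_zero_atPrime {A : Type u} [CommRing A] (p : Ideal A) [p.IsPrime] (hp : p ∈ minimalPrimes A) :
    Ring.KrullDimLE 0 (Localization.AtPrime p) := Ring.krullDimLE_iff.2 (by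
  rw [IsLocalization.AtPrime.ringKrullDim_eq_height p, Ideal.height_eq_zero_iff.2 hp]
  exact le_rfl)

theorem formallySmooth_atPrime_field (k A : Type u) [Field k] [CommRing A] [Algebra k A] (p : Ideal A) [p.IsPrime]
    (hf : IsField (Localization.AtPrime p)) [Algebra.IsGeometricallyReduced k (Localization.AtPrime p)] :
    Algebra.FormallySmooth k (Localization.AtPrime p) := by
  letI := hf.toField
  exact EGA41Lib.FieldFS.formallySmooth_of_isGeometricallyReduced k (Localization.AtPrime p)

/-- At a minimal prime, smooth over a field means geometrically reduced. -/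
theorem isSmoothAt_iff_of_minimal (k A : Type u) [Field k] [CommRing A] [Algebra k A] [Algebra.FiniteType k A]
    (p : Ideal A) [p.IsPrime] (hp : p ∈ minimalPrimes A) :
    Algebra.IsSmoothAt k p ↔ Algebra.IsGeometricallyReduced k (Localization.AtPrime p) := by
  haveI := krullDimLE_zero_atPrime p hp
  constructor
  · intro h
    haveI := CotTLib.isRegularLocalRing_of_isSmoothAt (k := k) p
    haveI := RegLoc6.isDomain_of_isRegularLocalRing (Localization.AtPrime p)
    letI := (Ring.KrullDimLE.isField_of_isDomain (R := Localization.AtPrime p)).toField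
    haveI : Algebra.FormallySmooth k (Localization.AtPrime p) := h
    exact (S2451.result (k := k) (K := Localization.AtPrime p)).1 h
  · intro h
    haveI : _root_.IsReduced (Localization.AtPrime p) :=
      Algebra.isReduced_of_isGeometricallyReduced (k := k)
    exact formallySmooth_atPrime_field k A p Ring.KrullDimLE.isField_of_isReduced

theorem forall_minimal_mem_smoothLocus_iff (k A : Type u) [Field k] [CommRing A] [Algebra k A] [Algebra.FiniteType k A] :
    (∃ U : TopologicalSpace.Opens (PrimeSpectrum A), Dense (U : Set (PrimeSpectrum A)) ∧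
        ∀ p ∈ U, Algebra.IsSmoothAt k p.asIdeal) ↔
      ∀ (p : Ideal A) [p.IsPrime], p ∈ minimalPrimes A →
        Algebra.IsGeometricallyReduced k (Localization.AtPrime p) := by
  haveI : IsNoetherianRing A := Algebra.FiniteType.isNoetherianRing k A
  haveI : Algebra.FinitePresentation k A := Algebra.FinitePresentation.of_finiteType.1 inferInstance
  constructor
  · rintro ⟨U, hU, hsm⟩ p _ hp
    refine (isSmoothAt_iff_of_minimal k A p hp).1 (hsm ⟨p, inferInstance⟩ ?_)
    obtain ⟨g, hg⟩ : ∃ g : A, g ∉ p ∧ ∀ q ∈ minimalPrimes A, q ≠ p → g ∈ q := by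
      classical
      let T := (minimalPrimes.finite_of_isNoetherianRing A).toFinset.erase p
      have hnot : ∀ q ∈ T, ¬ (id q : Ideal A) ≤ p := fun q hq hle => by
        obtain ⟨hne, hq⟩ := Finset.mem_erase.1 hq
        rw [Set.Finite.mem_toFinset] at hq
        exact hne (le_antisymm hle (hp.2 hq.1 hle))
      have hinf : ¬ T.inf id ≤ p := fun h =>
        let ⟨q, hq, hle⟩ := (Ideal.IsPrime.inf_le' inferInstance).1 h
        hnot q hq hle
      obtain ⟨g, hg1, hg2⟩ := SetLike.not_le_iff_exists.1 hinf
      exact ⟨g, hg2, fun q hq hne => Submodule.mem_finsetInf.1 hg1 q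
        (Finset.mem_erase.2 ⟨hne, (Set.Finite.mem_toFinset _).2 hq⟩)⟩
    obtain ⟨q, hqg, hqU⟩ := hU.inter_open_nonempty _ (PrimeSpectrum.basicOpen g).2 ⟨⟨p, inferInstance⟩, hg.1⟩
    obtain ⟨q', hq', hle⟩ := Ideal.exists_minimalPrimes_le (bot_le : ⊥ ≤ q.asIdeal)
    have : q' = p := by
      by_contra hne
      exact hqg (hle (hg.2 q' hq' hne))
    subst this
    exact U.2.stableUnderGeneralization ((PrimeSpectrum.le_iff_specializes ⟨q', inferInstance⟩ q).1 hle) hqU
  · intro h
    refine ⟨⟨_, Algebra.isOpen_smoothLocus (R := k) (A := A)⟩, fun x => ?_, fun p hp => hp⟩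
    obtain ⟨q, hq, hle⟩ := Ideal.exists_minimalPrimes_le (bot_le : ⊥ ≤ x.asIdeal)
    haveI := hq.1.1
    have hmem : (⟨q, inferInstance⟩ : PrimeSpectrum A) ∈ Algebra.smoothLocus k A :=
      (isSmoothAt_iff_of_minimal k A q hq).2 (h q hq)
    exact closure_mono (Set.singleton_subset_iff.2 hmem)
      (specializes_iff_mem_closure.1 ((PrimeSpectrum.le_iff_specializes ⟨q, inferInstance⟩ x).1 hle))

end Groth.Agent.CIntLib
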