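import Groth.Agent.CIntLib.EtaleByDim
import Groth.Agent.CIntLib.SmoothMinimal
import Groth.Agent.SmoothDim.Basic
import Groth.Agent.RegLoc6.GeomRed
import Groth.Agent.S14436
import Mathlib

/-!
# Locally free differentials and generic smoothness give smoothness
-/

set_option autoImplicit false
set_option linter.style.haveILetI false
set_option backward.isDefEq.respectTransparency.types false

universe u

open IsLocalRing TensorProduct KaehlerDifferential

namespace Groth.Agent.CIntLib

variable {k A : Type u} [Field k] [CommRing A] [Algebra k A]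

theorem span_D_localization (p : Ideal A) [p.IsPrime] :
    Submodule.span (Localization.AtPrime p)
      (Set.range fun a : A => D k (Localization.AtPrime p) (algebraMap A _ a)) = ⊤ := by
  rw [eq_top_iff, ← span_range_derivation, Submodule.span_le]
  rintro _ ⟨z, rfl⟩
  obtain ⟨a, s, rfl⟩ := IsLocalization.exists_mk'_eq p.primeCompl z
  let S := Submodule.span (Localization.AtPrime p)
    (Set.range fun a : A => D k (Localization.AtPrime p) (algebraMap A _ a))
  have hu : IsUnit (algebraMap A (Localization.AtPrime p) (s : A)) :=
    IsLocalization.map_units _ s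
  have h1 : algebraMap A (Localization.AtPrime p) (s : A) * IsLocalization.mk' _ a s = algebraMap A _ a :=
    IsLocalization.mk'_spec' _ a s
  have h2 := (D k (Localization.AtPrime p)).leibniz (algebraMap A (Localization.AtPrime p) (s : A))
    (IsLocalization.mk' (Localization.AtPrime p) a s)
  rw [h1] at h2
  have h3 : algebraMap A (Localization.AtPrime p) (s : A) • D k _ (IsLocalization.mk' (Localization.AtPrime p) a s) ∈ S := by
    rw [eq_sub_of_add_eq h2.symm]
    exact S.sub_mem (Submodule.subset_span ⟨a, rfl⟩) (S.smul_mem _ (Submodule.subset_span ⟨_, rfl⟩))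
  exact (Submodule.smul_mem_iff_of_isUnit S hu).1 h3

/-- Elements of `A` whose differentials generate `Ω` at a prime, as many as the rank. -/
theorem exists_generators_D [Algebra.FiniteType k A] (m : Ideal A) [m.IsPrime]
    [Module.Free (Localization.AtPrime m) (Ω[Localization.AtPrime m⁄k])] :
    ∃ g : Fin (Module.finrank (Localization.AtPrime m) (Ω[Localization.AtPrime m⁄k])) → A,
      Submodule.span (Localization.AtPrime m)
        (Set.range fun i => D k (Localization.AtPrime m) (algebraMap A _ (g i))) = ⊤ := by
  classical
  let L := Localization.AtPrime m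
  let M := Ω[L⁄k]
  let K := ResidueField L
  haveI : Algebra.EssFiniteType k L := Algebra.EssFiniteType.comp k A L
  haveI : Module.Finite L M := inferInstance
  let v : A → K ⊗[L] M := fun a => (1 : K) ⊗ₜ[L] D k L (algebraMap A L a)
  have hv : Submodule.span K (Set.range v) = ⊤ := by
    rw [show Set.range v = (TensorProduct.mk L K M 1) '' (Set.range fun a : A => D k L (algebraMap A L a)) by
      rw [← Set.range_comp]; rfl]
    rw [Submodule.eq_top_iff']
    intro x
    induction x using TensorProduct.induction_on with
    | zero => exact zero_mem _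
    | add x y hx hy => exact add_mem hx hy
    | tmul c y =>
      have hy : y ∈ Submodule.span L (Set.range fun a : A => D k L (algebraMap A L a)) := by
        rw [span_D_localization m]; trivial
      induction hy using Submodule.span_induction generalizing c with
      | mem y hy =>
        rw [show c ⊗ₜ[L] y = c • ((1 : K) ⊗ₜ[L] y) by rw [smul_tmul', smul_eq_mul, mul_one]]
        exact Submodule.smul_mem _ _ (Submodule.subset_span ⟨y, hy, rfl⟩)
      | zero => rw [tmul_zero]; exact zero_mem _
      | add y z _ _ hy hz => rw [tmul_add]; exact add_mem (hy c) (hz c)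
      | smul r y _ hy => rw [← smul_tmul]; exact hy (r • c)
  obtain ⟨b, hb, hspan, hli⟩ := exists_linearIndependent K (Set.range v)
  haveI : Finite b := hli.finite
  haveI := Fintype.ofFinite b
  let B : Module.Basis b K (K ⊗[L] M) := Module.Basis.mk hli (by
    rw [Subtype.range_coe, hspan, hv])
  have hcard : Fintype.card b = Module.finrank L M := by
    rw [← Module.finrank_eq_card_basis B, Module.finrank_baseChange]
  let e : b ≃ Fin (Module.finrank L M) := Fintype.equivFinOfCardEq hcard
  choose a ha using fun x : b => hb x.2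
  refine ⟨fun i => a (e.symm i), ?_⟩
  have hrange : (Set.range fun i => D k L (algebraMap A L (a (e.symm i)))) =
      Set.range fun x : b => D k L (algebraMap A L (a x)) :=
    e.symm.surjective.range_comp fun x : b => D k L (algebraMap A L (a x))
  rw [hrange]
  exact IsLocalRing.span_eq_top_of_tmul_eq_basis _ B fun x => (ha x).trans (Module.Basis.mk_apply hli _ x).symm

/-- The rank of the differentials at a minimal prime is at most the dimension of the component. -/
theorem finrank_kaehler_le_dim [Algebra.FiniteType k A] (q : Ideal A) [q.IsPrime] (hq : q ∈ minimalPrimes A)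
    (hred : Algebra.IsGeometricallyReduced k (Localization.AtPrime q)) :
    (Module.finrank (Localization.AtPrime q) (Ω[Localization.AtPrime q⁄k]) : WithBot ℕ∞) ≤
      ringKrullDim (A ⧸ q) := by
  haveI := krullDimLE_zero_atPrime q hq
  haveI : _root_.IsReduced (Localization.AtPrime q) := Algebra.isReduced_of_isGeometricallyReduced (k := k)
  let L := Localization.AtPrime q
  have hfield : IsField L := Ring.KrullDimLE.isField_of_isReduced
  letI := hfield.toField
  haveI : Algebra.EssFiniteType k L := Algebra.EssFiniteType.comp k A L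
  haveI := hred
  obtain ⟨s, hs, hsep⟩ := RegLoc6.exists_separating_transcendence k L
  let e : Fin s.card ≃ s := s.equivFin.symm
  have hs' : IsTranscendenceBasis k (fun i => ((e i : s) : L)) := hs.comp_equiv e
  haveI : Algebra.IsSeparable (IntermediateField.adjoin k (Set.range fun i => ((e i : s) : L))) L := by
    have hr : (Set.range fun i => ((e i : s) : L)) = (s : Set L) :=
      (e.surjective.range_comp ((↑) : s → L)).trans Subtype.range_coe
    rw [hr]; exact hsep
  have hfg : ∃ t : Finset L, IntermediateField.adjoin k (t : Set L) = ⊤ :=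
    IntermediateField.fg_top_iff.2 inferInstance
  rw [S14436.result k L hfg s.card _ hs' inferInstance]
  obtain ⟨d, hd, htr⟩ := VarDim.exists_dim_eq_trdeg k (A ⧸ q)
  have hbij : Function.Bijective (IsLocalRing.residue L) :=
    ⟨(RingHom.injective_iff_ker_eq_bot _).2 (by
      rw [IsLocalRing.ker_residue, (IsLocalRing.isField_iff_maximalIdeal_eq).1 hfield]), IsLocalRing.residue_surjective⟩
  let er : L ≃ₐ[k] q.ResidueField := AlgEquiv.ofBijective
    { IsLocalRing.residue L with commutes' := fun _ => rfl } hbij
  have h1 : Algebra.trdeg k L = Algebra.trdeg k (A ⧸ q) := by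
    rw [er.trdeg_eq]
    have := lift_trdeg_add_eq k (A ⧸ q) q.ResidueField
    rw [trdeg_eq_zero (R := A ⧸ q), Cardinal.lift_zero, add_zero] at this
    simpa using this.symm
  rw [htr, ← hs.cardinalMk_eq_trdeg, Cardinal.mk_coe_finset] at h1
  have h1' : s.card = d := by exact_mod_cast h1
  rw [hd, h1']

theorem dim_quotient_le_height [Algebra.FiniteType k A] (q m : Ideal A) [q.IsPrime] [m.IsMaximal]
    (hle : q ≤ m) : ringKrullDim (A ⧸ q) ≤ ((m.height : ℕ∞) : WithBot ℕ∞) := by
  obtain ⟨d, hd, -⟩ := VarDim.exists_dim_eq_trdeg k (A ⧸ q)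
  let M : PrimeSpectrum (A ⧸ q) := ⟨m.map (Ideal.Quotient.mk q),
    Ideal.map_isPrime_of_surjective Ideal.Quotient.mk_surjective (by rwa [Ideal.mk_ker])⟩
  have hM : M.asIdeal.IsMaximal :=
    (Ideal.map_eq_top_or_isMaximal_of_surjective _ Ideal.Quotient.mk_surjective
      ‹m.IsMaximal›).resolve_left M.2.ne_top
  have hc : Order.coheight M = 0 := Order.coheight_eq_zero.2 fun Q hQ => by
    exact (PrimeSpectrum.ext (hM.eq_of_le Q.isPrime.ne_top hQ)).ge
  have h := VarDim.height_add_coheight_eq k d _ hd M
  rw [hc, add_zero] at h
  have hmono : StrictMono (PrimeSpectrum.comap (Ideal.Quotient.mk q)) := fun P Q hPQ =>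
    lt_of_le_of_ne (Ideal.comap_mono hPQ.le) fun h => hPQ.ne
      (PrimeSpectrum.comap_injective_of_surjective _ Ideal.Quotient.mk_surjective h)
  have hmap : PrimeSpectrum.comap (Ideal.Quotient.mk q) M = ⟨m, inferInstance⟩ := PrimeSpectrum.ext (by
    show (m.map (Ideal.Quotient.mk q)).comap (Ideal.Quotient.mk q) = m
    rw [Ideal.comap_map_of_surjective' _ Ideal.Quotient.mk_surjective, Ideal.mk_ker, sup_eq_left.2 hle])
  have h2 := Order.height_le_height_apply_of_strictMono _ hmono M
  rw [hmap, h, ← PrimeSpectrum.height_eq_orderHeight] at h2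
  rw [hd]
  exact_mod_cast h2

theorem rankAtStalk_kaehler (p : Ideal A) [p.IsPrime] :
    Module.rankAtStalk (Ω[A⁄k]) ⟨p, inferInstance⟩ =
      Module.finrank (Localization.AtPrime p) (Ω[Localization.AtPrime p⁄k]) := by
  rw [Module.rankAtStalk_eq_finrank_tensorProduct]
  exact (tensorKaehlerEquivOfFormallyEtale k A (Localization.AtPrime p)).finrank_eq

/-- Projective differentials and generic smoothness give smoothness at closed points. -/
theorem isSmoothAt_of_projective_kaehler [Algebra.FiniteType k A] [Module.Projective A (Ω[A⁄k])]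
    (hred : ∀ (p : Ideal A) [p.IsPrime], p ∈ minimalPrimes A →
      Algebra.IsGeometricallyReduced k (Localization.AtPrime p))
    (m : Ideal A) [m.IsMaximal] : Algebra.IsSmoothAt k m := by
  haveI : IsNoetherianRing A := Algebra.FiniteType.isNoetherianRing k A
  let L := Localization.AtPrime m
  haveI : Algebra.EssFiniteType k L := Algebra.EssFiniteType.comp k A L
  haveI : Module.Projective L (Ω[L⁄k]) :=
    Module.Projective.of_equiv (tensorKaehlerEquivOfFormallyEtale k A L)
  haveI : Module.Free L (Ω[L⁄k]) := Module.free_of_flat_of_isLocalRing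
  let n := Module.finrank L (Ω[L⁄k])
  -- the dimension
  obtain ⟨q, hq, hqm⟩ := Ideal.exists_minimalPrimes_le (bot_le : ⊥ ≤ m)
  haveI := hq.1.1
  have hrank : Module.finrank (Localization.AtPrime q) (Ω[Localization.AtPrime q⁄k]) = n := by
    rw [← rankAtStalk_kaehler (k := k) q]
    refine Eq.trans ?_ (rankAtStalk_kaehler (k := k) m)
    haveI : Module.FinitePresentation A (Ω[A⁄k]) := Module.finitePresentation_of_finite A _
    let y : PrimeSpectrum A := ⟨m, inferInstance⟩
    let x : PrimeSpectrum A := ⟨q, inferInstance⟩
    have hspec : x ⤳ y := (PrimeSpectrum.le_iff_specializes x y).1 hqm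
    exact hspec.mem_open
      ((Module.isLocallyConstant_rankAtStalk (R := A) (M := Ω[A⁄k])).isOpen_fiber
        (Module.rankAtStalk (Ω[A⁄k]) y)) rfl
  have hdim : (n : WithBot ℕ∞) ≤ ringKrullDim L := by
    rw [IsLocalization.AtPrime.ringKrullDim_eq_height m, ← hrank]
    exact (finrank_kaehler_le_dim q hq (hred q hq)).trans (dim_quotient_le_height (k := k) q m hqm)
  -- the map to affine space
  obtain ⟨g, hg⟩ := exists_generators_D (k := k) m
  let P := MvPolynomial (Fin n) k
  letI : Algebra P A := (MvPolynomial.aeval g).toRingHom.toAlgebra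
  haveI : IsScalarTower k P A := IsScalarTower.of_algebraMap_eq fun c => (MvPolynomial.aeval g).commutes c |>.symm
  haveI : Algebra.FiniteType P A := Algebra.FiniteType.of_restrictScalars_finiteType k P A
  haveI : Algebra.IsUnramifiedAt P m := by
    constructor
    rw [← Submodule.subsingleton_iff (R := L), ← subsingleton_iff_bot_eq_top, eq_comm]
    have hsurj := KaehlerDifferential.map_surjective_of_surjective k P L L Function.surjective_id
    rw [← LinearMap.range_eq_top.2 hsurj, LinearMap.range_eq_map, ← hg, Submodule.map_span,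
      Submodule.span_eq_bot]
    rintro _ ⟨_, ⟨i, rfl⟩, rfl⟩
    rw [KaehlerDifferential.map_D]
    show D P L (algebraMap A L (g i)) = 0
    rw [show g i = algebraMap P A (MvPolynomial.X i) from (MvPolynomial.aeval_X g i).symm,
      ← IsScalarTower.algebraMap_apply, Derivation.map_algebraMap]
  have hp : (m.comap (algebraMap P A)).IsMaximal := by
    let _ := Ideal.Quotient.field m
    have : Module.Finite k (A ⧸ m) := finite_of_finite_type_of_isJacobsonRing k (A ⧸ m)
    have : Algebra.IsIntegral P (A ⧸ m) := Algebra.IsIntegral.tower_top k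
    have h : ((⊥ : Ideal (A ⧸ m)).comap (algebraMap P (A ⧸ m))).IsMaximal :=
      Ideal.isMaximal_comap_of_isIntegral_of_isMaximal _
    convert! h using 1
    rw [IsScalarTower.algebraMap_eq P A (A ⧸ m), ← Ideal.comap_comap, Ideal.Quotient.algebraMap_eq,
      ← RingHom.ker_eq_comap_bot, Ideal.mk_ker]
  have hP : ringKrullDim (Localization.AtPrime (m.comap (algebraMap P A))) = n := by
    rw [IsLocalization.AtPrime.ringKrullDim_eq_height (m.comap (algebraMap P A))]
    let M : PrimeSpectrum P := ⟨m.comap (algebraMap P A), inferInstance⟩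
    show ((M.asIdeal.height : ℕ∞) : WithBot ℕ∞) = _
    rw [M.height_eq_orderHeight, SmoothDim.height_maximal_mvPolynomial k n M hp]
    rfl
  haveI := isEtaleAt_of_isUnramifiedAt_of_dim P A m n hP hdim
  haveI : Algebra.FormallyEtale P L := ‹Algebra.IsEtaleAt P m›
  exact Algebra.FormallySmooth.comp k P L

theorem smooth_iff_projective_kaehler (k A : Type u) [Field k] [CommRing A] [Algebra k A] [Algebra.FiniteType k A] :
    Algebra.Smooth k A ↔ Module.Projective A (Ω[A⁄k]) ∧ ∀ (p : Ideal A) [p.IsPrime], p ∈ minimalPrimes A →
      Algebra.IsGeometricallyReduced k (Localization.AtPrime p) := by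
  constructor
  · intro h
    refine ⟨inferInstance, fun p _ hp => (isSmoothAt_iff_of_minimal k A p hp).1 ?_⟩
    exact Algebra.FormallySmooth.comp k A (Localization.AtPrime p)
  · rintro ⟨h1, h2⟩
    exact CotTLib.smooth_of_isSmoothAt_maximal fun m _ => isSmoothAt_of_projective_kaehler h2 m

end Groth.Agent.CIntLib
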