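import Groth.Agent.CIntLib.EtaleCrit
import Groth.Agent.CIntLib.SmoothKaehler
import Groth.Agent.MorLib.SmoothAlg
import Groth.Agent.FibDim.RingLoc
import Groth.Agent.Synt29.OmegaAffine
import Groth.Agent.QCoh.LocFree
import Groth.Agent.FlatLocus.Basic
import Groth.Agent.S7408
import Groth.Agent.S5019

/-!
# Smoothness from the differentials and the fibre dimension
-/

set_option autoImplicit false
set_option linter.style.haveILetI false
set_option backward.isDefEq.respectTransparency.types false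

universe u

open IsLocalRing KaehlerDifferential TensorProduct AlgebraicGeometry CategoryTheory

attribute [local instance] Algebra.TensorProduct.rightAlgebra

namespace Groth.Agent.CIntLib

/-- Over a field: free differentials of rank the local dimension give smoothness at the point. -/
theorem isSmoothAt_of_free_of_localDim (k A : Type u) [Field k] [CommRing A] [Algebra k A]
    [Algebra.FiniteType k A] (p : Ideal A) [p.IsPrime]
    [Module.Free (Localization.AtPrime p) (Ω[Localization.AtPrime p⁄k])] (n : ℕ)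
    (hrank : Module.finrank (Localization.AtPrime p) (Ω[Localization.AtPrime p⁄k]) = n)
    (hn : FlatMor.localDim (PrimeSpectrum A) ⟨p, inferInstance⟩ = (n : WithBot ℕ∞)) :
    Algebra.IsSmoothAt k p := by
  haveI : IsNoetherianRing A := Algebra.FiniteType.isNoetherianRing k A
  let L := Localization.AtPrime p
  have hgen := exists_generators_D (k := k) p
  rw [hrank] at hgen
  obtain ⟨g, hg⟩ := hgen
  let P := MvPolynomial (Fin n) k
  letI : Algebra P A := (MvPolynomial.aeval g).toRingHom.toAlgebra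
  haveI : IsScalarTower k P A := IsScalarTower.of_algebraMap_eq fun c => (MvPolynomial.aeval g).commutes c |>.symm
  haveI : Algebra.FiniteType P A := Algebra.FiniteType.of_restrictScalars_finiteType k P A
  haveI : Algebra.IsUnramifiedAt P p := by
    constructor
    rw [← Submodule.subsingleton_iff (R := L), ← subsingleton_iff_bot_eq_top, eq_comm]
    have hsurj := KaehlerDifferential.map_surjective_of_surjective k P L L Function.surjective_id
    rw [← LinearMap.range_eq_top.2 hsurj, LinearMap.range_eq_map, ← hg, Submodule.map_span,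
      Submodule.span_eq_bot]
    rintro _ ⟨_, ⟨i, rfl⟩, rfl⟩
    rw [KaehlerDifferential.map_D]
    show D P L (algebraMap A L (g i)) = 0
    rw [show g i = algebraMap P A (MvPolynomial.X i) from (MvPolynomial.aeval_X g i).symm,
      ← IsScalarTower.algebraMap_apply, Derivation.map_algebraMap]
  obtain ⟨r, hr⟩ : ∃ r : ℕ, ringKrullDim L = (r : WithBot ℕ∞) := by
    obtain ⟨a, ha⟩ := ENat.ne_top_iff_exists.1 (Ideal.height_ne_top_of_isPrime (I := p))
    exact ⟨a, by rw [IsLocalization.AtPrime.ringKrullDim_eq_height p, ← ha]; rfl⟩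
  obtain ⟨hrn, htr⟩ := trdeg_of_localDim (k := k) p hn hr
  obtain ⟨-, hP⟩ := ringKrullDim_atPrime_mvPolynomial (k := k) (p.comap (algebraMap P A))
    ((trdeg_comap_eq p).trans htr)
  rw [show n - (n - r) = r by omega] at hP
  haveI := isEtaleAt_of_isUnramifiedAt_of_dim P A p r hP hr.ge
  haveI : Algebra.FormallyEtale P L := ‹Algebra.IsEtaleAt P p›
  exact Algebra.FormallySmooth.comp k P L

theorem free_kaehler_atPrime (k F : Type u) [CommRing k] [CommRing F] [Algebra k F] (Q : Ideal F) [Q.IsPrime]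
    (n : ℕ) [Module.Free F (Ω[F⁄k])] (hF : Module.finrank F (Ω[F⁄k]) = n) :
    Module.Free (Localization.AtPrime Q) (Ω[Localization.AtPrime Q⁄k]) ∧
      Module.finrank (Localization.AtPrime Q) (Ω[Localization.AtPrime Q⁄k]) = n := by
  haveI : Nontrivial F := ⟨⟨0, 1, fun h => (inferInstance : Q.IsPrime).ne_top
    ((Ideal.eq_top_iff_one _).2 (h ▸ Q.zero_mem))⟩⟩
  let eL := tensorKaehlerEquivOfFormallyEtale k F (Localization.AtPrime Q)
  exact ⟨Module.Free.of_equiv eL, by rw [← eL.finrank_eq, Module.finrank_baseChange, hF]⟩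

/-- Flat, free differentials of rank the fibre dimension: smooth at the point. -/
theorem isSmoothAt_of_flat_of_free {A B : Type u} [CommRing A] [CommRing B] [Algebra A B]
    [Algebra.FinitePresentation A B] (q : PrimeSpectrum B)
    (hflat : letI := Localization.AtPrime.algebraOfLiesOver (q.asIdeal.under A) q.asIdeal
      Module.Flat (Localization.AtPrime (q.asIdeal.under A)) (Localization.AtPrime q.asIdeal))
    (n : ℕ) (l : Ω[B⁄A] ≃ₗ[B] (ULift.{u} (Fin n) →₀ B))
    (hn : FlatMor.fibreDimAt (Spec.map (CommRingCat.ofHom (algebraMap A B))) q = (n : WithBot ℕ∞)) :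
    Algebra.IsSmoothAt A q.asIdeal := by
  let p := q.asIdeal.under A
  obtain ⟨Q, hQ⟩ := FibDim.exists_fiber_point (A := A) q
  rw [← FibDim.localDim_fiber_eq_fibreDimAt q Q hQ] at hn
  let κ := p.ResidueField
  let F := p.Fiber B
  let L := Localization.AtPrime Q.asIdeal
  haveI : Module.Free B (Ω[B⁄A]) := Module.Free.of_equiv l.symm
  haveI : Nontrivial B := ⟨⟨0, 1, fun h => q.2.ne_top ((Ideal.eq_top_iff_one _).2 (h ▸ q.asIdeal.zero_mem))⟩⟩
  have hB : Module.finrank B (Ω[B⁄A]) = n := by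
    rw [l.finrank_eq, Module.finrank_finsupp_self, Fintype.card_ulift, Fintype.card_fin]
  haveI : Algebra.IsPushout A κ B F := inferInstance
  let eF : F ⊗[B] Ω[B⁄A] ≃ₗ[F] Ω[F⁄κ] := KaehlerDifferential.tensorKaehlerEquiv A κ B F
  haveI : Module.Free F (Ω[F⁄κ]) := Module.Free.of_equiv eF
  haveI : Nontrivial F := ⟨⟨0, 1, fun h => Q.2.ne_top ((Ideal.eq_top_iff_one _).2 (h ▸ Q.asIdeal.zero_mem))⟩⟩
  have hF : Module.finrank F (Ω[F⁄κ]) = n := by
    rw [← eF.finrank_eq, Module.finrank_baseChange, hB]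
  obtain ⟨_, hL⟩ := free_kaehler_atPrime κ F Q.asIdeal n hF
  haveI : q.asIdeal.LiesOver p := ⟨rfl⟩
  exact MorLib.SmoothAlg.isSmoothAt_of_fiber p q.asIdeal hflat Q.asIdeal hQ
    (isSmoothAt_of_free_of_localDim κ F Q.asIdeal n hL hn)

section Scheme

variable {X Y : Scheme.{u}} (f : X ⟶ Y) [LocallyOfFinitePresentation f]

theorem fibreDimAt_appLE {U : X.Opens} (hU : IsAffineOpen U) {V : Y.Opens} (hV : IsAffineOpen V)
    (e : U ≤ f ⁻¹ᵁ V) {x : X} (hx : x ∈ U) :
    FlatMor.fibreDimAt (Spec.map (f.appLE V U e)) (hU.primeIdealOf ⟨x, hx⟩) = FlatMor.fibreDimAt f x := by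
  haveI : LocallyOfFinitePresentation (Spec.map (f.appLE V U e)) :=
    HasRingHomProperty.Spec_iff.2 (f.finitePresentation_appLE hV hU e)
  rw [← S7408.result f (Spec.map (f.appLE V U e)) hU.fromSpec hV.fromSpec
    (hV.SpecMap_appLE_fromSpec f hU e) (hU.primeIdealOf ⟨x, hx⟩), hU.fromSpec_primeIdealOf]

omit [LocallyOfFinitePresentation f] in
theorem free_kaehler_of_free_restrict {Ω' : X.Modules} {d : OmegaSh.Der f Ω'} (hd : OmegaSh.IsUniversal d)
    {U W : X.Opens} (hU : IsAffineOpen U) (hUW : U ≤ W) {V : Y.Opens} (hV : IsAffineOpen V)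
    (e : U ≤ f ⁻¹ᵁ V) {n : ℕ} (i : Ω'.restrict W.ι ≅ FlatMod.freeMod (W : Scheme.{u}) n) :
    letI := (f.appLE V U e).hom.toAlgebra
    Nonempty (Ω[Γ(X, U)⁄Γ(Y, V)] ≃ₗ[Γ(X, U)] (ULift.{u} (Fin n) →₀ Γ(X, U))) := by
  letI := (f.appLE V U e).hom.toAlgebra
  obtain ⟨l⟩ := Synt29.OmegaStalk.exists_linearEquiv_sections hd hU hV e
  obtain ⟨l'⟩ := QCoh.free_sections hU hUW i
  exact ⟨l.symm.trans l'⟩

/-- Smoothness at a point: flat, with free differentials of rank the fibre dimension. -/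
theorem mem_smoothLocus_iff_free_omega (Ω' : X.Modules) (d : OmegaSh.Der f Ω') (hd : OmegaSh.IsUniversal d)
    (x : X) :
    x ∈ f.smoothLocus ↔
      (f.stalkMap x).hom.Flat ∧
        ∃ (U : X.Opens) (n : ℕ), x ∈ U ∧ Nonempty (Ω'.restrict U.ι ≅ FlatMod.freeMod (↑U) n) ∧
          FlatMor.fibreDimAt f x = (n : WithBot ℕ∞) := by
  constructor
  · intro hx
    obtain ⟨V, hV, U, hU, e, hxU, hsm⟩ :=
      exists_smooth_of_formallySmooth_stalk f x ((Scheme.Hom.mem_smoothLocus).1 hx)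
    have hflat : (f.stalkMap x).hom.Flat := by
      letI := (f.appLE V U e).hom.toAlgebra
      haveI : Algebra.Smooth Γ(Y, V) Γ(X, U) := hsm
      haveI : Module.Flat Γ(Y, V) Γ(X, U) := Algebra.Smooth.flat _ _
      let p := (hV.primeIdealOf ⟨f x, e hxU⟩).asIdeal
      let q := (hU.primeIdealOf ⟨x, hxU⟩).asIdeal
      haveI : q.LiesOver p :=
        ⟨congr($(IsAffineOpen.comap_primeIdealOf_appLE V hV U hU e hxU).1).symm⟩
      letI := Localization.AtPrime.algebraOfLiesOver p q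
      rw [RingHom.Flat.respectsIso.arrow_mk_iso_iff (IsAffineOpen.arrowStalkMapIso f V hV U hU e hxU)]
      haveI : Module.Flat Γ(X, U) (Localization.AtPrime q) := IsLocalization.flat _ q.primeCompl
      exact RingHom.flat_algebraMap_iff.2 ((Module.flat_iff_of_isLocalization (Localization.AtPrime p)
        p.primeCompl _).2 (Module.Flat.trans Γ(Y, V) Γ(X, U) _))
    refine ⟨hflat, ?_⟩
    obtain ⟨U', hxU', hsmU⟩ : ∃ U' : X.Opens, x ∈ U' ∧ Smooth (U'.ι ≫ f) := by
      refine ⟨U, hxU, ?_⟩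
      haveI : IsAffine (V : Scheme.{u}) := hV
      haveI : IsAffine (U : Scheme.{u}) := hU
      have h1 : Smooth (f.resLE V U e) := by
        rw [HasRingHomProperty.iff_of_isAffine (P := @Smooth)]
        exact (RingHom.Smooth.propertyIsLocal.respectsIso.arrow_mk_iso_iff
          (arrowResLEAppIso f V U e)).mpr hsm
      rw [← Scheme.Hom.resLE_comp_ι f e]
      infer_instance
    haveI := hsmU
    obtain ⟨U₁, hU₁, V₁, hV₁, e₁, n, hxV₁, hstd, -, hdim⟩ :=
      Synt29.SmoothDim.exists_chart (U'.ι ≫ f) ⟨x, hxU'⟩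
    have hdimx : FlatMor.fibreDimAt f x = (n : WithBot ℕ∞) := by
      rw [← hdim]
      exact S7408.result f (U'.ι ≫ f) U'.ι (𝟙 Y) (Category.comp_id _) ⟨x, hxU'⟩
    have e' : U'.ι ''ᵁ V₁ ≤ f ⁻¹ᵁ U₁ := by
      rintro _ ⟨v, hv, rfl⟩
      exact e₁ hv
    refine ⟨U'.ι ''ᵁ V₁, n, ⟨⟨x, hxU'⟩, hxV₁, rfl⟩, ?_, hdimx⟩
    have hV₁' : IsAffineOpen (U'.ι ''ᵁ V₁) := hV₁.image_of_isOpenImmersion _
    have happ : f.appLE U₁ (U'.ι ''ᵁ V₁) e' ≫ (U'.ι.appIso V₁).hom = (U'.ι ≫ f).appLE U₁ V₁ e₁ := by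
      rw [Scheme.Hom.appIso_hom', Scheme.Hom.appLE_comp_appLE]
    have hstd' : RingHom.IsStandardSmoothOfRelativeDimension n (f.appLE U₁ (U'.ι ''ᵁ V₁) e').hom := by
      have h1 := RingHom.isStandardSmoothOfRelativeDimension_respectsIso.1 _
        (U'.ι.appIso V₁).symm.commRingCatIsoToRingEquiv hstd
      have h2 : (U'.ι ≫ f).appLE U₁ V₁ e₁ ≫ (U'.ι.appIso V₁).inv = f.appLE U₁ (U'.ι ''ᵁ V₁) e' := by
        rw [← happ, Category.assoc, Iso.hom_inv_id, Category.comp_id]
      rw [← h2, CommRingCat.hom_comp]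
      exact h1
    letI := (f.appLE U₁ (U'.ι ''ᵁ V₁) e').hom.toAlgebra
    haveI : Algebra.IsStandardSmoothOfRelativeDimension n Γ(Y, U₁) Γ(X, U'.ι ''ᵁ V₁) := hstd'
    haveI : Algebra.IsStandardSmooth Γ(Y, U₁) Γ(X, U'.ι ''ᵁ V₁) :=
      Algebra.IsStandardSmoothOfRelativeDimension.isStandardSmooth n
    haveI : Nontrivial Γ(X, U'.ι ''ᵁ V₁) := by
      refine ⟨⟨0, 1, fun h => ?_⟩⟩
      have h1 := congrArg (X.presheaf.germ (U'.ι ''ᵁ V₁) x ⟨⟨x, hxU'⟩, hxV₁, rfl⟩) h
      rw [map_zero, map_one] at h1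
      exact zero_ne_one h1
    have hr : Module.finrank Γ(X, U'.ι ''ᵁ V₁) (Ω[Γ(X, U'.ι ''ᵁ V₁)⁄Γ(Y, U₁)]) = n := by
      have := Algebra.IsStandardSmoothOfRelativeDimension.rank_kaehlerDifferential (R := Γ(Y, U₁))
        (S := Γ(X, U'.ι ''ᵁ V₁)) n
      simp [Module.finrank, this]
    let b := (Module.finBasisOfFinrankEq Γ(X, U'.ι ''ᵁ V₁) (Ω[Γ(X, U'.ι ''ᵁ V₁)⁄Γ(Y, U₁)]) hr).reindex
      Equiv.ulift.symm
    obtain ⟨l⟩ := Synt29.OmegaStalk.exists_linearEquiv_sections hd hV₁' hU₁ e'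
    exact QCoh.exists_free_restrict (Synt29.OmegaStalk.isQCoh_of_isUniversal hd) hV₁' (l.trans b.repr)
  · rintro ⟨hflat, W, n, hxW, ⟨i⟩, hn⟩
    rw [Scheme.Hom.mem_smoothLocus]
    obtain ⟨V, hV, hxV, -⟩ := exists_isAffineOpen_mem_and_subset (x := f x) (U := ⊤) trivial
    obtain ⟨U, hU, hxU, hle⟩ := exists_isAffineOpen_mem_and_subset (x := x) (U := W ⊓ f ⁻¹ᵁ V) ⟨hxW, hxV⟩
    have e : U ≤ f ⁻¹ᵁ V := fun z hz => (hle hz).2
    rw [formallySmooth_stalkMap_iff V hV U hU e hxU]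
    letI := (f.appLE V U e).hom.toAlgebra
    haveI : Algebra.FinitePresentation Γ(Y, V) Γ(X, U) := f.finitePresentation_appLE hV hU e
    obtain ⟨l⟩ := free_kaehler_of_free_restrict f hd hU (fun z hz => (hle hz).1) hV e i
    let p := (hV.primeIdealOf ⟨f x, e hxU⟩).asIdeal
    let q := (hU.primeIdealOf ⟨x, hxU⟩).asIdeal
    haveI hlo : q.LiesOver p :=
      ⟨congr($(IsAffineOpen.comap_primeIdealOf_appLE V hV U hU e hxU).1).symm⟩
    refine isSmoothAt_of_flat_of_free (hU.primeIdealOf ⟨x, hxU⟩) ?_ n l ?_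
    · have key : ∀ (p' : Ideal Γ(Y, V)) [p'.IsPrime] [q.LiesOver p'], p' = p →
          (letI := Localization.AtPrime.algebraOfLiesOver p' q
           Module.Flat (Localization.AtPrime p') (Localization.AtPrime q)) := by
        intro p' _ _ h
        subst h
        letI := Localization.AtPrime.algebraOfLiesOver p q
        exact RingHom.flat_algebraMap_iff.1
          ((RingHom.Flat.respectsIso.arrow_mk_iso_iff (IsAffineOpen.arrowStalkMapIso f V hV U hU e hxU)).1 hflat)
      haveI : q.LiesOver (q.under Γ(Y, V)) := ⟨rfl⟩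
      exact key (q.under Γ(Y, V)) hlo.over.symm
    · exact (fibreDimAt_appLE f hU hV e hxU).trans hn

end Scheme

end Groth.Agent.CIntLib
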