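import Groth.Agent.CIntLib.SmoothOmega
import Groth.Agent.CIntLib.CILocus
import Groth.Agent.CIntLib.FibDepth
import Groth.Agent.CotTLib.SmoothField
import Groth.Agent.S2082

/-!
# Smoothness over a regular base from the differentials and the dimension formula
-/

set_option autoImplicit false
set_option linter.style.haveILetI false
set_option backward.isDefEq.respectTransparency.types false

universe u

open IsLocalRing AlgebraicGeometry CategoryTheory TensorProduct

attribute [local instance] Algebra.TensorProduct.rightAlgebra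

namespace Groth.Agent.CIntLib

/-- Regular base, regular closed fibre, additive dimensions: regular. -/
theorem isRegularLocalRing_of_regular_fibre {A B : Type u} [CommRing A] [CommRing B] [IsRegularLocalRing A]
    [IsLocalRing B] [IsNoetherianRing B] (φ : A →+* B) [IsLocalHom φ]
    (h : IsRegularLocalRing (B ⧸ (maximalIdeal A).map φ))
    (hdim : ringKrullDim B = ringKrullDim A + ringKrullDim (B ⧸ (maximalIdeal A).map φ)) :
    IsRegularLocalRing B := by
  set I := (maximalIdeal A).map φ with hI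
  haveI := h
  refine IsRegularLocalRing.of_spanFinrank_maximalIdeal_le B ?_
  rw [hdim, ← (isRegularLocalRing_iff A).mp ‹_›, ← (isRegularLocalRing_iff (B ⧸ I)).mp h,
    ← WithBot.coe_natCast, ← WithBot.coe_natCast, ← WithBot.coe_natCast, ← WithBot.coe_add,
    WithBot.coe_le_coe, ← Nat.cast_add, Nat.cast_le]
  have hA : Submodule.FG (maximalIdeal A) := (maximalIdeal A).fg_of_isNoetherianRing
  have hF : Submodule.FG (maximalIdeal (B ⧸ I)) := (maximalIdeal (B ⧸ I)).fg_of_isNoetherianRing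
  set gA := Submodule.generators (maximalIdeal A) with hgA
  set gF := Submodule.generators (maximalIdeal (B ⧸ I)) with hgF
  have hA' : gA.Finite := hA.finite_generators
  have hF' : gF.Finite := hF.finite_generators
  let l : B ⧸ I → B := Function.surjInv Ideal.Quotient.mk_surjective
  have hl : ∀ z, Ideal.Quotient.mk I (l z) = z := Function.surjInv_eq Ideal.Quotient.mk_surjective
  have hspan : maximalIdeal B = Ideal.span (φ '' gA ∪ l '' gF) := by
    rw [Ideal.span_union, ← Ideal.map_span, show Ideal.span gA = maximalIdeal A from Submodule.span_generators _,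
      ← hI]
    have hmap : (maximalIdeal B).map (Ideal.Quotient.mk I) = (Ideal.span (l '' gF)).map (Ideal.Quotient.mk I) := by
      rw [RegLoc6.map_maximalIdeal_quot I, Ideal.map_span, ← Set.image_comp]
      rw [show ((Ideal.Quotient.mk I) ∘ l) = id from funext hl, Set.image_id]
      exact (Submodule.span_generators _).symm
    have hIB : I ≤ maximalIdeal B := map_maximalIdeal_le φ
    have := congrArg (Ideal.comap (Ideal.Quotient.mk I)) hmap
    rw [Ideal.comap_map_of_surjective' _ Ideal.Quotient.mk_surjective,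
      Ideal.comap_map_of_surjective' _ Ideal.Quotient.mk_surjective, Ideal.mk_ker, sup_eq_left.mpr hIB] at this
    rw [this, sup_comm]
  rw [hspan]
  refine (Submodule.spanFinrank_span_le_ncard_of_finite ((hA'.image _).union (hF'.image _))).trans
    ((Set.ncard_union_le _ _).trans (add_le_add ?_ ?_))
  · exact (Set.ncard_image_le hA').trans hA.generators_ncard.le
  · exact (Set.ncard_image_le hF').trans hF.generators_ncard.le

variable {X S : Scheme.{u}} (f : X ⟶ S) [LocallyOfFinitePresentation f]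

/-- Free differentials of rank the fibre dimension: the fibre is regular at the point. -/
theorem isRegularLocalRing_fibre_of_free_omega (Ω' : X.Modules) (d : OmegaSh.Der f Ω')
    (hd : OmegaSh.IsUniversal d) (x : X) {W : X.Opens} {n : ℕ} (hxW : x ∈ W)
    (i : Ω'.restrict W.ι ≅ FlatMod.freeMod (↑W) n) (hn : FlatMor.fibreDimAt f x = (n : WithBot ℕ∞)) :
    IsRegularLocalRing (↑(X.presheaf.stalk x) ⧸ (maximalIdeal (S.presheaf.stalk (f x))).map (f.stalkMap x).hom) := by
  obtain ⟨V, hV, hxV, -⟩ := exists_isAffineOpen_mem_and_subset (x := f x) (U := ⊤) trivial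
  obtain ⟨U, hU, hxU, hle⟩ := exists_isAffineOpen_mem_and_subset (x := x) (U := W ⊓ f ⁻¹ᵁ V) ⟨hxW, hxV⟩
  have e : U ≤ f ⁻¹ᵁ V := fun z hz => (hle hz).2
  have hn' : FlatMor.fibreDimAt (Spec.map (f.appLE V U e)) (hU.primeIdealOf ⟨x, hxU⟩) = (n : WithBot ℕ∞) :=
    (fibreDimAt_appLE f hU hV e hxU).trans hn
  letI := (f.appLE V U e).hom.toAlgebra
  haveI : Algebra.FinitePresentation Γ(S, V) Γ(X, U) := f.finitePresentation_appLE hV hU e
  obtain ⟨l⟩ := free_kaehler_of_free_restrict f hd hU (fun z hz => (hle hz).1) hV e i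
  let qp := hU.primeIdealOf ⟨x, hxU⟩
  let p := qp.asIdeal.under Γ(S, V)
  obtain ⟨Q, hQ⟩ := FibDim.exists_fiber_point (A := Γ(S, V)) qp
  have hn'' : FlatMor.localDim (PrimeSpectrum (p.Fiber Γ(X, U))) Q = (n : WithBot ℕ∞) :=
    (FibDim.localDim_fiber_eq_fibreDimAt qp Q hQ).trans hn'
  let κ := p.ResidueField
  let F := p.Fiber Γ(X, U)
  haveI : Module.Free Γ(X, U) (Ω[Γ(X, U)⁄Γ(S, V)]) := Module.Free.of_equiv l.symm
  haveI : Nontrivial Γ(X, U) := ⟨⟨0, 1, fun h => qp.2.ne_top
    ((Ideal.eq_top_iff_one _).2 (h ▸ qp.asIdeal.zero_mem))⟩⟩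
  have hB : Module.finrank Γ(X, U) (Ω[Γ(X, U)⁄Γ(S, V)]) = n := by
    rw [l.finrank_eq, Module.finrank_finsupp_self, Fintype.card_ulift, Fintype.card_fin]
  haveI : Algebra.IsPushout Γ(S, V) κ Γ(X, U) F := inferInstance
  let eF : F ⊗[Γ(X, U)] Ω[Γ(X, U)⁄Γ(S, V)] ≃ₗ[F] Ω[F⁄κ] :=
    KaehlerDifferential.tensorKaehlerEquiv Γ(S, V) κ Γ(X, U) F
  haveI : Module.Free F (Ω[F⁄κ]) := Module.Free.of_equiv eF
  haveI : Nontrivial F := ⟨⟨0, 1, fun h => Q.2.ne_top ((Ideal.eq_top_iff_one _).2 (h ▸ Q.asIdeal.zero_mem))⟩⟩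
  have hF : Module.finrank F (Ω[F⁄κ]) = n := by
    rw [← eF.finrank_eq, Module.finrank_baseChange, hB]
  obtain ⟨_, hL⟩ := free_kaehler_atPrime κ F Q.asIdeal n hF
  haveI := isSmoothAt_of_free_of_localDim κ F Q.asIdeal n hL hn''
  haveI := CotTLib.isRegularLocalRing_of_isSmoothAt (k := κ) Q.asIdeal
  obtain ⟨e₁⟩ := FlatLoc6.exists_fibLocEquiv p Q.asIdeal
  obtain ⟨e₂⟩ := exists_fibLocRing_equiv_stalk f ⟨V, hV⟩ ⟨U, hU⟩ e x hxU _ hQ
  exact @IsRegularLocalRing.of_ringEquiv (Localization.AtPrime Q.asIdeal) _ _ _ _ (e₁.trans e₂.symm)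

theorem mem_smoothLocus_iff_free_omega_of_regular [IsLocallyNoetherian S]
    (hreg : ∀ s : S, IsRegularLocalRing (S.presheaf.stalk s)) [LocallyOfFiniteType f]
    (Ω' : X.Modules) (d : OmegaSh.Der f Ω') (hd : OmegaSh.IsUniversal d) (x : X)
    (hdim : ringKrullDim (X.presheaf.stalk x) =
      ringKrullDim ((f.fiber (f x)).presheaf.stalk (f.asFiber x)) + ringKrullDim (S.presheaf.stalk (f x))) :
    x ∈ f.smoothLocus ↔
      ∃ (U : X.Opens) (n : ℕ), x ∈ U ∧ Nonempty (Ω'.restrict U.ι ≅ FlatMod.freeMod (↑U) n) ∧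
        FlatMor.fibreDimAt f x = (n : WithBot ℕ∞) := by
  refine ⟨fun h => ((mem_smoothLocus_iff_free_omega f Ω' d hd x).1 h).2, ?_⟩
  rintro ⟨U, n, hxU, ⟨i⟩, hn⟩
  refine (mem_smoothLocus_iff_free_omega f Ω' d hd x).2 ⟨?_, U, n, hxU, ⟨i⟩, hn⟩
  haveI := hreg (f x)
  have hfib := isRegularLocalRing_fibre_of_free_omega f Ω' d hd x hxU i hn
  haveI : IsLocallyNoetherian X := LocallyOfFiniteType.isLocallyNoetherian f
  obtain ⟨e⟩ := Triage.CMMor.exists_equiv_fibre_stalk f x
  rw [← ringKrullDim_eq_of_ringEquiv e, add_comm] at hdim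
  haveI hB := isRegularLocalRing_of_regular_fibre (f.stalkMap x).hom hfib hdim
  haveI : LocCoh.IsCohenMacaulayLocalRing (X.presheaf.stalk x) :=
    { supportDim_eq_depth := CotTLib.isCM_of_isRegularLocalRing (X.presheaf.stalk x) }
  letI := (f.stalkMap x).hom.toAlgebra
  haveI : IsLocalHom (algebraMap (S.presheaf.stalk (f x)) (X.presheaf.stalk x)) :=
    inferInstanceAs (IsLocalHom (f.stalkMap x).hom)
  exact RingHom.flat_algebraMap_iff.2
    (Groth.Agent.S2082.result (R := S.presheaf.stalk (f x)) (S := X.presheaf.stalk x) hdim)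

end Groth.Agent.CIntLib
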