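import Groth.Prelude.Def_RegImm
import Groth.Agent.CIntLib.QRegFree
import Groth.Agent.CIntLib.BlowFlatAlg
import Groth.Agent.Synt29.PdAt

/-!
# Powers of transversally regular ideals
-/

universe u

namespace Groth.Agent.CIntLib

theorem flat_restrictScalars_of_flat {A B M : Type u} [CommRing A] [CommRing B] [Algebra A B]
    [AddCommGroup M] [Module A M] [Module B M] [IsScalarTower A B M] [Module.Flat A M] :
    Module.Flat A (RestrictScalars A B M) :=
  Module.Flat.of_linearEquiv
    { RestrictScalars.addEquiv A B M with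
      map_smul' := fun c x => by
        simp [RestrictScalars.addEquiv_map_smul, IsScalarTower.algebraMap_smul] }

variable {A B : Type u} [CommRing A] [CommRing B] [Algebra A B] {rs : List B}

theorem flat_kerB_of_surjective {M M' : Type u} [AddCommGroup M] [Module A M] [Module B M]
    [IsScalarTower A B M] [AddCommGroup M'] [Module A M'] [Module B M'] [IsScalarTower A B M']
    [Module.Flat A M] [Module.Flat A M'] (p : M →ₗ[B] M') (hp : Function.Surjective p) :
    Module.Flat A ↥(LinearMap.ker p) := by
  have := flat_ker_of_surjective (R := A) (p.restrictScalars A) hp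
  exact Module.Flat.of_linearEquiv (M := LinearMap.ker (p.restrictScalars A))
    { toFun := fun x => ⟨x.1, x.2⟩
      invFun := fun x => ⟨x.1, x.2⟩
      map_add' := fun _ _ => rfl
      map_smul' := fun _ _ => rfl
      left_inv := fun _ => rfl
      right_inv := fun _ => rfl }

theorem flat_pieces_of_transReg (h : RegImm.IsTransRegularSeq A B rs) :
    Module.Flat A B ∧ ∀ k, Module.Flat A (B ⧸ Ideal.ofList rs ^ k) := by
  obtain ⟨hreg, hflat⟩ := h
  have h0 := hflat 0 (Nat.zero_le _)
  have h1 := hflat rs.length le_rfl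
  rw [List.take_length] at h1
  refine ⟨?_, fun k => ?_⟩
  · rw [List.take_zero, Ideal.ofList_nil] at h0
    exact Module.Flat.of_linearEquiv ((Submodule.quotEquivOfEqBot (⊥ : Ideal B) rfl).restrictScalars A).symm
  · exact flat_quotient_pow_of_normallyFlat _ (isNormallyFlat_of_weaklyRegular rs hreg) k

theorem flat_pow_of_transReg (h : RegImm.IsTransRegularSeq A B rs) (n : ℕ) :
    Module.Flat A ↥(Ideal.ofList rs ^ n) := by
  obtain ⟨hB, hk⟩ := flat_pieces_of_transReg h
  have := hk n
  have := flat_kerB_of_surjective (A := A) (Submodule.mkQ (Ideal.ofList rs ^ n)) (Submodule.mkQ_surjective _)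
  exact Module.Flat.of_linearEquiv
    ((LinearEquiv.ofEq _ _ (Submodule.ker_mkQ (Ideal.ofList rs ^ n))).symm.restrictScalars A)

theorem flat_pow_quot_of_transReg (h : RegImm.IsTransRegularSeq A B rs) {n m : ℕ} (hnm : n ≤ m) :
    Module.Flat A (↥(Ideal.ofList rs ^ n) ⧸
      (Submodule.comap (Ideal.ofList rs ^ n).subtype (Ideal.ofList rs ^ m))) := by
  obtain ⟨hB, hk⟩ := flat_pieces_of_transReg h
  have := hk n
  have := hk m
  set J := Ideal.ofList rs
  let p : (B ⧸ J ^ m) →ₗ[B] (B ⧸ J ^ n) := Submodule.factor (Ideal.pow_le_pow_right hnm)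
  have := flat_kerB_of_surjective (A := A) p (Submodule.factor_surjective _)
  let θ : ↥(J ^ n) →ₗ[B] LinearMap.ker p := LinearMap.codRestrict _ ((Submodule.mkQ (J ^ m)) ∘ₗ (J ^ n).subtype)
    (fun x => by
      rw [LinearMap.mem_ker]
      exact (Submodule.Quotient.mk_eq_zero _).mpr x.2)
  have hθ : Function.Surjective θ := by
    rintro ⟨y, hy⟩
    obtain ⟨y, rfl⟩ := Submodule.Quotient.mk_surjective _ y
    exact ⟨⟨y, (Submodule.Quotient.mk_eq_zero _).mp hy⟩, rfl⟩
  have hker : LinearMap.ker θ = Submodule.comap (J ^ n).subtype (J ^ m) := by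
    rw [LinearMap.ker_codRestrict, LinearMap.ker_comp, Submodule.ker_mkQ]
  exact Module.Flat.of_linearEquiv
    (((Submodule.quotEquivOfEq _ _ hker.symm).trans (θ.quotKerEquivOfSurjective hθ)).restrictScalars A)

end Groth.Agent.CIntLib
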