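import Mathlib
import Groth.Agent.KRegLib.WeakReg
import Groth.Agent.LC.GorLCI
import Groth.Agent.Synt29.ArtinLift
import Groth.Agent.DefGlueLib.Rel
import Groth.Agent.Synt29.KoszulWeak
import Groth.Agent.KoszulFlatLib.OfExact

/-!
# Transversal regularity in local rings: restriction to the closed fibre, and Nakayama
-/

set_option linter.style.haveILetI false

universe u

open IsLocalRing TensorProduct
open Groth.Agent.DefGlueLib (dot trivR dot_apply)

namespace Groth.Agent.CIntLib

/-- A weakly regular sequence with flat quotient stays weakly regular on a Noetherian closed fibre. -/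
theorem isWeaklyRegular_fibre {C A : Type u} [CommRing C] [CommRing A] [IsLocalRing C] [IsLocalRing A]
    [Algebra C A] [IsNoetherianRing (A ⧸ (maximalIdeal C).map (algebraMap C A))]
    [IsLocalRing (A ⧸ (maximalIdeal C).map (algebraMap C A))] (rs : List A)
    (hm : ∀ r ∈ rs, r ∈ maximalIdeal A) (hreg : RingTheory.Sequence.IsWeaklyRegular A rs)
    [Module.Flat C (A ⧸ Ideal.ofList rs)] :
    RingTheory.Sequence.IsWeaklyRegular (A ⧸ (maximalIdeal C).map (algebraMap C A))
      (rs.map (Ideal.Quotient.mk ((maximalIdeal C).map (algebraMap C A)))) := by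
  classical
  let n := rs.length
  let f : Fin n → A := fun i => rs[i]
  have hof : List.ofFn f = rs := List.ofFn_getElem (xs := rs)
  have hJ : Ideal.ofList rs = Ideal.span (Set.range f) := (LC.range_list_get rs).symm
  haveI : Module.Flat C (A ⧸ Ideal.span (Set.range f)) := hJ ▸ ‹_›
  have hrel : ∀ u, dot f u = 0 → u ∈ trivR f := fun u hu =>
    DefGlueLib.mem_trivR_of_isKoszulRegularSeq (l := rs)
      (hof ▸ KoszulFlatLib.isKoszulRegularSeq_of_isExact
        (KRegLib.isExact_of_isWeaklyRegular f (hof.symm ▸ hreg))) hu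
  set M := (maximalIdeal C).map (algebraMap C A)
  let e : (A ⧸ M) ≃+* (C ⧸ maximalIdeal C) ⊗[C] A :=
    (Algebra.TensorProduct.quotIdealMapEquivQuotTensor A (maximalIdeal C)).toRingEquiv
  have he : ∀ a : A, e.symm ((1 : C ⧸ maximalIdeal C) ⊗ₜ[C] a) = Ideal.Quotient.mk M a := fun a => by
    rw [RingEquiv.symm_apply_eq]
    rfl
  rw [← hof, List.map_ofFn]
  refine LC.weaklyRegular_of_rel n _ (fun i => ?_) fun u hu => ?_
  · rw [mem_maximalIdeal, mem_nonunits_iff]
    intro hu
    have hf := hm (f i) (List.getElem_mem _)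
    haveI : IsLocalHom (Ideal.Quotient.mk M) := IsLocalHom.of_surjective _ Ideal.Quotient.mk_surjective
    exact hf (isUnit_of_map_unit _ _ hu)
  · have h1 : dot (fun i => (1 : C ⧸ maximalIdeal C) ⊗ₜ[C] f i) (fun i => e (u i)) = 0 := by
      rw [dot_apply]
      refine Eq.trans ?_ (congrArg e hu |>.trans (map_zero e))
      rw [dot_apply, map_sum]
      refine Finset.sum_congr rfl fun i _ => ?_
      rw [map_mul, Function.comp_apply, ← he, RingEquiv.apply_symm_apply]
    have h2 := LC.map_mem_trivR e.symm.toRingHom (LC.rel_baseChange (C ⧸ maximalIdeal C) f hrel _ h1)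
    convert h2 using 2
    · funext i
      exact (he (f i)).symm
    · exact (e.symm_apply_apply _).symm

/-- With flat quotient, generators of the ideal of the closed fibre generate. -/
theorem ofList_eq_of_fibre {C A : Type u} [CommRing C] [CommRing A] [IsLocalRing C] [IsLocalRing A]
    [Algebra C A] [IsLocalHom (algebraMap C A)] (I : Ideal A) (hI : I.FG) [Module.Flat C (A ⧸ I)]
    (hs : List A) (hle : Ideal.ofList hs ≤ I)
    (hgen : I ≤ Ideal.ofList hs ⊔ (maximalIdeal C).map (algebraMap C A)) : Ideal.ofList hs = I := by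
  refine le_antisymm hle (Submodule.le_of_le_smul_of_le_jacobson_bot hI
    (IsLocalRing.maximalIdeal_le_jacobson ⊥) fun x hx => ?_)
  obtain ⟨b, hb, c, hc, rfl⟩ := Submodule.mem_sup.1 (hgen hx)
  have hcI : c ∈ I := by simpa using sub_mem hx (hle hb)
  refine Submodule.add_mem_sup hb ?_
  rw [smul_eq_mul]
  exact Ideal.mul_mono_left (map_maximalIdeal_le (algebraMap C A))
    (Synt29.ArtinLift.inf_le_mul (maximalIdeal C) I ⟨hc, hcI⟩)

/-- The same, on any presentation of the closed fibre. -/
theorem isWeaklyRegular_fibre' {C A F : Type u} [CommRing C] [CommRing A] [IsLocalRing C] [IsLocalRing A]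
    [CommRing F] [IsLocalRing F] [IsNoetherianRing F]
    [Algebra C A] (φ : A →+* F) (hφ : Function.Surjective φ)
    (hker : RingHom.ker φ = (maximalIdeal C).map (algebraMap C A)) (rs : List A)
    (hm : ∀ r ∈ rs, r ∈ maximalIdeal A) (hreg : RingTheory.Sequence.IsWeaklyRegular A rs)
    [Module.Flat C (A ⧸ Ideal.ofList rs)] :
    RingTheory.Sequence.IsWeaklyRegular F (rs.map φ) := by
  let e : (A ⧸ (maximalIdeal C).map (algebraMap C A)) ≃+* F :=
    (Ideal.quotEquivOfEq hker.symm).trans (RingHom.quotientKerEquivOfSurjective hφ)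
  haveI : IsLocalRing (A ⧸ (maximalIdeal C).map (algebraMap C A)) := e.symm.isLocalRing
  haveI : IsNoetherianRing (A ⧸ (maximalIdeal C).map (algebraMap C A)) :=
    isNoetherianRing_of_ringEquiv _ e.symm
  have h := isWeaklyRegular_fibre (C := C) rs hm hreg
  refine (AddEquiv.isWeaklyRegular_congr (e := e.toAddEquiv) ?_).1 h
  rw [List.forall₂_map_left_iff, List.forall₂_map_right_iff]
  refine List.forall₂_same.2 fun a _ y => ?_
  exact map_mul e _ y

end Groth.Agent.CIntLib
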