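import Groth.Prelude.Def_RegImm
import Groth.Prelude.Def_EGA4b
import Groth.Prelude.Def_Pi1
import Groth.Agent.CIntLib.TransRegLocal
import Groth.Agent.Synt29.RegSeq
import Groth.Agent.HomDimLib.RegFlat
import Groth.Agent.CILib.Basic
import Groth.Agent.RegLoc6.Seq

/-!
# Transversally regular sequences and complete intersection fibres (local rings)
-/

set_option linter.style.haveILetI false

universe u

open IsLocalRing RingTheory.Sequence

namespace Groth.Agent.CIntLib

variable {A C B : Type u} [CommRing A] [IsLocalRing A] [IsNoetherianRing A] [CommRing C] [IsLocalRing C]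
  [IsNoetherianRing C] [Algebra A C] [IsLocalHom (algebraMap A C)] [Module.Flat A C]

/-- A sequence regular on the closed fibre of a flat local map is transversally regular. -/
theorem isTransRegularSeq_of_fibre (hs : List C) (hm : ∀ r ∈ hs, r ∈ maximalIdeal C)
    (h : IsWeaklyRegular (EGA4.FibRing A C) (hs.map (Ideal.Quotient.mk (EGA4.mB A C)))) :
    RegImm.IsTransRegularSeq A C hs := by
  have h1 : IsWeaklyRegular (EGA4.FibRing A C) hs :=
    (isWeaklyRegular_map_algebraMap_iff (EGA4.FibRing A C) (EGA4.FibRing A C) hs).1 h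
  have h2 : IsWeaklyRegular (C ⧸ (EGA4.mB A C • ⊤ : Submodule C C)) hs := by
    refine (LinearEquiv.isWeaklyRegular_congr (Submodule.quotEquivOfEq _ _ ?_) hs).1 h1
    rw [Ideal.smul_eq_mul, Ideal.mul_top]
  obtain ⟨hw, hfl⟩ := Synt29.weaklyRegular_and_flat_of_fibre (A := A) hs C h2
  refine ⟨hw, fun j hj => ?_⟩
  have := HomDimLib.flat_take_of_flat_last (A := A) hs C hm hw hfl j hj
  have e : (Ideal.ofList (hs.take j) • ⊤ : Submodule C C) = Ideal.ofList (hs.take j) := by
    rw [Ideal.smul_eq_mul, Ideal.mul_top]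
  exact Module.Flat.of_linearEquiv ((Submodule.quotEquivOfEq _ _ e.symm).restrictScalars A)

variable [CommRing B] [IsLocalRing B] [Algebra C B] [Algebra A B] [IsScalarTower A C B]
  [IsLocalHom (algebraMap A B)]

/-- The ideal is generated by a transversally regular sequence iff the quotient is flat with complete
intersection fibre. -/
theorem exists_transReg_iff (hreg : IsRegularLocalRing (EGA4.FibRing A C))
    (hsurj : Function.Surjective (algebraMap C B)) :
    (∃ rs : List C, Ideal.ofList rs = RingHom.ker (algebraMap C B) ∧ RegImm.IsTransRegularSeq A C rs) ↔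
      (Module.Flat A B ∧ Pi1.IsCompleteIntersection (EGA4.FibRing A B)) := by
  let J := RingHom.ker (algebraMap C B)
  have hmap : EGA4.mB A B = (EGA4.mB A C).map (algebraMap C B) := by
    rw [EGA4.mB, EGA4.mB, Ideal.map_map, ← IsScalarTower.algebraMap_eq]
  let π : EGA4.FibRing A C →+* EGA4.FibRing A B :=
    Ideal.quotientMap (EGA4.mB A B) (algebraMap C B) (hmap ▸ Ideal.le_comap_map)
  have hπ : Function.Surjective π := fun z => by
    obtain ⟨z, rfl⟩ := Ideal.Quotient.mk_surjective z
    obtain ⟨c, rfl⟩ := hsurj z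
    exact ⟨Ideal.Quotient.mk _ c, rfl⟩
  haveI : Nontrivial (EGA4.FibRing A B) := Ideal.Quotient.nontrivial_iff.2 fun e =>
    (maximalIdeal.isMaximal B).ne_top (top_le_iff.1 (e ▸ map_maximalIdeal_le (algebraMap A B)))
  haveI : IsLocalRing (EGA4.FibRing A B) := .of_surjective' π hπ
  let mk := Ideal.Quotient.mk (EGA4.mB A C)
  have hker : RingHom.ker π = J.map mk := by
    rw [← Ideal.map_comap_of_surjective mk Ideal.Quotient.mk_surjective (RingHom.ker π), RingHom.comap_ker]
    have hcomp : π.comp mk = (Ideal.Quotient.mk (EGA4.mB A B)).comp (algebraMap C B) := RingHom.ext fun c => rfl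
    rw [hcomp, ← RingHom.comap_ker, Ideal.mk_ker, hmap, Ideal.comap_map_of_surjective _ hsurj,
      ← RingHom.ker_eq_comap_bot, Ideal.map_sup, (Ideal.map_eq_bot_iff_le_ker mk).2 Ideal.mk_ker.ge,
      bot_sup_eq]
  let eB : (C ⧸ J) ≃ₗ[A] B :=
    (Ideal.quotientKerAlgEquivOfSurjective (f := IsScalarTower.toAlgHom A C B) hsurj).toLinearEquiv
  rw [CILib.isCI_iff_regular π hπ]
  constructor
  · rintro ⟨rs, hI, hw, hfl⟩
    have hlast := hfl rs.length le_rfl
    rw [List.take_length, hI] at hlast
    refine ⟨Module.Flat.of_linearEquiv eB.symm, rs.map mk, ?_, by rw [hker, ← Ideal.map_ofList, hI]⟩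
    haveI : Module.Flat A (C ⧸ Ideal.ofList rs) := hI ▸ hlast
    have h := isWeaklyRegular_fibre' (C := A) mk Ideal.Quotient.mk_surjective Ideal.mk_ker rs
      (fun r hr => le_maximalIdeal (RingHom.ker_ne_top (algebraMap C B)) (hI ▸ Ideal.subset_span hr)) hw
    refine RegLoc6.isRegular_iff_weakly _ (fun r hr => ?_) h
    obtain ⟨c, hc, rfl⟩ := List.mem_map.1 hr
    refine le_maximalIdeal (RingHom.ker_ne_top π) ?_
    rw [hker, show J = Ideal.ofList rs from hI.symm]
    exact Ideal.mem_map_of_mem _ (Ideal.subset_span hc)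
  · rintro ⟨hB, fs, hfs, hfI⟩
    haveI := hB
    haveI : Module.Flat A (C ⧸ J) := Module.Flat.of_linearEquiv eB
    obtain ⟨hs, hhs, hhsI⟩ : ∃ hs : List C, hs.map mk = fs ∧ ∀ a ∈ hs, a ∈ J := by
      have hlift : ∀ r ∈ fs, ∃ a ∈ J, mk a = r := fun r hr =>
        (Ideal.mem_map_iff_of_surjective mk Ideal.Quotient.mk_surjective).1
          ((hfI.symm.trans hker).le (Ideal.subset_span hr))
      clear hfs hfI
      induction fs with
      | nil => exact ⟨[], rfl, by simp⟩
      | cons r fs ih =>
        obtain ⟨a, ha, rfl⟩ := hlift r (by simp)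
        obtain ⟨hs, h1, h2⟩ := ih (fun r hr => hlift r (by simp [hr]))
        exact ⟨a :: hs, by simp [h1], by simpa using ⟨ha, h2⟩⟩
    have hgen : J ≤ Ideal.ofList hs ⊔ (maximalIdeal A).map (algebraMap A C) := by
      have h1 : J ≤ (J.map mk).comap mk := Ideal.le_comap_map
      rw [← hker, hfI, ← hhs, ← Ideal.map_ofList, Ideal.comap_map_of_surjective mk Ideal.Quotient.mk_surjective,
        ← RingHom.ker_eq_comap_bot, Ideal.mk_ker] at h1
      exact h1
    have hEq : Ideal.ofList hs = J :=
      ofList_eq_of_fibre (C := A) J (IsNoetherian.noetherian _) hs (Ideal.span_le.2 hhsI) hgen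
    refine ⟨hs, hEq, isTransRegularSeq_of_fibre hs (fun r hr =>
      le_maximalIdeal (RingHom.ker_ne_top (algebraMap C B)) (hhsI r hr)) ?_⟩
    rw [hhs]
    exact hfs.1

end Groth.Agent.CIntLib
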