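import Groth.Prelude.Def_CInt
import Groth.Prelude.Def_Mor2
import Groth.Agent.CIntLib.TransRegLocal
import Groth.Agent.CIntLib.RegStalk
import Groth.Agent.CIntLib.QRegFree
import Groth.Agent.CIntLib.BlowNormFlat
import Groth.Agent.FibFlat.Stalk
import Groth.Agent.Triage.SliceFlatSch
import Groth.Agent.S12442

/-!
# Regular immersions and the fibres
-/

set_option linter.style.haveILetI false
set_option backward.isDefEq.respectTransparency.types false

universe u

open CategoryTheory AlgebraicGeometry IsLocalRing RingTheory.Sequence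

namespace Groth.Agent.CIntLib

variable {X Y S : Scheme.{u}}

theorem ker_fiberMap_stalkMap (u : Y ⟶ X) [IsClosedImmersion u] (g : X ⟶ S) (s : S)
    (w : ↥((u ≫ g).fiber s)) (y : Y) (hy : (u ≫ g).fiberι s w = y)
    (hv : g.fiberι s (CInt.fiberMap u g s w) = u y) :
    RingHom.ker ((CInt.fiberMap u g s).stalkMap w).hom =
      (RingHom.ker (u.stalkMap y).hom).map (FibFlat.sm (g.fiberι s) (CInt.fiberMap u g s w) (u y) hv) := by
  set fm := CInt.fiberMap u g s
  set φ := FibFlat.sm (g.fiberι s) (fm w) (u y) hv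
  set φ' := FibFlat.sm ((u ≫ g).fiberι s) w y hy
  have hsq : fm ≫ g.fiberι s = (u ≫ g).fiberι s ≫ u := Limits.pullback.lift_fst _ _ _
  have hφ : Function.Surjective φ := FibFlat.surjective_sm _ _ _
  have e1 := FibFlat.sm_comp fm (g.fiberι s) w (fm w) (u y) rfl hv
  have e2 := FibFlat.sm_comp ((u ≫ g).fiberι s) u w y (u y) hy rfl
  have key : ((fm.stalkMap w).hom).comp φ = φ'.comp (u.stalkMap y).hom := by
    rw [FibFlat.sm_self] at e1 e2
    rw [← e1, ← e2]
    simp only [hsq]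
  have hM : RingHom.ker φ = (maximalIdeal (S.presheaf.stalk (g (u y)))).map (g.stalkMap (u y)).hom := by
    rw [FibFlat.ker_sm_fiberι g s (fm w) (u y) hv, FibFlat.sm_self]
  have hM' : RingHom.ker φ' = ((maximalIdeal (S.presheaf.stalk (g (u y)))).map (g.stalkMap (u y)).hom).map
      (u.stalkMap y).hom := by
    rw [FibFlat.ker_sm_fiberι (u ≫ g) s w y hy, FibFlat.sm_self, Scheme.Hom.stalkMap_comp, Ideal.map_map]
    rfl
  have hker : (RingHom.ker (fm.stalkMap w).hom).comap φ =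
      (RingHom.ker φ').comap (u.stalkMap y).hom := by
    rw [RingHom.comap_ker, RingHom.comap_ker, key]
  rw [← Ideal.map_comap_of_surjective φ hφ (RingHom.ker (fm.stalkMap w).hom), hker, hM',
    Ideal.comap_map_of_surjective _ (u.stalkMap_surjective y), ← RingHom.ker_eq_comap_bot, Ideal.map_sup,
    ← hM, (Ideal.map_eq_bot_iff_le_ker φ).2 le_rfl, bot_sup_eq]

theorem ideal_ker_fg (u : Y ⟶ X) [IsClosedImmersion u] [LocallyOfFinitePresentation u] (U : X.affineOpens) :
    (u.ker.ideal U).FG := by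
  have h : (u.app U.1).hom.FinitePresentation := by
    have h := u.finitePresentation_appLE U.2 (U.2.preimage u) le_rfl
    rwa [← Scheme.Hom.app_eq_appLE] at h
  let := (u.app U.1).hom.toAlgebra
  have : Algebra.FinitePresentation Γ(X, U.1) Γ(Y, u ⁻¹ᵁ U.1) := h
  rw [Scheme.Hom.ker_apply]
  exact Algebra.FinitePresentation.ker_fG_of_surjective (Algebra.ofId Γ(X, U.1) Γ(Y, u ⁻¹ᵁ U.1))
    (u.app_surjective U.1 U.2)

theorem fg_ker_stalkMap (u : Y ⟶ X) [IsClosedImmersion u] [LocallyOfFinitePresentation u] (y : Y) :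
    (RingHom.ker (u.stalkMap y).hom).FG := by
  obtain ⟨U, hU, hyU, -⟩ := exists_isAffineOpen_mem_and_subset (U := ⊤) (x := u y) trivial
  rw [ker_stalkMap_eq_map_germ u y ⟨U, hU⟩ hyU]
  exact (ideal_ker_fg u ⟨U, hU⟩).map _

theorem flat_quotient_stalk (u : Y ⟶ X) [IsClosedImmersion u] (g : X ⟶ S) (y : Y)
    (hfl : ((u ≫ g).stalkMap y).hom.Flat) :
    letI := (g.stalkMap (u y)).hom.toAlgebra
    Module.Flat (S.presheaf.stalk (g (u y))) (X.presheaf.stalk (u y) ⧸ RingHom.ker (u.stalkMap y).hom) := by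
  letI := (g.stalkMap (u y)).hom.toAlgebra
  letI : Algebra (S.presheaf.stalk (g (u y))) (Y.presheaf.stalk y) :=
    ((u ≫ g).stalkMap y).hom.toAlgebra
  haveI : Module.Flat (S.presheaf.stalk (g (u y))) (Y.presheaf.stalk y) := hfl
  refine Module.Flat.of_linearEquiv
    ({ stalkQuotEquiv u y with
       map_smul' := fun c z => ?_ } :
      (X.presheaf.stalk (u y) ⧸ RingHom.ker (u.stalkMap y).hom) ≃ₗ[S.presheaf.stalk (g (u y))] Y.presheaf.stalk y)
  obtain ⟨z, rfl⟩ := Ideal.Quotient.mk_surjective z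
  show stalkQuotEquiv u y (Ideal.Quotient.mk _ ((g.stalkMap (u y)).hom c * z)) =
    ((u ≫ g).stalkMap y).hom c * stalkQuotEquiv u y (Ideal.Quotient.mk _ z)
  rw [Scheme.Hom.stalkMap_comp]
  exact map_mul (u.stalkMap y).hom _ z

/-- Transversal regularity restricts to the fibres. -/
theorem regAt_fiberMap (u : Y ⟶ X) [IsClosedImmersion u] (g : X ⟶ S) [LocallyOfFiniteType g] [Flat (u ≫ g)] (s : S)
    (w : ↥((u ≫ g).fiber s)) (h : RegAt u ((u ≫ g).fiberι s w)) : RegAt (CInt.fiberMap u g s) w := by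
  obtain ⟨y, hy⟩ : ∃ y, (u ≫ g).fiberι s w = y := ⟨_, rfl⟩
  rw [hy] at h
  obtain ⟨rs, hrs, hI⟩ := h
  have hsq : CInt.fiberMap u g s ≫ g.fiberι s = (u ≫ g).fiberι s ≫ u := Limits.pullback.lift_fst _ _ _
  have hv : g.fiberι s (CInt.fiberMap u g s w) = u y := by
    rw [← Scheme.Hom.comp_apply, hsq, Scheme.Hom.comp_apply, hy]
  haveI : LocallyOfFiniteType (g.fiberToSpecResidueField s) :=
    MorphismProperty.pullback_snd (P := @LocallyOfFiniteType) g _ inferInstance
  haveI : IsLocallyNoetherian (g.fiber s) :=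
    LocallyOfFiniteType.isLocallyNoetherian (g.fiberToSpecResidueField s)
  set φ := FibFlat.sm (g.fiberι s) (CInt.fiberMap u g s w) (u y) hv
  letI := (g.stalkMap (u y)).hom.toAlgebra
  haveI : Module.Flat (S.presheaf.stalk (g (u y))) (X.presheaf.stalk (u y) ⧸ Ideal.ofList rs) := by
    rw [hI]; exact flat_quotient_stalk u g y (Flat.stalkMap (u ≫ g) y)
  refine ⟨rs.map φ, isWeaklyRegular_fibre' (C := S.presheaf.stalk (g (u y))) φ (FibFlat.surjective_sm _ _ _)
    ((FibFlat.ker_sm_fiberι g s _ (u y) hv).trans (by rw [FibFlat.sm_self]; rfl)) rs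
    (mem_maximalIdeal_of_regAt _ hI) hrs, ?_⟩
  rw [← Ideal.map_ofList, hI, ker_fiberMap_stalkMap u g s w y hy hv]

/-- A closed immersion into a locally Noetherian scheme is regular as soon as it is so at each point. -/
theorem isRegularClosedImmersion_of_regAt {Z T : Scheme.{u}} [IsLocallyNoetherian T] (i : Z ⟶ T)
    [IsClosedImmersion i] (h : ∀ z, RegAt i z) : Mor2.IsRegularClosedImmersion i := by
  refine ⟨inferInstance, fun z => ?_⟩
  obtain ⟨V, hzV, -, hV⟩ := (regAt_iff i z).mp (h z)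
  obtain ⟨U, hU, hzU, rs, hrs, hI⟩ := hV ⟨z, hzV⟩
  rw [Scheme.ker_morphismRestrict_ideal] at hI
  exact ⟨V.ι ''ᵁ U, hU.image_of_isOpenImmersion _, ⟨_, hzU, morphismRestrict_base_coe i V ⟨z, hzV⟩⟩,
    rs, hrs, hI⟩

/-- A regular closed immersion is regular at each point. -/
theorem regAt_of_isRegularClosedImmersion {Z T : Scheme.{u}} (i : Z ⟶ T) (h : Mor2.IsRegularClosedImmersion i)
    (z : Z) : haveI := h.1; RegAt i z := by
  haveI := h.1
  obtain ⟨U, hU, hzU, rs, hrs, hI⟩ := h.2 z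
  exact regAt_of_affine i z ⟨U, hU⟩ hzU rs hrs.1 hI

theorem exists_away_eq_of_map_eq {B : Type u} [CommRing B] (q : Ideal B) [q.IsPrime] {T : Type u} [CommRing T]
    [Algebra B T] [IsLocalization.AtPrime T q] {I J : Ideal B} (hI : I.FG) (hJ : J.FG)
    (h : I.map (algebraMap B T) = J.map (algebraMap B T)) :
    ∃ t, t ∉ q ∧ ∀ (L : Type u) [CommRing L] [Algebra B L], IsUnit (algebraMap B L t) →
      I.map (algebraMap B L) = J.map (algebraMap B L) := by
  classical
  have key : ∀ {I J : Ideal B}, I.FG → I.map (algebraMap B T) ≤ J.map (algebraMap B T) →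
      ∃ t, t ∉ q ∧ ∀ x ∈ I, t * x ∈ J := by
    intro I J hI hle
    obtain ⟨gs, rfl⟩ := hI
    have hd : ∀ x ∈ gs, ∃ m : q.primeCompl, (m : B) * x ∈ J := fun x hx => by
      obtain ⟨m, hm, hmx⟩ := (IsLocalization.algebraMap_mem_map_algebraMap_iff q.primeCompl T J x).1
        (hle (Ideal.mem_map_of_mem _ (Ideal.subset_span hx)))
      exact ⟨⟨m, hm⟩, hmx⟩
    choose m hm using hd
    let M : q.primeCompl := ∏ x ∈ gs.attach, m x.1 x.2
    refine ⟨M, M.2, fun x hx => ?_⟩
    induction hx using Submodule.span_induction with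
    | mem x hx =>
      show (↑(∏ x ∈ gs.attach, m x.1 x.2) : B) * x ∈ J
      rw [← Finset.mul_prod_erase _ _ (Finset.mem_attach gs ⟨x, hx⟩), Submonoid.coe_mul,
        mul_comm (m x hx : B), mul_assoc]
      exact Ideal.mul_mem_left _ _ (hm x hx)
    | zero => simp
    | add a b _ _ ha hb => rw [mul_add]; exact add_mem ha hb
    | smul c a _ ha => rw [smul_eq_mul, mul_left_comm]; exact Ideal.mul_mem_left _ _ ha
  obtain ⟨t₁, ht₁, h₁⟩ := key hI h.le
  obtain ⟨t₂, ht₂, h₂⟩ := key hJ h.ge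
  refine ⟨t₁ * t₂, fun hm => (Ideal.IsPrime.mem_or_mem inferInstance hm).elim ht₁ ht₂, fun L _ _ hu => ?_⟩
  rw [map_mul, IsUnit.mul_iff] at hu
  refine le_antisymm (Ideal.map_le_iff_le_comap.2 fun x hx => ?_) (Ideal.map_le_iff_le_comap.2 fun x hx => ?_)
  · rw [Ideal.mem_comap, ← Ideal.unit_mul_mem_iff_mem _ hu.1, ← map_mul]
    exact Ideal.mem_map_of_mem _ (h₁ x hx)
  · rw [Ideal.mem_comap, ← Ideal.unit_mul_mem_iff_mem _ hu.2, ← map_mul]
    exact Ideal.mem_map_of_mem _ (h₂ x hx)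

/-- Regularity in the fibre spreads, given flatness. -/
theorem exists_regular_nhd_of_fiberMap (u : Y ⟶ X) [IsClosedImmersion u] (g : X ⟶ S)
    [LocallyOfFinitePresentation g] [LocallyOfFinitePresentation (u ≫ g)] (y : Y)
    (hfl : ((u ≫ g).stalkMap y).hom.Flat) (hflat : (g.stalkMap (u y)).hom.Flat)
    (h : RegAt (CInt.fiberMap u g ((u ≫ g) y)) ((u ≫ g).asFiber y)) :
    ∃ (U : X.Opens) (hU : IsAffineOpen U), u y ∈ U ∧ ∃ rs : List Γ(X, U),
      RingTheory.Sequence.IsRegular Γ(X, U) rs ∧ u.ker.ideal ⟨U, hU⟩ = Ideal.ofList rs := by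
  haveI : LocallyOfFinitePresentation u := Groth.Agent.S12442.result u g
  suffices main : ∀ (s : S) (w : ↥((u ≫ g).fiber s)), (u ≫ g).fiberι s w = y →
      RegAt (CInt.fiberMap u g s) w →
      ∃ (U : X.Opens) (hU : IsAffineOpen U), u y ∈ U ∧ ∃ rs : List Γ(X, U),
        RingTheory.Sequence.IsRegular Γ(X, U) rs ∧ u.ker.ideal ⟨U, hU⟩ = Ideal.ofList rs from
    main _ _ ((u ≫ g).fiberι_asFiber y) h
  clear h
  intro s w hy h
  have hsq : CInt.fiberMap u g s ≫ g.fiberι s = (u ≫ g).fiberι s ≫ u := Limits.pullback.lift_fst _ _ _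
  have hv : g.fiberι s (CInt.fiberMap u g s w) = u y := by
    rw [← Scheme.Hom.comp_apply, hsq, Scheme.Hom.comp_apply, hy]
  obtain ⟨fs, hfs, hfI⟩ := h
  set φ := FibFlat.sm (g.fiberι s) (CInt.fiberMap u g s w) (u y) hv
  have hφ : Function.Surjective φ := FibFlat.surjective_sm _ _ _
  have hM : RingHom.ker φ = (maximalIdeal (S.presheaf.stalk (g (u y)))).map (g.stalkMap (u y)).hom := by
    rw [FibFlat.ker_sm_fiberι g s _ (u y) hv, FibFlat.sm_self]
  rw [ker_fiberMap_stalkMap u g s w y hy hv] at hfI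
  set I := RingHom.ker (u.stalkMap y).hom
  have hlift : ∀ r ∈ fs, ∃ a ∈ I, φ a = r := fun r hr =>
    (Ideal.mem_map_iff_of_surjective φ hφ).1 (hfI ▸ Ideal.subset_span hr)
  obtain ⟨hs, hhs, hhsI⟩ : ∃ hs : List (X.presheaf.stalk (u y)), hs.map φ = fs ∧ ∀ a ∈ hs, a ∈ I := by
    clear hfs hfI
    induction fs with
    | nil => exact ⟨[], rfl, by simp⟩
    | cons r fs ih =>
      obtain ⟨a, ha, rfl⟩ := hlift r (by simp)
      obtain ⟨hs, h1, h2⟩ := ih (fun r hr => hlift r (by simp [hr]))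
      exact ⟨a :: hs, by simp [h1], by simpa using ⟨ha, h2⟩⟩
  have hle : Ideal.ofList hs ≤ I := Ideal.span_le.2 fun a ha => hhsI a ha
  have hcomap : ∀ l : List (X.presheaf.stalk (u y)), (Ideal.ofList (l.map φ)).comap φ =
      Ideal.ofList l ⊔ (maximalIdeal (S.presheaf.stalk (g (u y)))).map (g.stalkMap (u y)).hom := fun l => by
    rw [← Ideal.map_ofList, Ideal.comap_map_of_surjective φ hφ, ← RingHom.ker_eq_comap_bot, hM]
  have hgen : I ≤ Ideal.ofList hs ⊔ (maximalIdeal (S.presheaf.stalk (g (u y)))).map (g.stalkMap (u y)).hom := by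
    rw [← hcomap, hhs, hfI]
    exact Ideal.le_comap_map
  have heq : Ideal.ofList hs = I := by
    letI := (g.stalkMap (u y)).hom.toAlgebra
    haveI : IsLocalHom (algebraMap (S.presheaf.stalk (g (u y))) (X.presheaf.stalk (u y))) :=
      inferInstanceAs (IsLocalHom (g.stalkMap (u y)).hom)
    haveI : Module.Flat (S.presheaf.stalk (g (u y))) (X.presheaf.stalk (u y) ⧸ I) := flat_quotient_stalk u g y hfl
    exact ofList_eq_of_fibre (C := S.presheaf.stalk (g (u y))) I (fg_ker_stalkMap u y) hs hle hgen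
  obtain ⟨V, hV, U, hU, hxU, -, e, hs', hgerm, -, hwr, -⟩ := Triage.SliceFlat.exists_slice_sch g (u y) hflat hs
    (mem_maximalIdeal_of_regAt _ heq) (fun i hi z hz => by
      rw [← hcomap] at hz ⊢
      rw [Ideal.mem_comap, map_mul, List.map_take, hhs] at hz
      rw [Ideal.mem_comap, List.map_take, hhs]
      have hi' : i < fs.length := by rw [← hhs]; simpa using hi
      have hreg := hfs.regular_mod_prev i hi'
      rw [isSMulRegular_quotient_iff_mem_of_smul_mem] at hreg
      have := hreg (φ z) (by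
        rw [smul_eq_mul, smul_eq_mul, Ideal.mul_top]
        convert hz using 2
        simp only [← hhs, List.getElem_map])
      rwa [smul_eq_mul, Ideal.mul_top] at this) ⊤ trivial
  letI := (X.presheaf.germ U (u y) hxU).hom.toAlgebra
  haveI : IsLocalization.AtPrime (X.presheaf.stalk (u y)) (hU.primeIdealOf ⟨u y, hxU⟩).asIdeal :=
    hU.isLocalization_stalk ⟨u y, hxU⟩
  classical
  obtain ⟨t, ht, hteq⟩ := exists_away_eq_of_map_eq (T := X.presheaf.stalk (u y)) (hU.primeIdealOf ⟨u y, hxU⟩).asIdeal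
    (I := u.ker.ideal ⟨U, hU⟩) (J := Ideal.ofList hs') (ideal_ker_fg u ⟨U, hU⟩)
    ⟨hs'.toFinset, by rw [Ideal.ofList]; congr 1; ext; simp⟩ (by
      rw [Ideal.map_ofList]
      exact (ker_stalkMap_eq_map_germ u y ⟨U, hU⟩ hxU).symm.trans (heq.symm.trans (congrArg Ideal.ofList hgerm.symm)))
  letI : Algebra Γ(X, U) Γ(X, X.basicOpen t) := (X.presheaf.map (homOfLE (X.basicOpen_le t)).op).hom.toAlgebra
  haveI : IsLocalization.Away t Γ(X, X.basicOpen t) := hU.isLocalization_basicOpen t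
  have hideal : u.ker.ideal ⟨X.basicOpen t, hU.basicOpen t⟩ =
      Ideal.ofList (hs'.map (algebraMap Γ(X, U) Γ(X, X.basicOpen t))) := by
    rw [← u.ker.map_ideal (U := ⟨X.basicOpen t, hU.basicOpen t⟩) (V := ⟨U, hU⟩) (X.basicOpen_le t),
      ← Ideal.map_ofList]
    exact hteq Γ(X, X.basicOpen t) (IsLocalization.Away.algebraMap_isUnit t)
  have hyt : u y ∈ X.basicOpen t := by
    rw [X.mem_basicOpen t (u y) hxU]
    exact IsLocalization.map_units (X.presheaf.stalk (u y)) (⟨t, ht⟩ : (hU.primeIdealOf ⟨u y, hxU⟩).asIdeal.primeCompl)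
  refine ⟨X.basicOpen t, hU.basicOpen t, hyt, _, ⟨hwr.of_isLocalization _ (Submonoid.powers t), ?_⟩, hideal⟩
  intro htop
  rw [smul_eq_mul, Ideal.mul_top, ← hideal] at htop
  have hsupp := (Scheme.IdealSheafData.mem_support_iff_of_mem (U := ⟨X.basicOpen t, hU.basicOpen t⟩) hyt).mp
    (Scheme.Hom.range_subset_ker_support u ⟨y, rfl⟩)
  rw [← htop, Scheme.mem_zeroLocus_iff] at hsupp
  exact hsupp 1 Submodule.mem_top (by simp [hyt])

/-- A regular immersion with flat source is flat near the source. -/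
theorem flat_stalkMap_of_regular (u : Y ⟶ X) (g : X ⟶ S) [LocallyOfFinitePresentation g]
    [LocallyOfFinitePresentation (u ≫ g)] [Flat (u ≫ g)] [IsClosedImmersion u] (h : ∀ y, RegAt u y) (y : Y) :
    (g.stalkMap (u y)).hom.Flat := by
  have e : u.toImage ≫ u.ker.subschemeι = u := u.toImage_imageι
  have : IsIso u.toImage := inferInstance
  have hcomp : u.ker.subschemeι ≫ g = inv u.toImage ≫ u ≫ g := by
    rw [IsIso.eq_inv_comp, ← Category.assoc, e]
  haveI : LocallyOfFinitePresentation (u.ker.subschemeι ≫ g) := by rw [hcomp]; infer_instance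
  haveI : Flat (u.ker.subschemeι ≫ g) := by rw [hcomp]; infer_instance
  have hnf : ∀ z : ↥u.ker.subscheme, EGA4.IsNormallyFlat (RingHom.ker (u.ker.subschemeι.stalkMap z).hom)
      ↑(X.presheaf.stalk (u.ker.subschemeι z)) := by
    intro z
    obtain ⟨y, hy⟩ : ∃ y, u y = u.ker.subschemeι z := by
      refine ⟨inv u.toImage z, ?_⟩
      have hh : inv u.toImage ≫ u = u.ker.subschemeι := (IsIso.inv_comp_eq _).mpr e.symm
      rw [← Scheme.Hom.comp_apply, hh]
    obtain ⟨U, hU, hzU, -⟩ := exists_isAffineOpen_mem_and_subset (U := ⊤) (x := u.ker.subschemeι z) trivial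
    rw [ker_stalkMap_eq_map_germ u.ker.subschemeι z ⟨U, hU⟩ hzU, Scheme.IdealSheafData.ker_subschemeι]
    have key : ∀ (x : X) (hx : x ∈ U), x = u y → EGA4.IsNormallyFlat
        ((u.ker.ideal ⟨U, hU⟩).map (X.presheaf.germ U x hx).hom) (X.presheaf.stalk x) := by
      rintro x hx rfl
      obtain ⟨rs, hrs, hI⟩ := h y
      rw [← ker_stalkMap_eq_map_germ u y ⟨U, hU⟩ hx, ← hI]
      exact isNormallyFlat_of_weaklyRegular rs hrs
    exact key _ hzU hy.symm
  obtain ⟨W, hW, hWflat⟩ := flat_nhd_of_normallyFlat g u.ker hnf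
  exact hWflat _ (hW (Scheme.Hom.range_subset_ker_support u ⟨y, rfl⟩))

theorem regular_flat_iff_fibrewise (u : Y ⟶ X) (g : X ⟶ S) [IsClosedImmersion u]
    [LocallyOfFinitePresentation g] [LocallyOfFinitePresentation (u ≫ g)] :
    (Flat (u ≫ g) ∧ Mor2.IsRegularClosedImmersion u) ↔
      ((∀ y : ↥Y, (g.stalkMap (u y)).hom.Flat) ∧ Flat (u ≫ g) ∧
        ∀ s : ↥S, Mor2.IsRegularClosedImmersion (CInt.fiberMap u g s)) := by
  have hcl : ∀ s : S, IsClosedImmersion (CInt.fiberMap u g s) := fun s =>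
    MorphismProperty.of_isPullback (P := @IsClosedImmersion)
      (Triage.SliceFlat.isPullback_map u g (u ≫ g) (S.fromSpecResidueField s) (by simp) (by simp)).flip inferInstance
  constructor
  · rintro ⟨hfl, hreg⟩
    have hat : ∀ y, RegAt u y := regAt_of_isRegularClosedImmersion u hreg
    refine ⟨flat_stalkMap_of_regular u g hat, hfl, fun s => ?_⟩
    haveI := hcl s
    haveI : LocallyOfFiniteType (g.fiberToSpecResidueField s) :=
      MorphismProperty.pullback_snd (P := @LocallyOfFiniteType) g _ inferInstance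
    haveI : IsLocallyNoetherian (g.fiber s) :=
      LocallyOfFiniteType.isLocallyNoetherian (g.fiberToSpecResidueField s)
    exact isRegularClosedImmersion_of_regAt _ fun w => regAt_fiberMap u g s w (hat _)
  · rintro ⟨hflat, hfl, hfib⟩
    refine ⟨hfl, inferInstance, fun y => ?_⟩
    exact exists_regular_nhd_of_fiberMap u g y (Flat.stalkMap (u ≫ g) y) (hflat y)
      (regAt_of_isRegularClosedImmersion _ (hfib _) _)

end Groth.Agent.CIntLib
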