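import Groth.Agent.SymAlgX.Universal
import Groth.Agent.QCoh.LocFree
import Groth.Prelude.Def_RelSpec
import Mathlib.LinearAlgebra.SymmetricAlgebra.Basis
import Mathlib.AlgebraicGeometry.Morphisms.Smooth

/-!
# A vector bundle is smooth over its base
-/

set_option autoImplicit false
set_option linter.style.haveILetI false
set_option backward.isDefEq.respectTransparency.types false

universe u

open CategoryTheory CategoryTheory.Limits AlgebraicGeometry TopologicalSpace Opposite

namespace Groth.Agent.CIntLib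

theorem smooth_vectorBundle {S : Scheme.{u}} (E : S.Modules) (hE : Coh.IsQCoh E)
    (hlf : FlatMod.IsFinLocFree E) (A : RelSpec.QCAlg S) (j : E ⟶ A.toModule) (hA : RelSpec.IsSymAlg E A j) :
    Smooth A.π := by
  choose W n hW e using hlf
  choose U hU hxU hle using fun x => exists_isAffineOpen_mem_and_subset (x := x) (U := W x) (hW x)
  let 𝒰 : A.spec.OpenCover := Scheme.Cover.mkOfCovers S (fun x => Spec (A.presheaf.obj (op (U x))))
    (fun x => A.ι (U x) (hU x)) fun z => by
      have hz : z ∈ (A.ι (U (A.π z)) (hU (A.π z))).opensRange := by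
        rw [← A.π_preimage]
        exact hxU (A.π z)
      obtain ⟨y, hy⟩ := hz
      exact ⟨A.π z, y, hy⟩
  rw [IsZariskiLocalAtSource.iff_of_openCover (P := @Smooth) 𝒰]
  intro x
  show Smooth (A.ι (U x) (hU x) ≫ A.π)
  rw [A.ι_π]
  haveI : Smooth (Spec.map (A.str.app (op (U x)))) := by
    rw [HasRingHomProperty.Spec_iff (P := @Smooth)]
    obtain ⟨e'⟩ := e x
    obtain ⟨l⟩ := QCoh.free_sections (hU x) (hle x) e'
    let φ := SymAlgX.symLift (A := A.presheaf.obj (op (U x))) (A.str.app (op (U x))).hom (j.app (U x)).hom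
      (fun r y => Scheme.Modules.Hom.app_smul j r y)
    have hφ := SymAlgX.bijective_symLift_app hE hA (U x) (hU x)
    letI := (A.str.app (op (U x))).hom.toAlgebra
    let ψ : SymmetricAlgebra Γ(S, U x) Γ(E, U x) →ₐ[Γ(S, U x)] A.presheaf.obj (op (U x)) :=
      { φ with commutes' := fun r => SymAlgX.symLift_algebraMap _ _ _ r }
    let eq₁ : SymmetricAlgebra Γ(S, U x) Γ(E, U x) ≃ₐ[Γ(S, U x)] A.presheaf.obj (op (U x)) :=
      AlgEquiv.ofBijective ψ hφ
    let eq₂ : MvPolynomial (ULift.{u} (Fin (n x))) Γ(S, U x) ≃ₐ[Γ(S, U x)] A.presheaf.obj (op (U x)) :=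
      (SymmetricAlgebra.equivMvPolynomial (Module.Basis.ofRepr l)).symm.trans eq₁
    haveI : Algebra.Smooth Γ(S, U x) (MvPolynomial (ULift.{u} (Fin (n x))) Γ(S, U x)) :=
      ⟨inferInstance, inferInstance⟩
    exact Algebra.Smooth.of_equiv eq₂
  infer_instance

end Groth.Agent.CIntLib
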